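import Cfsg.Agent.Lib.FirstPower.Family
import Cfsg.Agent.Lib.DegreeBounds.Basic
import Cfsg.Agent.Lib.Characters.Kernel
import Cfsg.Agent.Lib.Characters.Linear
import Mathlib.GroupTheory.Sylow

/-!
# Degrees, the normalizer of `⟨x⟩`
-/

namespace Cfsg.Agent.Lib.FirstPower.Consequences

open Periods Average Cfsg.Agent.Lib.Characters.Basic
open CharOrbit (IsVPart)
open Family (pow_eq_one_of_order)

universe u

variable {p : ℕ} [Fact p.Prime] {G : Type u} [Group G] [Finite G] {x : G}

theorem sum_zmod_split {M : Type*} [AddCommMonoid M] (f : ZMod p → M) :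
    ∑ z : ZMod p, f z = f 0 + ∑ u : (ZMod p)ˣ, f u := by
  classical
  rw [← Finset.add_sum_erase _ _ (Finset.mem_univ (0 : ZMod p))]
  congr 1
  exact Finset.sum_bij' (fun z hz => Units.mk0 z (Finset.mem_erase.mp hz).1)
    (fun l _ => (l : ZMod p)) (fun _ _ => Finset.mem_univ _)
    (fun l _ => Finset.mem_erase.mpr ⟨l.ne_zero, Finset.mem_univ _⟩) (fun _ _ => rfl)
    (fun l _ => Units.ext rfl) (fun z _ => rfl)

/-- The degree modulo `p`, from the sum over the nontrivial powers of `x`. -/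
theorem degree_zmod (hx : x ^ p = 1) (χ : Cfsg.IrrCharacter G) {s : ℤ}
    (hs : ∑ u : (ZMod p)ˣ, (χ : G → ℂ) (x ^ (u : ZMod p).val) = s) :
    ((Cfsg.charDegree (χ : G → ℂ) : ℤ) + s : ZMod p) = 0 := by
  obtain ⟨c, hc⟩ := sum_apply_pow hx (isCharacter_irr χ)
  rw [sum_zmod_split, hs, ZMod.val_zero, pow_zero, DegreeBounds.Basic.charDegree_irr] at hc
  have h : (Cfsg.charDegree (χ : G → ℂ) : ℤ) + s = (p : ℤ) * c := by
    have : (((Cfsg.charDegree (χ : G → ℂ) : ℤ) + s : ℤ) : ℂ) = (((p : ℤ) * c : ℤ) : ℂ) := by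
      push_cast; exact hc
    exact_mod_cast this
  have := congrArg (Int.cast : ℤ → ZMod p) h
  push_cast at this
  rw [ZMod.natCast_self, zero_mul] at this
  exact_mod_cast this

/-- Degree of a character constant `a` off `1` on `⟨x⟩`. -/
theorem degree_of_const (hx : x ^ p = 1) (χ : Cfsg.IrrCharacter G) {a : ℤ}
    (ha : ∀ u : (ZMod p)ˣ, (χ : G → ℂ) (x ^ (u : ZMod p).val) = a) :
    ((Cfsg.charDegree (χ : G → ℂ) : ZMod p)) = a := by
  have h := degree_zmod hx χ (s := ((p - 1 : ℕ) : ℤ) * a) (by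
    rw [Finset.sum_congr rfl fun u _ => ha u, Finset.sum_const, Finset.card_univ,
      ZMod.card_units, nsmul_eq_mul]
    push_cast; rfl)
  push_cast [Nat.cast_sub (Fact.out : p.Prime).one_le, ZMod.natCast_self] at h
  linear_combination h

/-- Degree of an exceptional character. -/
theorem degree_of_period (E : Subgroup (ZMod p)ˣ) (hx : x ^ p = 1) (χ : Cfsg.IrrCharacter G)
    {δ : ℤ} (q : (ZMod p)ˣ ⧸ E)
    (ha : ∀ u : (ZMod p)ˣ, (χ : G → ℂ) (x ^ (u : ZMod p).val) =
      δ * eta E (q * QuotientGroup.mk u)) :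
    ((Cfsg.charDegree (χ : G → ℂ) : ZMod p)) = δ * (Nat.card E : ℕ) := by
  classical
  have := Fintype.ofFinite E
  have := Fintype.ofFinite ((ZMod p)ˣ ⧸ E)
  have h := degree_zmod hx χ (s := -(δ * (Nat.card E : ℕ))) (by
    rw [Finset.sum_congr rfl fun u _ => ha u, ← Finset.mul_sum,
      ← Finset.sum_fiberwise Finset.univ (fun u : (ZMod p)ˣ =>
        (QuotientGroup.mk u : (ZMod p)ˣ ⧸ E))]
    have hf : ∀ r : (ZMod p)ˣ ⧸ E,
        ∑ u ∈ Finset.univ.filter (fun u : (ZMod p)ˣ =>
          (QuotientGroup.mk u : (ZMod p)ˣ ⧸ E) = r), eta E (q * QuotientGroup.mk u) =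
        (Fintype.card E : ℂ) * eta E (q * r) := by
      intro r
      rw [Finset.sum_congr rfl fun u hu => by rw [(Finset.mem_filter.mp hu).2],
        Finset.sum_const, card_fiber, nsmul_eq_mul]
    simp only [hf, ← Finset.mul_sum]
    have hs : ∑ r, eta E (q * r) = -1 := by
      rw [← sum_eta_shift E q]
      exact Finset.sum_congr rfl fun r _ => by rw [mul_comm q]
    rw [hs, Nat.card_eq_fintype_card]
    push_cast; ring)
  push_cast at h
  linear_combination h

theorem sum_zero_degree (hx : x ^ p = 1) (χ : Cfsg.IrrCharacter G)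
    (ha : ∀ u : (ZMod p)ˣ, (χ : G → ℂ) (x ^ (u : ZMod p).val) = 0) :
    p ∣ Cfsg.charDegree (χ : G → ℂ) := by
  have h := degree_of_const hx χ (a := 0) (by simpa using ha)
  rw [Int.cast_zero] at h
  exact (ZMod.natCast_eq_zero_iff _ _).mp h

theorem aval_bot (χ : G → ℂ) (z : ZMod p) : aval x ⊥ χ z = χ (x ^ z.val) := by
  rw [aval, finsum_eq_single _ (1 : (⊥ : Subgroup G))]
  · simp
  · intro v hv
    exact absurd (Subtype.ext (Subgroup.mem_bot.mp v.2)) hv

theorem isVPart_bot (hx : orderOf x = p)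
    (hC : Subgroup.centralizer ({x} : Set G) = Subgroup.zpowers x) : IsVPart p x ⊥ := by
  intro y
  rw [Subgroup.mem_bot, hC]
  constructor
  · rintro rfl
    exact ⟨one_mem _, by simp [(Fact.out : p.Prime).ne_one]⟩
  · rintro ⟨hy, hyp⟩
    have := orderOf_dvd_of_mem_zpowers hy
    rw [hx] at this
    rcases (Nat.dvd_prime (Fact.out : p.Prime)).mp this with h | h
    · exact orderOf_eq_one_iff.mp h
    · exact absurd h.symm.dvd hyp

/-- `|N(⟨x⟩)| = |E| |C(x)|`. -/
theorem card_normalizer (hx : orderOf x = p) :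
    Nat.card (Subgroup.normalizer (Subgroup.zpowers x : Set G)) =
      Nat.card (autE (pow_eq_one_of_order hx)) *
        Nat.card (Subgroup.centralizer ({x} : Set G)) := by
  classical
  have hxp := pow_eq_one_of_order hx
  have := Fintype.ofFinite (autE hxp)
  set f : (Σ u : autE hxp, {g : G // g * x * g⁻¹ = x ^ ((u : (ZMod p)ˣ) : ZMod p).val}) →
      Subgroup.normalizer (Subgroup.zpowers x : Set G) := fun s => ⟨s.2.1, by
    have hmap : (Subgroup.zpowers x).map (MulAut.conj s.2.1).toMonoidHom =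
        Subgroup.zpowers x := by
      rw [MonoidHom.map_zpowers]
      refine Subgroup.eq_of_le_of_card_ge ?_ ?_
      · rw [Subgroup.zpowers_le]
        show s.2.1 * x * s.2.1⁻¹ ∈ _
        rw [s.2.2]
        exact pow_mem (Subgroup.mem_zpowers x) _
      · rw [Nat.card_zpowers, Nat.card_zpowers,
          show (MulAut.conj s.2.1).toMonoidHom x = MulAut.conj s.2.1 x from rfl,
          MulEquiv.orderOf_eq]
    rw [Subgroup.mem_normalizer_iff_map_conj_eq]
    exact hmap⟩ with hf
  have hbij : Function.Bijective f := by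
    constructor
    · rintro ⟨⟨u, hu⟩, g, hg⟩ ⟨⟨w, hw⟩, g', hg'⟩ h
      simp only [hf, Subtype.mk.injEq] at h
      subst h
      have : u = w := Units.ext (pow_val_inj hx (hg.symm.trans hg'))
      subst this
      rfl
    · rintro ⟨g, hg⟩
      obtain ⟨a, ha⟩ := (mem_zpowers_iff_val hxp).mp
        ((Subgroup.mem_normalizer_iff.mp hg x).mp (Subgroup.mem_zpowers x))
      have ha0 : a ≠ 0 := by
        rintro rfl
        rw [ZMod.val_zero, pow_zero, eq_comm, conj_eq_one_iff] at ha
        rw [ha, orderOf_one] at hx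
        exact (Fact.out : p.Prime).ne_one hx.symm
      exact ⟨⟨⟨Units.mk0 a ha0, (mem_autE hxp).mpr (isConj_iff.mpr ⟨g, ha.symm⟩)⟩,
        ⟨g, ha.symm⟩⟩, rfl⟩
  have hfib : ∀ u : autE hxp,
      Nat.card {g : G // g * x * g⁻¹ = x ^ ((u : (ZMod p)ˣ) : ZMod p).val} =
        Nat.card (Subgroup.centralizer ({x} : Set G)) := fun u => by
    rw [Chars82.Convolution.card_conj_eq, if_pos ((mem_autE hxp).mp u.2)]
  rw [← Nat.card_congr (Equiv.ofBijective f hbij), Nat.card_sigma,
    Finset.sum_congr rfl fun u _ => hfib u, Finset.sum_const, Finset.card_univ, smul_eq_mul,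
    ← Nat.card_eq_fintype_card]

theorem exists_sylow (hx : orderOf x = p) (h2 : ¬ p ^ 2 ∣ Nat.card G) :
    ∃ P : Sylow p G, (P : Subgroup G) = Subgroup.zpowers x := by
  have hP : IsPGroup p (Subgroup.zpowers x) :=
    IsPGroup.of_card (n := 1) (by rw [Nat.card_zpowers, hx, pow_one])
  obtain ⟨P, hle⟩ := hP.exists_le_sylow
  refine ⟨P, (Subgroup.eq_of_le_of_card_ge hle ?_).symm⟩
  obtain ⟨n, hn⟩ := P.isPGroup'.exists_card_eq
  have hn1 : n ≤ 1 := by
    by_contra h
    exact h2 ((pow_dvd_pow p (by omega : 2 ≤ n)).trans (hn ▸ Subgroup.card_subgroup_dvd_card _))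
  rw [Nat.card_zpowers, hx, hn]
  calc p ^ n ≤ p ^ 1 := Nat.pow_le_pow_right (Fact.out : p.Prime).pos hn1
    _ = p := pow_one p

/-- `|G| = n_p e p |V|`. -/
theorem card_eq (hx : orderOf x = p) (h2 : ¬ p ^ 2 ∣ Nat.card G) {V : Subgroup G}
    (hV : IsVPart p x V) :
    Nat.card G = Nat.card (Sylow p G) *
      (Nat.card (autE (pow_eq_one_of_order hx)) * (p * Nat.card V)) := by
  obtain ⟨P, hP⟩ := exists_sylow hx h2
  rw [← card_centralizer hx h2 hV, ← card_normalizer hx, P.card_eq_index_normalizer,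
    show (↑P : Set G) = (Subgroup.zpowers x : Set G) from congrArg SetLike.coe hP,
    mul_comm, Subgroup.card_mul_index]

theorem charDegree_eq_one_of_perfect (hperf : commutator G = ⊤) (χ : Cfsg.IrrCharacter G)
    (h1 : Cfsg.charDegree (χ : G → ℂ) = 1) : χ = oneChar G := by
  have hd : (χ : G → ℂ) 1 = 1 := by rw [DegreeBounds.Basic.charDegree_irr, h1, Nat.cast_one]
  let f := Characters.Linear.degOneHom (isCharacter_irr χ) hd
  have hker : commutator G ≤ f.ker := Abelianization.commutator_subset_ker f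
  refine Subtype.ext (funext fun g => ?_)
  rw [oneChar_apply]
  have h : f g = 1 := hker (hperf ▸ Subgroup.mem_top g)
  rw [← Characters.Linear.degOneHom_apply (isCharacter_irr χ) hd g]
  exact congrArg Units.val h

end Cfsg.Agent.Lib.FirstPower.Consequences
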