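import Cfsg.Agent.Lib.FirstPower.Core
import Mathlib.LinearAlgebra.Charpoly.Basic
import Mathlib.LinearAlgebra.Trace
import Mathlib.LinearAlgebra.Eigenspace.Zero
import Mathlib.RingTheory.Nilpotent.Lemmas
import Mathlib.Algebra.CharP.Algebra
import Mathlib.Algebra.CharP.Lemmas
import Mathlib.Algebra.Polynomial.RingDivision

/-!
# Small modular representations and the centralizer of an element of order `p`

`p` divides `|G|` exactly once, `x` has order `p`, the conjugates of `x` generate `G`, and `A` is a
representation of degree `n` with `2 n ≤ p` in characteristic `p`.  Then the images of the elements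
of order prime to `p` which centralize `x` commute with the image of `G`.

The proof is a transfer argument on the endomorphisms of the module: an averaged projection onto
the part of the fixed endomorphisms outside the image of `X - 1` is stable under `G`.
-/

namespace Cfsg.Agent.Lib.FirstPower.ModularTrace

open Module

section nilpotent

variable {k : Type*} [Field k] {V : Type*} [AddCommGroup V] [Module k V] [FiniteDimensional k V]

theorem pow_finrank_eq_zero {d : Module.End k V} (h : IsNilpotent d) :
    d ^ finrank k V = 0 := by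
  have h2 := LinearMap.aeval_self_charpoly d
  rwa [(LinearMap.isNilpotent_iff_charpoly d).mp h, map_pow, Polynomial.aeval_X] at h2

/-- An endomorphism whose powers have trace zero, in dimension below the characteristic. -/
theorem isNilpotent_of_trace (p : ℕ) [CharP k p] (hV : finrank k V < p) (d : Module.End k V)
    (h : ∀ j : ℕ, 1 ≤ j → LinearMap.trace k V (d ^ j) = 0) : IsNilpotent d := by
  classical
  set n := finrank k V
  obtain ⟨g, hg, hgdvd⟩ := Polynomial.exists_eq_pow_rootMultiplicity_mul_and_not_dvd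
    d.charpoly d.charpoly_monic.ne_zero 0
  set i := Polynomial.rootMultiplicity 0 d.charpoly
  simp only [map_zero, sub_zero] at hg hgdvd
  have hcop : IsCoprime g (Polynomial.X ^ (n + 1)) :=
    ((Polynomial.irreducible_X.coprime_iff_not_dvd.mpr hgdvd).symm).pow_right
  obtain ⟨a, b, hab⟩ := hcop
  have hzero : Polynomial.aeval d g * d ^ (n + 1) = 0 := by
    have hi : i ≤ n + 1 := by
      have h1 : i ≤ d.charpoly.natDegree := by
        have h := Polynomial.natDegree_le_of_dvd (Dvd.intro g hg.symm) d.charpoly_monic.ne_zero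
        rwa [Polynomial.natDegree_X_pow] at h
      rw [LinearMap.charpoly_natDegree] at h1
      omega
    have h2 := LinearMap.aeval_self_charpoly d
    rw [hg, map_mul, map_pow, Polynomial.aeval_X] at h2
    have h3 : Commute (d ^ i) (Polynomial.aeval d g) := by
      rw [← Polynomial.aeval_X_pow (R := k) d]
      exact (Commute.all _ g).map (Polynomial.aeval d).toRingHom
    rw [h3.eq] at h2
    rw [show n + 1 = i + (n + 1 - i) by omega, pow_add, ← mul_assoc, h2, zero_mul]
  set e := Polynomial.aeval d b * d ^ (n + 1) with he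
  have hone : Polynomial.aeval d a * Polynomial.aeval d g + e = 1 := by
    have := congrArg (Polynomial.aeval d) hab
    rwa [map_add, map_mul, map_mul, map_pow, Polynomial.aeval_X, map_one] at this
  have hage : Polynomial.aeval d a * Polynomial.aeval d g * e = 0 := by
    have hc : Commute (Polynomial.aeval d g) (Polynomial.aeval d b) :=
      (Commute.all g b).map (Polynomial.aeval d).toRingHom
    rw [he, mul_assoc, ← mul_assoc (Polynomial.aeval d g), hc.eq, mul_assoc, hzero, mul_zero,
      mul_zero]
  have hee : IsIdempotentElem e := by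
    have := congrArg (· * e) hone
    simp only [add_mul, hage, zero_add, one_mul] at this
    exact this
  have htr : LinearMap.trace k V e = 0 := by
    have : e = ∑ j ∈ Finset.range (b.natDegree + 1), b.coeff j • d ^ (j + (n + 1)) := by
      rw [he, Polynomial.aeval_eq_sum_range, Finset.sum_mul]
      exact Finset.sum_congr rfl fun j _ => by rw [smul_mul_assoc, ← pow_add]
    rw [this, map_sum]
    exact Finset.sum_eq_zero fun j _ => by rw [map_smul, h _ (by omega), smul_zero]
  rw [(LinearMap.IsIdempotentElem.isProj_range _ hee).trace] at htr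
  have hr : finrank k (LinearMap.range e) = 0 := by
    rw [CharP.cast_eq_zero_iff k p] at htr
    refine Nat.eq_zero_of_dvd_of_lt htr (lt_of_le_of_lt ?_ hV)
    exact Submodule.finrank_le _
  have he0 : e = 0 := by
    rw [← LinearMap.range_eq_bot]
    exact Submodule.finrank_eq_zero.mp hr
  rw [he0, add_zero] at hone
  refine ⟨n + 1, ?_⟩
  rw [← one_mul (d ^ (n + 1)), ← hone, mul_assoc, hzero, mul_zero]

end nilpotent

/-- A sum over a set without fixed points is a norm. -/
theorem exists_norm_form {p : ℕ} [Fact p.Prime] {ι R : Type*} [Ring R] (σ : Equiv.Perm ι)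
    (hσ : ∀ c, (σ ^ p) c = c) (Φ : ι → R) (X Y : R)
    (hΦ : ∀ c, Φ (σ c) = X * Φ c * Y) (S : Finset ι) (hS : ∀ c ∈ S, σ c ∈ S)
    (hfix : ∀ c ∈ S, σ c ≠ c) :
    p ∣ S.card ∧ ∃ a : R, ∑ c ∈ S, Φ c = ∑ i ∈ Finset.range p, X ^ i * a * Y ^ i := by
  classical
  induction S using Finset.strongInduction with
  | _ S ih =>
    rcases S.eq_empty_or_nonempty with rfl | ⟨c, hc⟩
    · exact ⟨dvd_zero p, 0, by simp⟩
    have hpow : ∀ (i : ℕ) (c' : ι), c' ∈ S → (σ ^ i) c' ∈ S := by
      intro i c' hc'
      induction i with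
      | zero => simpa using hc'
      | succ i ih2 => rw [pow_succ', Equiv.Perm.mul_apply]; exact hS _ ih2
    have hΦpow : ∀ i : ℕ, Φ ((σ ^ i) c) = X ^ i * Φ c * Y ^ i := by
      intro i
      induction i with
      | zero => simp
      | succ i ih2 =>
        rw [pow_succ' σ, Equiv.Perm.mul_apply, hΦ, ih2, pow_succ' X, pow_succ Y]
        simp only [mul_assoc]
    have hinj : Set.InjOn (fun i : ℕ => (σ ^ i) c) (Finset.range p : Set ℕ) := by
      have key : ∀ i j, i < j → j < p → (σ ^ i) c ≠ (σ ^ j) c := by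
        intro i j hij hjp h
        have h1 : (σ ^ (j - i)) ((σ ^ i) c) = (σ ^ i) c := by
          rw [← Equiv.Perm.mul_apply, ← pow_add, Nat.sub_add_cancel hij.le, ← h]
        have hcop : Nat.Coprime (j - i) p :=
          Nat.Coprime.symm ((Fact.out : p.Prime).coprime_iff_not_dvd.mpr fun hd =>
            absurd (Nat.le_of_dvd (by omega) hd) (by omega))
        obtain ⟨m, hm⟩ := Nat.exists_mul_mod_eq_one_of_coprime hcop (Fact.out : p.Prime).one_lt
        refine hfix _ (hpow i c hc) ?_
        have h2 : ∀ t, ((σ ^ (j - i)) ^ t) ((σ ^ i) c) = (σ ^ i) c := by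
          intro t
          induction t with
          | zero => rfl
          | succ t ih3 => rw [pow_succ, Equiv.Perm.mul_apply, h1, ih3]
        have h4 : ∀ t, ((σ ^ p) ^ t) ((σ ^ i) c) = (σ ^ i) c := by
          intro t
          induction t with
          | zero => rfl
          | succ t ih3 => rw [pow_succ, Equiv.Perm.mul_apply, hσ, ih3]
        have h3 := h2 m
        rw [← pow_mul, ← Nat.mod_add_div ((j - i) * m) p, hm.2, pow_add, pow_one,
          Equiv.Perm.mul_apply, pow_mul, h4] at h3
        exact h3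
      intro i hi j hj h
      rw [Finset.coe_range, Set.mem_Iio] at hi hj
      rcases Nat.lt_trichotomy i j with h' | h' | h'
      · exact absurd h (key i j h' hj)
      · exact h'
      · exact absurd h.symm (key j i h' hi)
    set O := (Finset.range p).image (fun i : ℕ => (σ ^ i) c) with hO
    have hcard : O.card = p := by rw [hO, Finset.card_image_of_injOn hinj, Finset.card_range]
    have hOS : O ⊆ S := by
      intro c' hc'
      obtain ⟨i, -, rfl⟩ := Finset.mem_image.mp hc'
      exact hpow i c hc
    have hcO : c ∈ O := Finset.mem_image.mpr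
      ⟨0, Finset.mem_range.mpr (Fact.out : p.Prime).pos, rfl⟩
    have hOinv : ∀ c', σ c' ∈ O → c' ∈ O := by
      intro c' h
      obtain ⟨i, hi, hi'⟩ := Finset.mem_image.mp h
      have h5 : c' = (σ ^ ((i + (p - 1)) % p)) c := by
        apply σ.injective
        have hp1 : i + (p - 1) + 1 = i + p := by have := (Fact.out : p.Prime).pos; omega
        have h6 : ∀ m, (σ ^ (m % p)) c = (σ ^ m) c := by
          intro m
          have h4 : ∀ t, ((σ ^ p) ^ t) c = c := by
            intro t
            induction t with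
            | zero => rfl
            | succ t ih3 => rw [pow_succ, Equiv.Perm.mul_apply, hσ, ih3]
          conv_rhs => rw [← Nat.mod_add_div m p, pow_add, pow_mul, Equiv.Perm.mul_apply, h4]
        rw [← hi', h6, ← Equiv.Perm.mul_apply, ← pow_succ', hp1, pow_add, Equiv.Perm.mul_apply,
          hσ]
      rw [h5]
      exact Finset.mem_image.mpr
        ⟨_, Finset.mem_range.mpr (Nat.mod_lt _ (Fact.out : p.Prime).pos), rfl⟩
    obtain ⟨hdvd, a, ha⟩ := ih (S \ O) (Finset.sdiff_ssubset hOS ⟨c, hcO⟩)
      (fun c' hc' => by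
        rw [Finset.mem_sdiff] at hc' ⊢
        exact ⟨hS c' hc'.1, fun h => hc'.2 (hOinv c' h)⟩)
      (fun c' hc' => hfix c' (Finset.mem_sdiff.mp hc').1)
    refine ⟨?_, a + Φ c, ?_⟩
    · rw [← Finset.card_sdiff_add_card_eq_card hOS, hcard]
      exact Nat.dvd_add hdvd dvd_rfl
    · rw [← Finset.sum_sdiff hOS, ha, hO, Finset.sum_image hinj, ← Finset.sum_add_distrib]
      refine Finset.sum_congr rfl fun i _ => ?_
      rw [hΦpow, mul_add, add_mul]

variable {p : ℕ} [Fact p.Prime] {G : Type*} [Group G] [Finite G] {x : G}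
variable {k : Type*} [Field k] [CharP k p] {V : Type*} [AddCommGroup V] [Module k V]
  [FiniteDimensional k V]

/-- The action by conjugation on endomorphisms. -/
noncomputable def conjRep (A : G →* Module.End k V) : G →* Module.End k (Module.End k V) where
  toFun g := LinearMap.mulLeft k (A g) * LinearMap.mulRight k (A g⁻¹)
  map_one' := LinearMap.ext fun f => by simp
  map_mul' g h := LinearMap.ext fun f => by
    show A (g * h) * (f * A (g * h)⁻¹) = A g * (A h * (f * A h⁻¹) * A g⁻¹)
    rw [mul_inv_rev, map_mul, map_mul]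
    simp only [mul_assoc]

theorem conjRep_apply (A : G →* Module.End k V) (g : G) (f : Module.End k V) :
    conjRep A g f = A g * f * A g⁻¹ := (mul_assoc _ _ _).symm

theorem conjRep_eq_iff (A : G →* Module.End k V) (g : G) (f : Module.End k V) :
    conjRep A g f = f ↔ Commute (A g) f := by
  have h1 : A g⁻¹ * A g = 1 := by rw [← map_mul, inv_mul_cancel, map_one]
  have h2 : A g * A g⁻¹ = 1 := by rw [← map_mul, mul_inv_cancel, map_one]
  rw [conjRep_apply]
  constructor
  · intro h
    have := congrArg (· * A g) h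
    simp only [mul_assoc, h1, mul_one] at this
    exact this
  · intro h
    rw [h.eq, mul_assoc, h2, mul_one]

theorem conjRep_sub_one_pow (A : G →* Module.End k V) (hx : orderOf x = p)
    (hV : 2 * finrank k V ≤ p) :
    (conjRep A x - 1) ^ (p - 1) = 0 := by
  rcases subsingleton_or_nontrivial V with hs | hs
  · exact LinearMap.ext fun f => Subsingleton.elim _ _
  have hn : 0 < finrank k V := Module.finrank_pos
  haveI : CharP (Module.End k V) p :=
    charP_of_injective_algebraMap (R := k) (FaithfulSMul.algebraMap_injective k _) p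
  set d := A x - 1 with hd
  have hdn : IsNilpotent d := ⟨p, by
    rw [hd, sub_pow_char_of_commute p (Commute.one_right (A x)), one_pow, ← map_pow, ← hx,
      pow_orderOf_eq_one, map_one, sub_self]⟩
  have hd0 := pow_finrank_eq_zero hdn
  set L : Module.End k (Module.End k V) := LinearMap.mulLeft k d
  set R : Module.End k (Module.End k V) := LinearMap.mulRight k d
  set J : Module.End k (Module.End k V) := LinearMap.mulRight k (A x⁻¹)
  have h2 : A x * A x⁻¹ = 1 := by rw [← map_mul, mul_inv_cancel, map_one]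
  have hsplit : conjRep A x - 1 = J * (L - R) := by
    refine LinearMap.ext fun f => ?_
    show conjRep A x f - f = (d * f - f * d) * A x⁻¹
    rw [conjRep_apply, hd]
    simp only [sub_mul, mul_sub, one_mul, mul_one, mul_assoc, h2]
    abel
  have hdJ : Commute d (A x⁻¹) :=
    (((show Commute x x⁻¹ from Commute.inv_right (Commute.refl x)).map A)).sub_left
      (Commute.one_left _)
  have hJ : Commute J (L - R) := by
    refine LinearMap.ext fun f => ?_
    show (d * f - f * d) * A x⁻¹ = d * (f * A x⁻¹) - f * A x⁻¹ * d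
    rw [sub_mul, mul_assoc, mul_assoc f d, hdJ.eq, ← mul_assoc f]
  have hLR : Commute L (-R) := (LinearMap.commute_mulLeft_right d d).neg_right
  have hL : L ^ finrank k V = 0 := by
    rw [LinearMap.pow_mulLeft, hd0, LinearMap.mulLeft_zero_eq_zero]
  have hR : (-R) ^ finrank k V = 0 := by
    have h0 : R ^ finrank k V = 0 := by
      rw [LinearMap.pow_mulRight, hd0, LinearMap.mulRight_zero_eq_zero]
    refine (neg_pow R _).trans ?_
    rw [h0, mul_zero]
  rw [hsplit, hJ.mul_pow, sub_eq_add_neg,
    hLR.add_pow_eq_zero_of_add_le_succ_of_pow_eq_zero hL hR (by omega), mul_zero]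

theorem sum_pow_eq_sub_pow {E : Type*} [Ring E] [Algebra k E] (X : E) :
    ∑ i ∈ Finset.range p, X ^ i = (X - 1) ^ (p - 1) := by
  have h : ∑ i ∈ Finset.range p, (Polynomial.X : Polynomial k) ^ i =
      (Polynomial.X - 1) ^ (p - 1) := by
    have hne : (Polynomial.X : Polynomial k) - 1 ≠ 0 := by
      simpa using Polynomial.X_sub_C_ne_zero (1 : k)
    refine mul_right_cancel₀ hne ?_
    rw [geom_sum_mul, ← pow_succ, Nat.sub_add_cancel (Fact.out : p.Prime).one_le,
      sub_pow_char, one_pow]
  have := congrArg (Polynomial.aeval X) h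
  simpa [map_sum] using this

set_option maxHeartbeats 2000000 in
/-- The equivariant projection. -/
theorem exists_equivariant_proj (C : G →* Module.End k V) (hx : orderOf x = p)
    (h2 : ¬ p ^ 2 ∣ Nat.card G) (hnil : (C x - 1) ^ (p - 1) = 0) :
    ∃ Ω : Module.End k V, (∀ g, Commute (C g) Ω) ∧ C x * Ω = Ω ∧
      ∀ f, C x f = f → ∃ f', Ω f - f = C x f' - f' := by
  classical
  have hp : p.Prime := Fact.out
  have hxp : x ^ p = 1 := hx ▸ pow_orderOf_eq_one x
  obtain ⟨Q, hQp, hQN, hQdec⟩ := Core.exists_complement hx h2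
  set X := C x with hX
  set K := LinearMap.ker (X - 1) with hK
  set R := LinearMap.range (X - 1) with hR
  have hmemK : ∀ {f}, f ∈ K ↔ X f = f := fun {f} => by simp [hK, sub_eq_zero]
  have hXp : ∀ i : ℕ, ∀ {f}, f ∈ K → C (x ^ i) f = f := by
    intro i f hf
    induction i with
    | zero => simp
    | succ i ih =>
      rw [pow_succ, map_mul, Module.End.mul_apply, hmemK.mp hf, ih]
  have hRp : ∀ i : ℕ, ∀ f, C (x ^ i) f - f ∈ R := by
    intro i f
    rw [map_pow]
    refine ⟨(∑ j ∈ Finset.range i, X ^ j) f, ?_⟩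
    rw [← Module.End.mul_apply, mul_geom_sum]
    rfl
  have hconj : ∀ h ∈ Q, ∃ i : ℕ, h * x * h⁻¹ = x ^ i := by
    intro h hh
    have := (Subgroup.mem_normalizer_iff.mp (hQN hh) x).mp (Subgroup.mem_zpowers x)
    obtain ⟨i, hi⟩ := mem_powers_iff_mem_zpowers.mpr this
    exact ⟨i, hi.symm⟩
  have hQK : ∀ h ∈ Q, ∀ f ∈ K, C h f ∈ K := by
    intro h hh f hf
    obtain ⟨i, hi⟩ := hconj h⁻¹ (inv_mem hh)
    rw [inv_inv] at hi
    rw [hmemK, ← Module.End.mul_apply, hX, ← map_mul,
      show x * h = h * x ^ i by rw [← hi]; group, map_mul, Module.End.mul_apply, hXp i hf]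
  -- a projection modulo the range
  obtain ⟨W, hW⟩ := exists_isCompl (R.comap K.subtype)
  set W' := W.map K.subtype with hW'
  let e : (W' × R) →ₗ[k] V := W'.subtype.coprod R.subtype
  have he : Function.Injective e := by
    rw [← LinearMap.ker_eq_bot, LinearMap.ker_eq_bot']
    rintro ⟨⟨w, hw⟩, ⟨r, hr⟩⟩ h0
    obtain ⟨w0, hw0, rfl⟩ := Submodule.mem_map.mp hw
    have hsum : (w0 : V) + r = 0 := h0
    have hwR : w0 ∈ R.comap K.subtype := by
      show (w0 : V) ∈ R
      rw [eq_neg_of_add_eq_zero_left hsum]
      exact neg_mem hr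
    have hw00 : w0 = 0 := by
      have : w0 ∈ R.comap K.subtype ⊓ W := ⟨hwR, hw0⟩
      rwa [hW.inf_eq_bot, Submodule.mem_bot] at this
    subst hw00
    rw [ZeroMemClass.coe_zero, zero_add] at hsum
    subst hsum
    rfl
  obtain ⟨L, hL⟩ := LinearMap.exists_leftInverse_of_injective e (LinearMap.ker_eq_bot.mpr he)
  let π₀ : Module.End k V := W'.subtype ∘ₗ LinearMap.fst k W' R ∘ₗ L
  have hπK : ∀ f, π₀ f ∈ K := fun f => by
    obtain ⟨w0, -, hw0⟩ := Submodule.mem_map.mp (L f).1.2
    show ((L f).1 : V) ∈ K
    rw [← hw0]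
    exact w0.2
  have hπR : ∀ r ∈ R, π₀ r = 0 := by
    intro r hr
    have h := LinearMap.congr_fun hL (0, ⟨r, hr⟩)
    have h' : L r = (0, ⟨r, hr⟩) := by simpa [e] using h
    show ((L r).1 : V) = 0
    rw [h']
    rfl
  have hπid : ∀ f ∈ K, π₀ f - f ∈ R := by
    intro f hf
    have hmem : (⟨f, hf⟩ : K) ∈ R.comap K.subtype ⊔ W := hW.sup_eq_top ▸ Submodule.mem_top
    obtain ⟨r, hr, w, hw, hrw⟩ := Submodule.mem_sup.mp hmem
    have hfe : f = (r : V) + (w : V) := (congrArg Subtype.val hrw).symm
    have h := LinearMap.congr_fun hL (⟨(w : V), Submodule.mem_map_of_mem hw⟩, ⟨(r : V), hr⟩)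
    have h' : L f = (⟨(w : V), Submodule.mem_map_of_mem hw⟩, ⟨(r : V), hr⟩) := by
      rw [hfe, add_comm]
      simpa [e] using h
    show ((L f).1 : V) - f ∈ R
    rw [h', hfe]
    simpa using hr
  -- averaging
  haveI := Fintype.ofFinite Q
  have hQ0 : (Fintype.card Q : k) ≠ 0 := by
    rw [Ne, CharP.cast_eq_zero_iff k p, ← Nat.card_eq_fintype_card]
    exact hQp
  let π : Module.End k V := (Fintype.card Q : k)⁻¹ •
    ∑ h : Q, C (h : G) * π₀ * C (h : G)⁻¹
  have hπX : π * X = π := by
    simp only [π, smul_mul_assoc, Finset.sum_mul]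
    congr 1
    refine Finset.sum_congr rfl fun h _ => ?_
    obtain ⟨i, hi⟩ := hconj (h : G)⁻¹ (inv_mem h.2)
    rw [inv_inv] at hi
    rw [mul_assoc _ (C (h : G)⁻¹), hX, ← map_mul,
      show (h : G)⁻¹ * x = x ^ i * (h : G)⁻¹ by rw [← hi]; group, map_mul, ← mul_assoc,
      mul_assoc (C (h : G))]
    refine congrArg (fun u => C (h : G) * u * C (h : G)⁻¹) (LinearMap.ext fun f => ?_)
    have := hπR _ (hRp i f)
    rwa [map_sub, sub_eq_zero] at this
  have hπK' : ∀ f, π f ∈ K := by
    intro f
    simp only [π, LinearMap.smul_apply, LinearMap.sum_apply]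
    exact Submodule.smul_mem _ _ (Submodule.sum_mem _ fun h _ => hQK _ h.2 _ (hπK _))
  have hXπ : X * π = π := LinearMap.ext fun f => hmemK.mp (hπK' f)
  have hπR' : ∀ r ∈ R, π r = 0 := by
    rintro _ ⟨f, rfl⟩
    rw [LinearMap.sub_apply, Module.End.one_apply, map_sub, ← Module.End.mul_apply π, hπX,
      sub_self]
  have hπid' : ∀ f ∈ K, π f - f ∈ R := by
    intro f hf
    have : π f - f = (Fintype.card Q : k)⁻¹ •
        ∑ h : Q, C (h : G) (π₀ (C (h : G)⁻¹ f) - C (h : G)⁻¹ f) := by
      simp only [map_sub, ← Module.End.mul_apply, ← map_mul, mul_inv_cancel, map_one,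
        Module.End.one_apply, Finset.sum_sub_distrib, Finset.sum_const, Finset.card_univ,
        smul_sub, ← Nat.cast_smul_eq_nsmul k, smul_smul, inv_mul_cancel₀ hQ0, one_smul, π,
        LinearMap.smul_apply, LinearMap.sum_apply, mul_assoc]
    rw [this]
    refine Submodule.smul_mem _ _ (Submodule.sum_mem _ fun h _ => ?_)
    obtain ⟨f', hf'⟩ := hπid _ (hQK _ (inv_mem h.2) f hf)
    rw [← hf', ← Module.End.mul_apply, mul_sub, mul_one, hX, ← map_mul]
    obtain ⟨i, hi⟩ := hconj (h : G) h.2
    rw [show (h : G) * x = x ^ i * h by rw [← hi]; group, map_mul, LinearMap.sub_apply,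
      Module.End.mul_apply]
    exact hRp i _
  have hπN : ∀ g ∈ Subgroup.normalizer (Subgroup.zpowers x : Set G), Commute (C g) π := by
    intro g hg
    obtain ⟨h, hh, i, rfl⟩ := hQdec g hg
    rw [map_mul, map_pow, ← hX]
    refine Commute.mul_left ?_ (Commute.pow_left (hXπ.trans hπX.symm) i)
    simp only [π, commute_iff_eq, mul_smul_comm, smul_mul_assoc, Finset.mul_sum, Finset.sum_mul]
    congr 1
    refine Fintype.sum_equiv (Equiv.mulLeft ⟨h, hh⟩) _ _ fun u => ?_
    simp only [Equiv.coe_mulLeft, Subgroup.coe_mul, mul_inv_rev, map_mul, mul_assoc,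
      ← map_mul C h⁻¹ h, inv_mul_cancel, map_one, mul_one]
  -- the transfer
  set P := Subgroup.zpowers x with hP
  haveI := Fintype.ofFinite (G ⧸ P)
  let φ : G ⧸ P → Module.End k V := fun c => Quotient.liftOn' c (fun g => C g * π * C g⁻¹) (by
    intro a b hab
    rw [QuotientGroup.leftRel_apply] at hab
    have hN : a⁻¹ * b ∈ Subgroup.normalizer (P : Set G) := Subgroup.le_normalizer hab
    have hc := hπN _ hN
    show C a * π * C a⁻¹ = C b * π * C b⁻¹
    rw [show C b = C a * C (a⁻¹ * b) by rw [← map_mul, mul_inv_cancel_left], mul_assoc (C a) (C _),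
      hc.eq, ← mul_assoc, mul_assoc (C a * π) (C (a⁻¹ * b)), ← map_mul,
      show a⁻¹ * b * b⁻¹ = a⁻¹ by group])
  have hφ : ∀ g : G, φ (g : G ⧸ P) = C g * π * C g⁻¹ := fun g => rfl
  have hφsmul : ∀ (g : G) (c : G ⧸ P), φ (g • c) = C g * φ c * C g⁻¹ := by
    intro g c
    induction c using QuotientGroup.induction_on with
    | _ a =>
      rw [show g • (a : G ⧸ P) = ((g * a : G) : G ⧸ P) from rfl, hφ, hφ, mul_inv_rev, map_mul,
        map_mul]
      simp only [mul_assoc]
  set T := ∑ c : G ⧸ P, φ c with hT
  have hTcomm : ∀ g, Commute (C g) T := by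
    intro g
    have h1 : C g * T * C g⁻¹ = T := by
      rw [hT, Finset.mul_sum, Finset.sum_mul]
      exact Fintype.sum_equiv (MulAction.toPerm g) _ _ fun c => (hφsmul g c).symm
    have := congrArg (· * C g) h1
    simp only [mul_assoc, ← map_mul, inv_mul_cancel, map_one, mul_one] at this
    exact this
  set F := Finset.univ.filter (fun c : G ⧸ P => x • c = c) with hF
  set S := Finset.univ.filter (fun c : G ⧸ P => ¬ x • c = c) with hS
  have hφfix : ∀ c ∈ F, φ c = π := by
    intro c hc
    rw [hF, Finset.mem_filter] at hc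
    induction c using QuotientGroup.induction_on with
    | _ a =>
      have h1 : a⁻¹ * x * a ∈ P := by
        have h := QuotientGroup.eq.mp (show ((x * a : G) : G ⧸ P) = a from hc.2)
        have := inv_mem h
        rwa [mul_inv_rev, inv_inv, ← mul_assoc] at this
      have haN : a⁻¹ ∈ Subgroup.normalizer (P : Set G) := by
        rw [Subgroup.mem_normalizer_iff_map_conj_eq]
        refine Subgroup.eq_of_le_of_card_ge ?_ (le_of_eq ?_)
        · rw [hP, MonoidHom.map_zpowers, Subgroup.zpowers_le]
          simpa [MulAut.conj_apply] using h1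
        · exact Nat.card_congr (Subgroup.equivMapOfInjective P (MulAut.conj a⁻¹).toMonoidHom
            (MulAut.conj a⁻¹).injective).toEquiv
      rw [hφ, (hπN _ (by simpa using inv_mem haN)).eq, mul_assoc, ← map_mul, mul_inv_cancel,
        map_one, mul_one]
  have hσp : ∀ c : G ⧸ P, ((MulAction.toPerm x : Equiv.Perm (G ⧸ P)) ^ p) c = c := by
    intro c
    rw [show (MulAction.toPerm x : Equiv.Perm (G ⧸ P)) = MulAction.toPermHom G (G ⧸ P) x from rfl,
      ← map_pow, hxp, map_one]
    rfl
  obtain ⟨hdvd, a, ha⟩ := exists_norm_form (MulAction.toPerm x) hσp φ (C x) (C x⁻¹)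
    (fun c => hφsmul x c) S
    (fun c hc => by
      simp only [hS, Finset.mem_filter, Finset.mem_univ, true_and] at hc ⊢
      exact fun h => hc (MulAction.injective x h))
    (fun c hc => by
      simp only [hS, Finset.mem_filter, Finset.mem_univ, true_and] at hc
      exact hc)
  set m : k := (F.card : k) with hm
  have hm0 : m ≠ 0 := by
    rw [hm, Ne, CharP.cast_eq_zero_iff k p]
    intro hd
    have h1 : p ∣ Fintype.card (G ⧸ P) := by
      rw [← Finset.card_univ,
        ← Finset.card_filter_add_card_filter_not (fun c : G ⧸ P => x • c = c)]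
      exact Nat.dvd_add hd hdvd
    apply h2
    rw [← Subgroup.card_mul_index P, hP, Nat.card_zpowers, hx, sq, Subgroup.index,
      Nat.card_eq_fintype_card]
    exact Nat.mul_dvd_mul_left p h1
  set q := ∑ i ∈ Finset.range p, X ^ i * a * (C x⁻¹) ^ i with hq
  have hTq : T = m • π + q := by
    rw [hT, ← Finset.sum_filter_add_sum_filter_not Finset.univ (fun c : G ⧸ P => x • c = c), ha,
      Finset.sum_congr rfl hφfix, Finset.sum_const, hm, Nat.cast_smul_eq_nsmul]
  have hnorm : ∑ i ∈ Finset.range p, X ^ i = 0 := (sum_pow_eq_sub_pow (k := k) X).trans hnil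
  have hqK : ∀ f ∈ K, q f = 0 := by
    intro f hf
    have hinv : ∀ i : ℕ, ((C x⁻¹) ^ i) f = f := by
      intro i
      induction i with
      | zero => simp
      | succ i ih =>
        rw [pow_succ, Module.End.mul_apply]
        have : C x⁻¹ f = f := by
          conv_lhs => rw [← hmemK.mp hf, hX, ← Module.End.mul_apply, ← map_mul, inv_mul_cancel,
            map_one]
          rfl
        rw [this, ih]
    simp only [hq, LinearMap.sum_apply, Module.End.mul_apply, hinv]
    rw [← LinearMap.sum_apply, hnorm]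
    rfl
  have hqπ : q * π = 0 := LinearMap.ext fun f => hqK _ (hπK' f)
  have hπq : π * q = 0 := by
    have hπXi : ∀ i : ℕ, π * X ^ i = π := by
      intro i
      induction i with
      | zero => simp
      | succ i ih => rw [pow_succ', ← mul_assoc, hπX, ih]
    rw [hq, Finset.mul_sum]
    simp only [← mul_assoc, hπXi]
    rw [← Finset.mul_sum]
    have hinvsum : ∑ i ∈ Finset.range p, (C x⁻¹) ^ i = 0 := by
      have hXX : C x⁻¹ = X ^ (p - 1) := by
        rw [hX, ← map_pow]
        congr 1
        exact inv_eq_of_mul_eq_one_left (by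
          rw [← pow_succ, Nat.sub_add_cancel hp.one_le, hxp])
      rw [sum_pow_eq_sub_pow (k := k), hXX]
      have hfac : X ^ (p - 1) - 1 = (∑ j ∈ Finset.range (p - 1), X ^ j) * (X - 1) :=
        (geom_sum_mul X (p - 1)).symm
      have hc : Commute (∑ j ∈ Finset.range (p - 1), X ^ j) (X - 1) :=
        Commute.sum_left _ _ _ fun j _ =>
          ((Commute.refl X).pow_left j).sub_right (Commute.one_right _)
      rw [hfac, hc.mul_pow, hnil, mul_zero]
    rw [hinvsum, mul_zero]
  have hqX : Commute q X := by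
    have h1 : Commute T X := (hTcomm x).symm
    have h3 : Commute (m • π) X := Commute.smul_left (hπX.trans hXπ.symm) m
    rw [show q = T - m • π by rw [hTq, add_sub_cancel_left]]
    exact h1.sub_left h3
  have hqpow : ∀ j : ℕ, ∀ f, ((X - 1) ^ j) f = 0 → (q ^ j) f = 0 := by
    intro j
    induction j with
    | zero => intro f hf; simpa using hf
    | succ j ih =>
      intro f hf
      rw [pow_succ, Module.End.mul_apply]
      refine ih _ ?_
      have hc : Commute q ((X - 1) ^ j) := (hqX.sub_right (Commute.one_right _)).pow_right j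
      rw [← Module.End.mul_apply, ← hc.eq, Module.End.mul_apply]
      refine hqK _ ?_
      rw [hK, LinearMap.mem_ker, ← Module.End.mul_apply, ← pow_succ']
      exact hf
  have hπ32 : π * π * π = π * π := by
    refine LinearMap.ext fun f => ?_
    show π (π (π f)) = π (π f)
    have := hπR' _ (hπid' _ (hπK' f))
    rwa [map_sub, sub_eq_zero] at this
  have hTpow : ∀ L : ℕ, T ^ (L + 1) = m ^ (L + 1) • π ^ (L + 1) + q ^ (L + 1) := by
    intro L
    induction L with
    | zero => simp [hTq]
    | succ L ih =>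
      have e1 : π ^ (L + 1) * q = 0 := by rw [pow_succ, mul_assoc, hπq, mul_zero]
      have e2 : q ^ (L + 1) * π = 0 := by rw [pow_succ, mul_assoc, hqπ, mul_zero]
      have e3 : π ^ (L + 1) * (m • π) = m • π ^ (L + 1 + 1) := by
        rw [mul_smul_comm, ← pow_succ]
      have e4 : q ^ (L + 1) * (m • π) = 0 := by rw [mul_smul_comm, e2, smul_zero]
      rw [pow_succ T, ih, hTq, add_mul, mul_add, mul_add, smul_mul_assoc, smul_mul_assoc,
        e1, e3, e4, smul_zero, add_zero, zero_add, ← pow_succ q, smul_smul, ← pow_succ]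
  have hπpow : ∀ L : ℕ, π ^ (L + 2) = π * π := by
    intro L
    induction L with
    | zero => rw [zero_add, pow_two]
    | succ L ih => rw [pow_succ, ih, hπ32]
  have hkey : T ^ p = m ^ p • (π * π) := by
    obtain ⟨L, hL'⟩ : ∃ L, p = L + 2 := ⟨p - 2, by have := hp.two_le; omega⟩
    have hq0 : q ^ (L + 2) = 0 := by
      refine LinearMap.ext fun f => ?_
      have h1 := hqpow (p - 1) f (by rw [hnil]; rfl)
      rw [show L + 2 = 1 + (p - 1) by omega, pow_add, Module.End.mul_apply, h1, map_zero]
      rfl
    rw [hL', hTpow (L + 1), hπpow, hq0, add_zero]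
  refine ⟨π * π, fun g => ?_, by rw [← mul_assoc, hX, hXπ], fun f hf => ?_⟩
  · have h := (hTcomm g).pow_right p
    rw [hkey] at h
    have h' := h.smul_right (m ^ p)⁻¹
    rwa [smul_smul, inv_mul_cancel₀ (pow_ne_zero _ hm0), one_smul] at h'
  · have hfK : f ∈ K := hmemK.mpr hf
    have h1 : (π * π) f - f = (π (π f) - π f) + (π f - f) := by
      rw [Module.End.mul_apply]; abel
    obtain ⟨f', hf'⟩ := Submodule.add_mem R (hπid' _ (hπK' f)) (hπid' _ hfK)
    exact ⟨f', by rw [h1, ← hf']; rfl⟩

/-- Elements of order prime to `p` centralizing `x` act centrally. -/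
theorem commute_image (A : G →* Module.End k V) (hx : orderOf x = p)
    (h2 : ¬ p ^ 2 ∣ Nat.card G) (hgen : Subgroup.normalClosure ({x} : Set G) = ⊤)
    (hV : 2 * finrank k V ≤ p) {v : G} (hv : Commute x v) (hvp : ¬ p ∣ orderOf v) (g : G) :
    Commute (A v) (A g) := by
  rcases subsingleton_or_nontrivial V with hs | hs
  · exact LinearMap.ext fun f => Subsingleton.elim _ _
  have hn : 0 < finrank k V := Module.finrank_pos
  obtain ⟨Ω, hΩ, hXΩ, hΩR⟩ := exists_equivariant_proj (conjRep A) hx h2
    (conjRep_sub_one_pow A hx hV)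
  have hvK : conjRep A x (A v) = A v := (conjRep_eq_iff A x _).mpr (hv.map A)
  set s := Ω (A v) with hs'
  have hsg : ∀ g : G, Commute (A g) s := by
    let H : Subgroup G :=
      { carrier := {g | conjRep A g s = s}
        one_mem' := by simp
        mul_mem' := fun {a b} ha hb => by
          show conjRep A (a * b) s = s
          rw [map_mul, Module.End.mul_apply]
          exact (congrArg _ hb).trans ha
        inv_mem' := fun {a} ha => by
          show conjRep A a⁻¹ s = s
          conv_lhs => rw [← ha, ← Module.End.mul_apply, ← map_mul, inv_mul_cancel, map_one]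
          rfl }
    have hle : Subgroup.normalClosure ({x} : Set G) ≤ H := by
      unfold Subgroup.normalClosure
      rw [Subgroup.closure_le]
      intro y hy
      obtain ⟨w, hw, hy⟩ := Group.mem_conjugatesOfSet_iff.mp hy
      rw [Set.mem_singleton_iff] at hw
      rw [hw] at hy
      obtain ⟨c, rfl⟩ := isConj_iff.mp hy
      show conjRep A (c * x * c⁻¹) s = s
      rw [map_mul, map_mul, Module.End.mul_apply, Module.End.mul_apply, hs',
        ← Module.End.mul_apply (conjRep A c⁻¹) Ω, (hΩ c⁻¹).eq, Module.End.mul_apply,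
        ← Module.End.mul_apply (conjRep A x) Ω, hXΩ, ← Module.End.mul_apply (conjRep A c) Ω,
        (hΩ c).eq, Module.End.mul_apply, ← Module.End.mul_apply (conjRep A c), ← map_mul,
        mul_inv_cancel, map_one]
      rfl
    intro g
    exact (conjRep_eq_iff A g s).mp (hle (hgen ▸ Subgroup.mem_top g))
  set d := A v - s with hd
  obtain ⟨f', hf'⟩ := hΩR _ hvK
  have hdx : Commute (A x) d := (hv.map A).sub_right (hsg x)
  have hAx : A x⁻¹ * A x = 1 := by rw [← map_mul, inv_mul_cancel, map_one]
  have hdnil : IsNilpotent d := by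
    refine isNilpotent_of_trace p (by omega) d fun j hj => ?_
    obtain ⟨j, rfl⟩ := Nat.exists_eq_add_of_le' hj
    have hdf : d = f' - A x * f' * A x⁻¹ := by
      rw [← conjRep_apply, hd, ← neg_sub s, hs', hf', neg_sub]
    have hc : Commute (A x) (d ^ j) := hdx.pow_right j
    rw [pow_succ', show d * d ^ j = f' * d ^ j - A x * f' * A x⁻¹ * d ^ j by
      rw [← sub_mul, ← hdf], map_sub, sub_eq_zero, mul_assoc (A x) f', mul_assoc (A x),
      LinearMap.trace_mul_comm k (A x), mul_assoc (f' * A x⁻¹), ← hc.eq, ← mul_assoc,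
      mul_assoc f', hAx, mul_one]
  have hpow := pow_finrank_eq_zero hdnil
  haveI : CharP (Module.End k V) p :=
    charP_of_injective_algebraMap (R := k) (FaithfulSMul.algebraMap_injective k _) p
  obtain ⟨a, ha⟩ : ∃ a, finrank k V ≤ p ^ a := ⟨1, by rw [pow_one]; omega⟩
  have hvs : A v ^ p ^ a = s ^ p ^ a := by
    have hc : Commute s d := ((hsg v).symm.sub_right (Commute.refl s))
    rw [show A v = s + d by rw [hd, add_sub_cancel],
      add_pow_char_pow_of_commute p a hc, pow_eq_zero_of_le ha hpow, add_zero]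
  have hcop : (p ^ a).Coprime (orderOf v) :=
    Nat.Coprime.pow_left _ ((Fact.out : p.Prime).coprime_iff_not_dvd.mpr hvp)
  obtain ⟨t, ht⟩ := exists_pow_eq_self_of_coprime hcop
  rw [← ht, map_pow, map_pow, hvs]
  exact (((hsg g).symm).pow_left _).pow_left _

end Cfsg.Agent.Lib.FirstPower.ModularTrace
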