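import Cfsg.Agent.Lib.Blocks.LocalRing
import Cfsg.Agent.Lib.Induced.SplittingField
import Cfsg.Agent.Lib.Characters.Kernel

/-!
# Reduction of a representation modulo a maximal ideal of the algebraic integers

Every character is afforded by matrices over the local ring at `M`; the reduction modulo `M` is a
representation of the same degree, and its kernel contains no element of order prime to `p` outside
the kernel of the character.
-/

namespace Cfsg.Agent.Lib.FirstPower.SmallReduction

open Cfsg.Agent.Lib.Blocks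

universe u

variable {G : Type u} [Group G] [Finite G] {p : ℕ} {M : Ideal Cfsg.AlgInt} [M.IsMaximal]

theorem exists_dvd_least {R : Type*} [CommRing R] [PreValuationRing R] {ι : Type*}
    (s : Finset ι) (hs : s.Nonempty) (c : ι → R) : ∃ j ∈ s, ∀ i ∈ s, c j ∣ c i := by
  classical
  induction hs using Finset.Nonempty.cons_induction with
  | singleton a =>
    exact ⟨a, Finset.mem_singleton_self a, fun i hi => by rw [Finset.mem_singleton.mp hi]⟩
  | cons a s ha hs ih =>
    obtain ⟨j, hj, hjd⟩ := ih
    rcases (PreValuationRing.iff_dvd_total.mp inferInstance).total (c a) (c j) with h | h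
    · refine ⟨a, Finset.mem_cons_self a s, fun i hi => ?_⟩
      rcases Finset.mem_cons.mp hi with rfl | hi
      · exact dvd_rfl
      · exact h.trans (hjd i hi)
    · refine ⟨j, Finset.mem_cons_of_mem hj, fun i hi => ?_⟩
      rcases Finset.mem_cons.mp hi with rfl | hi
      · exact h
      · exact hjd i hi

set_option maxHeartbeats 1000000 in
/-- Matrices over the local ring affording a character. -/
theorem exists_lattice_basis (hM : Cfsg.IsPModular p M) {n : ℕ}
    (σ : Representation ℂ G (Fin n → ℂ))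
    (halg : ∀ g i j, IsAlgebraic ℚ (LinearMap.toMatrix' (σ g) i j)) :
    ∃ b : Module.Basis (Fin n) ℂ (Fin n → ℂ),
      ∀ g i j, LinearMap.toMatrix b b (σ g) i j ∈ localRing M := by
  classical
  haveI := preValuationRing_localRing hM
  haveI := Fintype.ofFinite G
  set R := localRing M
  let gen : Finset (Fin n → ℂ) :=
    Finset.univ.image (fun a : G × Fin n => σ a.1 (Pi.single a.2 1))
  let L : Submodule R (Fin n → ℂ) := Submodule.span R (gen : Set (Fin n → ℂ))
  have hex : ∃ m, ∃ B : Finset (Fin n → ℂ), B.card = m ∧ B ⊆ gen ∧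
      Submodule.span R (B : Set (Fin n → ℂ)) = L := ⟨_, gen, rfl, Finset.Subset.refl _, rfl⟩
  obtain ⟨B, hBc, hBgen, hBspan⟩ := Nat.find_spec hex
  have hmin : ∀ B' : Finset (Fin n → ℂ), B' ⊆ gen →
      Submodule.span R (B' : Set (Fin n → ℂ)) = L → B.card ≤ B'.card := fun B' h1 h2 =>
    hBc ▸ Nat.find_min' hex ⟨B', rfl, h1, h2⟩
  have hcoord : ∀ w ∈ B, ∀ i, IsAlgebraic ℚ (w i) := by
    intro w hw i
    obtain ⟨⟨g, j⟩, -, rfl⟩ := Finset.mem_image.mp (hBgen hw)
    have := halg g i j
    rwa [LinearMap.toMatrix'_apply] at this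
  -- independence over the local ring
  have hindR : ∀ c : (Fin n → ℂ) → R, ∑ w ∈ B, (c w : ℂ) • w = 0 → ∀ w ∈ B, c w = 0 := by
    intro c hc w hw
    by_contra hne
    set s := B.filter (fun w => c w ≠ 0) with hs
    obtain ⟨j, hj, hjd⟩ := exists_dvd_least s ⟨w, Finset.mem_filter.mpr ⟨hw, hne⟩⟩ c
    rw [hs, Finset.mem_filter] at hj
    have hq : ∀ i ∈ B, ∃ q : R, c i = c j * q := by
      intro i hi
      by_cases h0 : c i = 0
      · exact ⟨0, by rw [h0, mul_zero]⟩
      · exact hjd i (Finset.mem_filter.mpr ⟨hi, h0⟩)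
    choose! q hq using hq
    have hcj : (c j : ℂ) ≠ 0 := fun h => hj.2 (Subtype.ext h)
    have hjmem : j ∈ Submodule.span R ((B.erase j : Finset _) : Set (Fin n → ℂ)) := by
      have hj1 : j = -∑ i ∈ B.erase j, q i • i := by
        have h1 := hc
        rw [← Finset.add_sum_erase _ _ hj.1, Finset.sum_congr rfl (fun i hi => by
          rw [hq i (Finset.mem_of_mem_erase hi), Subring.coe_mul, ← smul_smul]),
          ← Finset.smul_sum, ← smul_add, smul_eq_zero] at h1
        exact eq_neg_of_add_eq_zero_left (h1.resolve_left hcj)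
      exact Set.mem_of_eq_of_mem hj1 (Submodule.neg_mem
        (Submodule.span R ((B.erase j : Finset _) : Set (Fin n → ℂ))) (Submodule.sum_mem _
        fun i hi => Submodule.smul_mem _ _ (Submodule.subset_span hi)))
    have hspan' : Submodule.span R ((B.erase j : Finset _) : Set (Fin n → ℂ)) = L := by
      refine le_antisymm ?_ (hBspan ▸ Submodule.span_le.mpr fun i hi => ?_)
      · rw [← hBspan]
        exact Submodule.span_mono (Finset.coe_subset.mpr (B.erase_subset j))
      · by_cases h : i = j
        · rw [h]; exact hjmem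
        · exact Submodule.subset_span (Finset.mem_erase.mpr ⟨h, hi⟩)
    have := hmin _ ((B.erase_subset j).trans hBgen) hspan'
    rw [Finset.card_erase_of_mem hj.1] at this
    have := Finset.card_pos.mpr ⟨j, hj.1⟩
    omega
  -- at most `n` of them
  have hle : B.card ≤ n := by
    by_contra hlt
    let F := algebraicClosure ℚ ℂ
    let f : {w // w ∈ B} → (Fin n → F) := fun w i =>
      ⟨(w : Fin n → ℂ) i, mem_algebraicClosure_iff.mpr (hcoord w w.2 i)⟩
    have hdep : ¬ LinearIndependent F f := fun h => by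
      have := h.fintype_card_le_finrank
      rw [Fintype.card_coe, Module.finrank_fin_fun] at this
      omega
    obtain ⟨a, ha, w₀, hw₀⟩ := Fintype.not_linearIndependent_iff.mp hdep
    let t : {w // w ∈ B} → ℂ := fun w => if (a w : ℂ) ∈ R then 1 else (a w : ℂ)⁻¹
    let D : ℂ := ∏ w, t w
    have hinv : ∀ w, (a w : ℂ) ∉ R → (a w : ℂ)⁻¹ ∈ R := fun w h => by
      have halgw : IsAlgebraic ℤ (a w : ℂ) :=
        (IsFractionRing.isAlgebraic_iff ℤ ℚ ℂ).mpr (mem_algebraicClosure_iff.mp (a w).2)
      exact (mem_localRing_or_inv_mem hM halgw).resolve_left h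
    have htR : ∀ w, t w ∈ R := fun w => by
      simp only [t]
      split_ifs with h
      · exact one_mem R
      · exact hinv w h
    have hDa : ∀ w, D * (a w : ℂ) ∈ R := by
      intro w
      rw [show D = t w * ∏ i ∈ Finset.univ.erase w, t i from
        (Finset.mul_prod_erase _ _ (Finset.mem_univ w)).symm, mul_right_comm]
      refine mul_mem ?_ (prod_mem fun i _ => htR i)
      simp only [t]
      split_ifs with h
      · simpa using h
      · rw [inv_mul_cancel₀ (fun h0 : (a w : ℂ) = 0 => h (h0 ▸ zero_mem R))]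
        exact one_mem R
    have hD : D ≠ 0 := Finset.prod_ne_zero_iff.mpr fun w _ => by
      simp only [t]
      split_ifs with h
      · exact one_ne_zero
      · exact inv_ne_zero fun h0 => h (h0 ▸ zero_mem R)
    let c : (Fin n → ℂ) → R := fun w =>
      if hw : w ∈ B then ⟨D * (a ⟨w, hw⟩ : ℂ), hDa _⟩ else 0
    have hc : ∑ w ∈ B, (c w : ℂ) • w = 0 := by
      rw [← Finset.sum_coe_sort]
      funext i
      simp only [c, Finset.sum_apply, Pi.smul_apply, smul_eq_mul, Finset.coe_mem, dif_pos,
        Pi.zero_apply, mul_assoc, ← Finset.mul_sum]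
      have h1 : ∑ w : {w // w ∈ B}, (a w : ℂ) * (w : Fin n → ℂ) i = 0 := by
        have := congrArg (fun z : Fin n → F => ((z i : F) : ℂ)) ha
        simpa [f, Finset.sum_apply] using this
      rw [h1, mul_zero]
    have h2 := hindR c hc w₀ w₀.2
    simp only [c, Finset.coe_mem, dif_pos] at h2
    have h3 : D * (a w₀ : ℂ) = 0 := congrArg Subtype.val h2
    exact hw₀ (Subtype.ext (mul_eq_zero.mp h3 |>.resolve_left hD))
  have hspanC : ⊤ ≤ Submodule.span ℂ (B : Set (Fin n → ℂ)) := by
    rw [← (Pi.basisFun ℂ (Fin n)).span_eq, Submodule.span_le]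
    rintro _ ⟨i, rfl⟩
    have h1 : (Pi.single i 1 : Fin n → ℂ) ∈ L := Submodule.subset_span
      (Finset.mem_image.mpr ⟨(1, i), Finset.mem_univ _, by simp⟩)
    rw [← hBspan] at h1
    rw [Pi.basisFun_apply]
    exact Submodule.span_le_restrictScalars R ℂ _ h1
  have hcard : B.card = n := by
    refine le_antisymm hle ?_
    have h := finrank_span_finset_le_card (R := ℂ) B
    rw [Set.finrank, eq_top_iff.mpr hspanC, finrank_top, Module.finrank_fin_fun] at h
    exact h
  let e : Fin n ≃ {w // w ∈ B} := (finCongr hcard.symm).trans B.equivFin.symm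
  have hsp : ⊤ ≤ Submodule.span ℂ (Set.range fun i => ((e i : {w // w ∈ B}) : Fin n → ℂ)) := by
    refine hspanC.trans (Submodule.span_le.mpr fun w hw => Submodule.subset_span ?_)
    exact ⟨e.symm ⟨w, hw⟩, by simp⟩
  let b := basisOfTopLeSpanOfCardEqFinrank (fun i => ((e i : {w // w ∈ B}) : Fin n → ℂ)) hsp
    (by rw [Fintype.card_fin, Module.finrank_fin_fun])
  refine ⟨b, fun g i j => ?_⟩
  rw [LinearMap.toMatrix_apply]
  have hb : ∀ i, b i = ((e i : {w // w ∈ B}) : Fin n → ℂ) := fun i => by simp [b]
  have hmemL : σ g (b j) ∈ L := by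
    rw [hb]
    obtain ⟨⟨g', k⟩, -, hk⟩ := Finset.mem_image.mp (hBgen (e j).2)
    rw [← hk]
    exact Submodule.subset_span (Finset.mem_image.mpr ⟨(g * g', k), Finset.mem_univ _, by
      rw [map_mul, Module.End.mul_apply]⟩)
  have hrange : Submodule.span R (Set.range b) = L := by
    rw [← hBspan]
    congr 1
    ext w
    constructor
    · rintro ⟨i, rfl⟩; rw [hb]; exact (e i).2
    · intro hw; exact ⟨e.symm ⟨w, hw⟩, by rw [hb]; simp⟩
  rw [← hrange] at hmemL
  obtain ⟨c, hc⟩ := (Submodule.mem_span_range_iff_exists_fun R).mp hmemL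
  have hrepr : b.repr (σ g (b j)) i = ∑ k, (c k : ℂ) * b.repr (b k) i := by
    rw [← hc, map_sum, Finsupp.finsetSum_apply]
    refine Finset.sum_congr rfl fun k _ => ?_
    show b.repr ((c k : ℂ) • b k) i = _
    rw [map_smul, Finsupp.smul_apply, smul_eq_mul]
  rw [hrepr]
  exact sum_mem fun k _ => mul_mem (c k).2 (by
    rw [Module.Basis.repr_self, Finsupp.single_apply]
    split_ifs
    exacts [one_mem R, zero_mem R])

/-- A reduction modulo `M` of a character. -/
theorem exists_reduction (hM : Cfsg.IsPModular p M) {χ : G → ℂ} (hχ : Cfsg.IsCharacter G χ) :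
    ∃ (n : ℕ) (A : G →* Module.End (Cfsg.AlgInt ⧸ M) (Fin n → Cfsg.AlgInt ⧸ M)),
      χ 1 = n ∧ ∀ g : G, ¬ p ∣ orderOf g → A g = 1 → χ g = χ 1 := by
  classical
  obtain ⟨n, ρ, rfl⟩ := hχ
  obtain ⟨σ, ⟨eq⟩, hσ⟩ := Induced.SplittingField.exists_rep_cycl n ρ
  have halg : ∀ g i j, IsAlgebraic ℚ (LinearMap.toMatrix' (σ g) i j) := by
    intro g i j
    have hζ : IsIntegral ℚ (Complex.exp (2 * Real.pi * Complex.I / (Monoid.exponent G : ℂ))) :=
      IsIntegral.of_pow (Nat.pos_of_ne_zero Monoid.exponent_ne_zero_of_finite) (by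
        rw [(Complex.isPrimitiveRoot_exp _ Monoid.exponent_ne_zero_of_finite).pow_eq_one]
        exact isIntegral_one)
    exact (IsIntegral.of_mem_of_fg _ hζ.fg_adjoin_singleton _ (hσ g i j)).isAlgebraic
  obtain ⟨b, hb⟩ := exists_lattice_basis hM σ halg
  let T : G →* Matrix (Fin n) (Fin n) (localRing M) :=
    { toFun := fun g => Matrix.of fun i j => ⟨LinearMap.toMatrix b b (σ g) i j, hb g i j⟩
      map_one' := by
        ext i j
        show LinearMap.toMatrix b b (σ 1) i j = _
        rw [map_one, LinearMap.toMatrix_one, Matrix.one_apply, Matrix.one_apply]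
        split_ifs <;> rfl
      map_mul' := fun g h => by
        ext i j
        show LinearMap.toMatrix b b (σ (g * h)) i j = _
        rw [map_mul, LinearMap.toMatrix_mul, Matrix.mul_apply, Matrix.mul_apply]
        simp [Matrix.of_apply] }
  let A : G →* Module.End (Cfsg.AlgInt ⧸ M) (Fin n → Cfsg.AlgInt ⧸ M) :=
    (Matrix.toLinAlgEquiv'.toMulEquiv.toMonoidHom).comp
      (((residue M).mapMatrix.toMonoidHom).comp T)
  refine ⟨n, A, by simp, fun g hg hA => ?_⟩
  have hU : (residue M).mapMatrix (T g) = 1 := by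
    apply Matrix.toLinAlgEquiv'.injective
    rw [map_one]
    exact hA
  set U := T g with hUdef
  set S := ∑ j ∈ Finset.range (orderOf g), U ^ j with hS
  have hSU : IsUnit S := by
    rw [Matrix.isUnit_iff_isUnit_det, isUnit_localRing_iff, RingHom.map_det, hS, map_sum]
    simp only [map_pow, hU, one_pow, Finset.sum_const, Finset.card_range, nsmul_one]
    rw [← Matrix.diagonal_natCast, Matrix.det_diagonal, Finset.prod_const]
    refine pow_ne_zero _ fun h0 => hg ?_
    exact (natCast_mem_ideal_iff hM _).mp (Ideal.Quotient.eq_zero_iff_mem.mp (by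
      rw [map_natCast]; exact h0))
  have hzero : S * (U - 1) = 0 := by
    rw [hS, geom_sum_mul, hUdef, ← map_pow, pow_orderOf_eq_one, map_one, sub_self]
  have hU1 : U = 1 := sub_eq_zero.mp ((hSU.mul_right_eq_zero).mp hzero)
  have hσ1 : σ g = 1 := by
    apply (LinearMap.toMatrix b b).injective
    rw [LinearMap.toMatrix_one]
    ext i j
    have := congrArg (fun z : Matrix (Fin n) (Fin n) (localRing M) => ((z i j : localRing M) : ℂ)) hU1
    rw [Matrix.one_apply]
    simp only [Matrix.one_apply] at this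
    refine this.trans ?_
    split_ifs <;> rfl
  rw [Induced.SplittingField.char_eq_of_equiv ρ σ eq.toLinearEquiv fun g v => by
    exact eq.toIntertwiningMap.isIntertwining _ _ g v]
  simp only [Representation.character, hσ1, map_one]

end Cfsg.Agent.Lib.FirstPower.SmallReduction
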