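import Mathlib.Algebra.Order.Chebyshev
import Mathlib.Algebra.Group.Subgroup.Basic
import Mathlib.Data.Fintype.BigOperators
import Mathlib.Tactic.Ring
import Mathlib.Tactic.Linarith
import Mathlib.Tactic.LinearCombination

/-!
# Integer vectors with the inner products of `1 + e J`

A finite family of integer functions on a finite commutative group, stable under translations,
whose column products are `δ + e`: the nonconstant ones are the translates of a single spike.
-/

namespace Cfsg.Agent.Lib.FirstPower.Combin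

open Finset

variable {Q ι : Type*} [CommGroup Q] [Fintype Q] [DecidableEq Q] [Fintype ι]

theorem diff_sq_le (b : ι → Q → ℤ) (e : ℤ)
    (hb : ∀ q q', ∑ χ, b χ q * b χ q' = (if q = q' then 1 else 0) + e) (χ : ι) (q q' : Q) :
    (b χ q - b χ q') ^ 2 ≤ 2 := by
  by_cases hqq : q = q'
  · simp [hqq]
  · calc (b χ q - b χ q') ^ 2 ≤ ∑ ψ, (b ψ q - b ψ q') ^ 2 :=
          single_le_sum (fun ψ _ => sq_nonneg (b ψ q - b ψ q')) (mem_univ χ)
      _ = ∑ ψ, b ψ q * b ψ q + ∑ ψ, b ψ q' * b ψ q' - 2 * ∑ ψ, b ψ q * b ψ q' := by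
          rw [mul_sum, ← sum_add_distrib, ← sum_sub_distrib]
          exact sum_congr rfl fun ψ _ => by ring
      _ = 2 := by rw [hb, hb, hb, if_pos rfl, if_pos rfl, if_neg hqq]; ring

theorem two_values {β : ι → Q → ℤ} (hd : ∀ χ q q', (β χ q - β χ q') ^ 2 ≤ 2) (χ : ι) :
    ∃ (c : ℤ) (S : Finset Q), ∀ q, β χ q = c + if q ∈ S then 1 else 0 := by
  obtain ⟨q₀, -, hq₀⟩ := exists_min_image (univ : Finset Q) (β χ) ⟨1, mem_univ _⟩
  refine ⟨β χ q₀, univ.filter fun q => β χ q ≠ β χ q₀, fun q => ?_⟩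
  simp only [mem_filter, mem_univ, true_and]
  split_ifs with h
  · have h1 := hq₀ q (mem_univ _)
    have h2 := hd χ q q₀
    nlinarith [Int.lt_iff_add_one_le.mp (lt_of_le_of_ne h1 (Ne.symm h))]
  · omega

/-- The translates of a spike. -/
theorem shift_family (b : ι → Q → ℤ) (e : ℤ)
    (hb : ∀ q q', ∑ χ, b χ q * b χ q' = (if q = q' then 1 else 0) + e)
    (hshift : ∀ κ : Q, ∃ σ : Equiv.Perm ι, ∀ χ q, b (σ χ) q = b χ (q * κ))
    (ht : 2 ≤ Fintype.card Q) :
    ∃ (Y : Q → ι) (c δ : ℤ), Function.Injective Y ∧ (δ = 1 ∨ δ = -1) ∧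
      (∀ κ q, b (Y κ) q = c + if q = κ then δ else 0) ∧
      ∀ χ, (∃ κ, Y κ = χ) ∨ ∀ q q', b χ q = b χ q' := by
  classical
  set t : ℤ := (Fintype.card Q : ℤ) with htdef
  have ht2 : (2 : ℤ) ≤ t := by rw [htdef]; exact_mod_cast ht
  choose σ hσ using hshift
  choose c S hcS using fun χ => two_values (diff_sq_le b e hb) χ
  let B : ι → ℤ := fun χ => ∑ q, b χ q
  let w : ι → Q → ℤ := fun χ q => t * b χ q - B χ
  let s : ι → ℤ := fun χ => ((S χ).card : ℤ)
  have hBσ : ∀ κ χ, B (σ κ χ) = B χ := fun κ χ => by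
    simp only [B, hσ]
    exact Fintype.sum_equiv (Equiv.mulRight κ) _ _ fun q => rfl
  have hw0 : ∀ χ, ∑ q, w χ q = 0 := fun χ => by
    simp only [w, sum_sub_distrib, ← mul_sum, sum_const, card_univ, nsmul_eq_mul, B]
    ring
  have hbB : ∀ q, ∑ χ, b χ q * B χ = 1 + t * e := fun q => by
    simp only [B, mul_sum]
    rw [sum_comm]
    simp [hb, sum_add_distrib, htdef]
  have hBB : ∑ χ, B χ * B χ = t * (1 + t * e) := by
    have : ∀ χ, B χ * B χ = ∑ q, b χ q * B χ := fun χ => by rw [← sum_mul]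
    simp only [this]
    rw [sum_comm]
    simp [hbB, htdef]
  have hww : ∀ q q', ∑ χ, w χ q * w χ q' = (if q = q' then t ^ 2 else 0) - t := by
    intro q q'
    have : ∀ χ, w χ q * w χ q' = t ^ 2 * (b χ q * b χ q') - t * (b χ q * B χ) -
        t * (b χ q' * B χ) + B χ * B χ := fun χ => by simp only [w]; ring
    simp only [this, sum_add_distrib, sum_sub_distrib, ← mul_sum, hb, hbB, hBB]
    split_ifs <;> ring
  have hF : ∀ q, ∑ χ, w χ q = 0 := by
    have h1 : ∀ q, ∑ χ, w χ q = ∑ χ, w χ 1 := by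
      intro q
      refine Eq.symm ?_
      rw [← Equiv.sum_comp (σ q⁻¹) (fun χ => w χ q)]
      refine sum_congr rfl fun χ _ => ?_
      simp only [w, hBσ, hσ, mul_inv_cancel]
    have h2 : ∑ q, ∑ χ, w χ q = 0 := by rw [sum_comm]; simp [hw0]
    simp only [h1, sum_const, card_univ, nsmul_eq_mul] at h2
    rw [← htdef] at h2
    intro q
    rw [h1]
    exact (mul_eq_zero.mp h2).resolve_left (by omega)
  have hWs : ∀ χ, ∑ q, w χ q * w χ q = t * (s χ * (t - s χ)) := by
    intro χ
    have hB : B χ = t * c χ + s χ := by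
      simp only [B, hcS, sum_add_distrib, sum_const, card_univ, nsmul_eq_mul, s, htdef]
      simp
    have : ∀ q, w χ q * w χ q = (if q ∈ S χ then t ^ 2 - 2 * t * s χ else 0) + s χ ^ 2 := by
      intro q
      simp only [w, hB, hcS]
      split_ifs <;> ring
    simp only [this, sum_add_distrib, sum_const, card_univ, nsmul_eq_mul, ← sum_filter,
      filter_mem_eq_inter, univ_inter]
    show s χ * (t ^ 2 - 2 * t * s χ) + t * s χ ^ 2 = _
    ring
  have hsle : ∀ χ, s χ ≤ t := fun χ => by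
    simp only [s, htdef]; exact_mod_cast card_le_univ (S χ)
  let N := univ.filter fun χ => s χ ≠ 0 ∧ s χ ≠ t
  have hconst : ∀ χ, χ ∉ N → (∀ q q', b χ q = b χ q') ∧ ∀ q, w χ q = 0 := by
    intro χ hχ
    simp only [N, mem_filter, mem_univ, true_and, not_and_or, not_not] at hχ
    have hbc : ∀ q q', b χ q = b χ q' := by
      intro q q'
      rcases hχ with h | h
      · have : S χ = ∅ := card_eq_zero.mp (by simpa [s] using h)
        simp [hcS, this]
      · have : S χ = univ := eq_univ_of_card _ (by simp only [s, htdef] at h; exact_mod_cast h)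
        simp [hcS, this]
    refine ⟨hbc, fun q => ?_⟩
    simp only [w, B, hbc _ q, sum_const, card_univ, nsmul_eq_mul, htdef, sub_self]
  have hN : ∀ χ ∈ N, t - 1 ≤ s χ * (t - s χ) := by
    intro χ hχ
    simp only [N, mem_filter, mem_univ, true_and] at hχ
    have h0 : 1 ≤ s χ := by
      have : 0 ≤ s χ := by simp [s]
      omega
    have h1 : 1 ≤ t - s χ := by have := hsle χ; omega
    nlinarith [mul_nonneg (sub_nonneg.mpr h0) (sub_nonneg.mpr h1)]
  have htot : ∑ χ ∈ N, s χ * (t - s χ) = t * (t - 1) := by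
    have h1 : ∑ χ, ∑ q, w χ q * w χ q = t * (t ^ 2 - t) := by
      rw [sum_comm]
      simp [hww, htdef]
      ring
    have h2 : ∑ χ, ∑ q, w χ q * w χ q = ∑ χ ∈ N, ∑ q, w χ q * w χ q :=
      (sum_subset (subset_univ N) fun χ _ hχ => by simp [(hconst χ hχ).2]).symm
    rw [h2] at h1
    simp only [hWs, ← mul_sum] at h1
    have : t * (∑ χ ∈ N, s χ * (t - s χ)) = t * (t * (t - 1)) := by rw [h1]; ring
    exact mul_left_cancel₀ (by omega) this
  have hMle : (N.card : ℤ) ≤ t := by
    have := card_nsmul_le_sum N _ _ hN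
    rw [htot, nsmul_eq_mul] at this
    exact le_of_mul_le_mul_right this (by omega)
  -- Cauchy
  have hMge : ∀ χ ∈ N, t ≤ (N.card : ℤ) := by
    intro χ hχ
    let D : ι → ℤ := fun ψ => ∑ q, w χ q * w ψ q
    set W := ∑ q, w χ q * w χ q with hW
    have hD0 : ∀ ψ, ψ ∉ N → D ψ = 0 := fun ψ h => by simp [D, (hconst ψ h).2]
    have hD1 : ∑ ψ ∈ N.erase χ, D ψ = -W := by
      have h : ∑ ψ, D ψ = 0 := by
        simp only [D]
        rw [sum_comm]
        simp [← mul_sum, hF]
      rw [← sum_subset (subset_univ N) fun ψ _ h => hD0 ψ h, ← add_sum_erase N _ hχ] at h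
      simp only [D] at h ⊢
      linarith
    have hD2 : ∑ ψ ∈ N.erase χ, D ψ ^ 2 = t ^ 2 * W - W ^ 2 := by
      have h : ∑ ψ, D ψ ^ 2 = t ^ 2 * W := by
        simp only [D, sq, sum_mul_sum]
        rw [sum_comm]
        have : ∀ q, ∑ ψ, ∑ q', w χ q * w ψ q * (w χ q' * w ψ q') =
            ∑ q', w χ q * w χ q' * ((if q = q' then t ^ 2 else 0) - t) := by
          intro q
          rw [sum_comm]
          refine sum_congr rfl fun q' _ => ?_
          rw [← hww, mul_sum]
          exact sum_congr rfl fun ψ _ => by ring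
        simp only [this, mul_sub, sum_sub_distrib, mul_ite, mul_zero, sum_ite_eq, mem_univ,
          if_true]
        simp only [← sum_mul, ← mul_sum, hw0, mul_zero, zero_mul, sub_zero, sum_const_zero]
        rw [hW]; ring
      rw [← sum_subset (subset_univ N) (fun ψ _ h => by simp [hD0 ψ h]),
        ← add_sum_erase N _ hχ] at h
      simp only [D] at h ⊢
      rw [← hW] at h
      linarith
    have hcs := sq_sum_le_card_mul_sum_sq (s := N.erase χ) (f := D)
    rw [hD1, hD2, card_erase_of_mem hχ, Nat.cast_sub (card_pos.mpr ⟨χ, hχ⟩)] at hcs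
    rw [hWs] at hW
    have hn := hN χ hχ
    set n := s χ * (t - s χ)
    have hMpos : (1 : ℤ) ≤ N.card := by exact_mod_cast card_pos.mpr ⟨χ, hχ⟩
    rw [hW] at hcs
    push_cast at hcs
    have h3 : t ^ 2 * (n * ((N.card : ℤ) * n - ((N.card : ℤ) - 1) * t)) ≤ 0 := by nlinarith
    have h4 : (N.card : ℤ) * n - ((N.card : ℤ) - 1) * t ≤ 0 := by
      by_contra h
      push Not at h
      have : 0 < t ^ 2 * (n * ((N.card : ℤ) * n - ((N.card : ℤ) - 1) * t)) :=
        mul_pos (by positivity) (mul_pos (by omega) h)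
      omega
    nlinarith [mul_le_mul_of_nonneg_left hn (by omega : (0 : ℤ) ≤ N.card)]
  obtain ⟨χ₀, hχ₀⟩ : N.Nonempty := by
    by_contra h
    rw [not_nonempty_iff_eq_empty.mp h, sum_empty] at htot
    nlinarith
  have hM : (N.card : ℤ) = t := le_antisymm hMle (hMge χ₀ hχ₀)
  have hs0 : s χ₀ * (t - s χ₀) = t - 1 := by
    refine le_antisymm ?_ (hN χ₀ hχ₀)
    by_contra hlt
    push Not at hlt
    have := sum_lt_sum (fun ψ hψ => hN ψ hψ) ⟨χ₀, hχ₀, hlt⟩
    rw [htot, sum_const, nsmul_eq_mul, hM] at this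
    omega
  obtain ⟨q₀, c₀, δ, hδ, hspike⟩ : ∃ (q₀ : Q) (c₀ δ : ℤ), (δ = 1 ∨ δ = -1) ∧
      ∀ q, b χ₀ q = c₀ + if q = q₀ then δ else 0 := by
    have h : (s χ₀ - 1) * (t - 1 - s χ₀) = 0 := by linear_combination hs0
    rcases mul_eq_zero.mp h with h1 | h1
    · obtain ⟨q₀, hq₀⟩ := card_eq_one.mp
        (show (S χ₀).card = 1 by simp only [s] at h1; omega)
      exact ⟨q₀, c χ₀, 1, Or.inl rfl, fun q => by simp [hcS, hq₀]⟩
    · obtain ⟨q₀, hq₀⟩ := card_eq_one.mp
        (show (S χ₀)ᶜ.card = 1 by rw [card_compl]; simp only [s, htdef] at h1; omega)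
      refine ⟨q₀, c χ₀ + 1, -1, Or.inr rfl, fun q => ?_⟩
      rw [hcS]
      by_cases hq : q = q₀
      · rw [if_pos hq, if_neg]
        · ring
        · rw [← mem_compl, hq₀, hq]; exact mem_singleton_self _
      · rw [if_neg hq, if_pos]
        · ring
        · by_contra hm
          rw [← mem_compl, hq₀, mem_singleton] at hm
          exact hq hm
  let Y : Q → ι := fun κ => σ (κ⁻¹ * q₀) χ₀
  have hY : ∀ κ q, b (Y κ) q = c₀ + if q = κ then δ else 0 := by
    intro κ q
    rw [hσ, hspike]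
    congr 1
    refine if_congr ?_ rfl rfl
    rw [← mul_assoc, mul_eq_right, mul_inv_eq_one]
  have hinj : Function.Injective Y := by
    intro κ κ' h
    by_contra hne
    have := congrArg (fun F => b F κ) h
    simp only [hY, if_neg hne, if_true] at this
    omega
  have hsub : univ.image Y ⊆ N := by
    intro ψ hψ
    obtain ⟨κ, -, rfl⟩ := mem_image.mp hψ
    by_contra hn
    obtain ⟨κ', hκ'⟩ := Fintype.exists_ne_of_one_lt_card (by omega : 1 < Fintype.card Q) κ
    have := (hconst _ hn).1 κ κ'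
    simp only [hY, if_neg hκ', if_true] at this
    omega
  have heq : univ.image Y = N := eq_of_subset_of_card_le hsub (by
    rw [card_image_of_injective _ hinj, card_univ]; omega)
  refine ⟨Y, c₀, δ, hinj, hδ, hY, fun χ => ?_⟩
  by_cases hχ : χ ∈ N
  · rw [← heq] at hχ
    obtain ⟨κ, -, hκ⟩ := mem_image.mp hχ
    exact Or.inl ⟨κ, hκ⟩
  · exact Or.inr (hconst χ hχ).1

end Cfsg.Agent.Lib.FirstPower.Combin
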