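import Cfsg.Agent.Lib.FirstPower.Average
import Cfsg.Agent.Lib.FirstPower.Combin

/-!
# The exceptional family and the other characters nonzero on `x V`

`p` divides `|G|` exactly once and `x` has order `p`.  With `E` the group of exponents fusing `x`
there are `|E|` irreducible characters constant `±1` on `x ^ i V`, and a family indexed by the cosets
of `E` taking, up to a sign, the periods as values.  All others average to zero.
-/

namespace Cfsg.Agent.Lib.FirstPower.Family

open Periods Average Cfsg.Agent.Lib.Characters.Basic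
open scoped ComplexConjugate
open CharOrbit (IsVPart)

universe u

variable {p : ℕ} [Fact p.Prime] {G : Type u} [Group G] [Finite G] {x : G}

theorem exists_vpart (hx : orderOf x = p) (h2 : ¬ p ^ 2 ∣ Nat.card G) :
    ∃ V : Subgroup G, IsVPart p x V := by
  obtain ⟨V, -, -, -, hV, -⟩ := CharOrbit.exists_orbit hx h2 (oneChar G)
  exact ⟨V, hV⟩

theorem vpart_unique {V W : Subgroup G} (hV : IsVPart p x V) (hW : IsVPart p x W) : V = W :=
  SetLike.ext fun y => (hV y).trans (hW y).symm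

theorem pow_eq_one_of_order (hx : orderOf x = p) : x ^ p = 1 := hx ▸ pow_orderOf_eq_one x

theorem not_dvd_div (hx : orderOf x = p) (h2 : ¬ p ^ 2 ∣ Nat.card G) :
    p * (Nat.card G / p) = Nat.card G ∧ ¬ p ∣ Nat.card G / p := by
  have hd : p ∣ Nat.card G := hx ▸ orderOf_dvd_natCard x
  refine ⟨Nat.mul_div_cancel' hd, fun h => h2 ?_⟩
  rw [sq, ← Nat.mul_div_cancel' hd]
  exact Nat.mul_dvd_mul_left p h

theorem pow_eq_self_of_regular (hx : orderOf x = p) (h2 : ¬ p ^ 2 ∣ Nat.card G) {k : ℕ}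
    (hk : k ≡ 1 [MOD Nat.card G / p]) {g : G} (hg : ¬ p ∣ orderOf g) : g ^ k = g := by
  have hd : orderOf g ∣ Nat.card G / p := by
    have := (not_dvd_div hx h2).1 ▸ orderOf_dvd_natCard g
    exact ((Nat.coprime_comm.mp ((Fact.out : p.Prime).coprime_iff_not_dvd.mpr hg))).dvd_of_dvd_mul_left
      this
  conv_rhs => rw [← pow_one g]
  rw [pow_eq_pow_iff_modEq]
  exact hk.of_dvd hd

theorem exists_exponent (hx : orderOf x = p) (h2 : ¬ p ^ 2 ∣ Nat.card G) (u : (ZMod p)ˣ) :
    ∃ k : ℕ, k.Coprime (Nat.card G) ∧ (k : ZMod p) = u ∧ k ≡ 1 [MOD Nat.card G / p] := by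
  obtain ⟨hm, hndvd⟩ := not_dvd_div hx h2
  have hcop : p.Coprime (Nat.card G / p) :=
    (Fact.out : p.Prime).coprime_iff_not_dvd.mpr hndvd
  obtain ⟨k, hk1, hk2⟩ := Nat.chineseRemainder hcop (u : ZMod p).val 1
  have hku : (k : ZMod p) = u := by
    rw [(ZMod.natCast_eq_natCast_iff _ _ _).mpr hk1, ZMod.natCast_zmod_val]
  refine ⟨k, ?_, hku, hk2⟩
  rw [← hm]
  refine Nat.Coprime.mul_right ?_ ?_
  · rw [Nat.coprime_comm, (Fact.out : p.Prime).coprime_iff_not_dvd]
    intro h
    rw [(ZMod.natCast_eq_zero_iff _ _).mpr h] at hku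
    exact u.ne_zero hku.symm
  · exact (Nat.coprime_comm.mp (by rw [Nat.coprime_iff_gcd_eq_one, Nat.gcd_comm, hk2.gcd_eq]; simp))

theorem aval_pow (hx : orderOf x = p) {V : Subgroup G} (hV : IsVPart p x V) {k : ℕ}
    (hk : k.Coprime (Nat.card G)) {χ ψ : G → ℂ} (h : ∀ g, ψ g = χ (g ^ k)) (z : ZMod p) :
    aval x V ψ z = aval x V χ (z * (k : ZMod p)) := by
  have hkV : (Nat.card V).Coprime k :=
    (hk.of_dvd_right (Subgroup.card_subgroup_dvd_card V)).symm
  simp only [aval]
  congr 1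
  refine finsum_eq_of_bijective _ (powCoprime hkV).bijective fun v => ?_
  have hxp := pow_eq_one_of_order hx
  rw [h, ((vpart_le hV v v.2).pow_left z.val).mul_pow, pow_val_mul hxp, ← pow_mul x z.val]
  congr 2
  rw [← pow_mul, pow_eq_pow_iff_modEq, hx, ← ZMod.natCast_eq_natCast_iff]
  simp

/-- Inversion of the periods. -/
theorem inversion (E : Subgroup (ZMod p)ˣ) [Fintype E] [Fintype ((ZMod p)ˣ ⧸ E)]
    (b : (ZMod p)ˣ ⧸ E → ℤ) (q' : (ZMod p)ˣ ⧸ E) :
    ∑ r, (∑ q, (b q : ℂ) * eta E (q * r)) * (conj (eta E (q' * r)) - Fintype.card E) =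
      p * b q' := by
  classical
  have h1 : ∀ q, ∑ r, eta E (q * r) * conj (eta E (q' * r)) =
      (if q = q' then (p : ℂ) else 0) - Fintype.card E := by
    intro q
    rw [← sum_eta_mul_conj E q q']
    exact Finset.sum_congr rfl fun r _ => by rw [mul_comm q, mul_comm q']
  have h2 : ∀ q, ∑ r, eta E (q * r) = -1 := fun q => by
    rw [← sum_eta_shift E q]
    exact Finset.sum_congr rfl fun r _ => by rw [mul_comm q]
  calc ∑ r, (∑ q, (b q : ℂ) * eta E (q * r)) * (conj (eta E (q' * r)) - Fintype.card E)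
      = ∑ q, (b q : ℂ) * (∑ r, eta E (q * r) * conj (eta E (q' * r)) -
          (∑ r, eta E (q * r)) * Fintype.card E) := by
        simp only [Finset.sum_mul]
        rw [Finset.sum_comm]
        refine Finset.sum_congr rfl fun q _ => ?_
        rw [← Finset.sum_sub_distrib, Finset.mul_sum]
        exact Finset.sum_congr rfl fun r _ => by ring
    _ = _ := by
        simp only [h1, h2]
        rw [Finset.sum_eq_single q']
        · rw [if_pos rfl]; ring
        · intro q _ hq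
          rw [if_neg hq]; ring
        · simp

/-- The products of the coefficients. -/
theorem sum_mul_b (E : Subgroup (ZMod p)ˣ) [Fintype E] [Fintype ((ZMod p)ˣ ⧸ E)] {ι : Type*}
    [Fintype ι] (b : ι → (ZMod p)ˣ ⧸ E → ℤ) [DecidableEq ((ZMod p)ˣ ⧸ E)]
    (h : ∀ r s, ∑ i, (∑ q, (b i q : ℂ) * eta E (q * r)) * conj (∑ q, (b i q : ℂ) * eta E (q * s)) =
      if r = s then (p : ℂ) else 0) (q q' : (ZMod p)ˣ ⧸ E) :
    ∑ i, b i q * b i q' = (if q = q' then 1 else 0) + (Fintype.card E : ℤ) := by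
  set e : ℂ := (Fintype.card E : ℂ) with he
  set t : ℂ := (Fintype.card ((ZMod p)ˣ ⧸ E) : ℂ) with ht
  have het : t * e = (p : ℂ) - 1 := by
    rw [ht, he, ← Nat.cast_mul, card_mul_card, Nat.cast_sub (Fact.out : p.Prime).one_le,
      Nat.cast_one]
  have h3 : ∑ r, (conj (eta E (q * r)) - e) * conj (conj (eta E (q' * r)) - e) =
      (if q = q' then (p : ℂ) else 0) + (p : ℂ) * e := by
    have h1 : ∀ q : (ZMod p)ˣ ⧸ E, ∑ r, eta E (q * r) = -1 := fun q => by
      rw [← sum_eta_shift E q]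
      exact Finset.sum_congr rfl fun r _ => by rw [mul_comm q]
    have h2 : ∑ r, conj (eta E (q * r)) * eta E (q' * r) =
        (if q' = q then (p : ℂ) else 0) - e := by
      refine Eq.trans ?_ ((sum_eta_mul_conj E q' q).trans ?_)
      · exact Finset.sum_congr rfl fun r _ => by rw [mul_comm q, mul_comm q', mul_comm]
      · rw [he]; congr
    have h1c : ∑ r, conj (eta E (q * r)) = -1 := by rw [← map_sum, h1]; simp
    calc ∑ r, (conj (eta E (q * r)) - e) * conj (conj (eta E (q' * r)) - e)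
        = ∑ r, (conj (eta E (q * r)) * eta E (q' * r) - e * conj (eta E (q * r))
            - e * eta E (q' * r) + e * e) := by
          refine Finset.sum_congr rfl fun r _ => ?_
          rw [map_sub, Complex.conj_conj, he, map_natCast]; ring
      _ = _ := by
          simp only [Finset.sum_add_distrib, Finset.sum_sub_distrib, ← Finset.mul_sum, h1, h1c, h2,
            Finset.sum_const, Finset.card_univ, nsmul_eq_mul, ← ht, eq_comm (a := q')]
          linear_combination e * het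
  have key : (p : ℂ) ^ 2 * ∑ i, (b i q : ℂ) * b i q' =
      (p : ℂ) * ((if q = q' then (p : ℂ) else 0) + (p : ℂ) * e) := by
    calc (p : ℂ) ^ 2 * ∑ i, (b i q : ℂ) * b i q'
        = ∑ i, ((p : ℂ) * b i q) * conj ((p : ℂ) * b i q') := by
          rw [Finset.mul_sum]
          exact Finset.sum_congr rfl fun i _ => by simp; ring
      _ = ∑ i, ∑ r, ∑ s, ((∑ q, (b i q : ℂ) * eta E (q * r)) *
            conj (∑ q, (b i q : ℂ) * eta E (q * s))) *
            ((conj (eta E (q * r)) - e) * conj (conj (eta E (q' * s)) - e)) := by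
          refine Finset.sum_congr rfl fun i _ => ?_
          rw [← inversion E (b i) q, ← inversion E (b i) q', map_sum, Finset.sum_mul_sum]
          refine Finset.sum_congr rfl fun r _ => Finset.sum_congr rfl fun s _ => ?_
          rw [map_mul, he]; ring
      _ = _ := by
          rw [Finset.sum_comm, ← h3, Finset.mul_sum]
          refine Finset.sum_congr rfl fun r _ => ?_
          rw [Finset.sum_comm]
          simp only [← Finset.sum_mul, h, ite_mul, zero_mul, Finset.sum_ite_eq, Finset.mem_univ,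
            if_true]
  have hp0 : (p : ℂ) ≠ 0 := Nat.cast_ne_zero.mpr (Fact.out : p.Prime).ne_zero
  have : ((∑ i, b i q * b i q' : ℤ) : ℂ) =
      (((if q = q' then 1 else 0) + (Fintype.card E : ℤ) : ℤ) : ℂ) := by
    push_cast
    refine mul_left_cancel₀ (pow_ne_zero 2 hp0) ?_
    rw [key, he]
    split_ifs <;> ring
  exact_mod_cast this

set_option maxHeartbeats 4000000 in
open scoped Classical in
/-- The full statement. -/
theorem exists_family (hx : orderOf x = p) (h2 : ¬ p ^ 2 ∣ Nat.card G) {V : Subgroup G}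
    (hV : IsVPart p x V) :
    ∃ (R : Finset (Cfsg.IrrCharacter G))
      (Y : (ZMod p)ˣ ⧸ autE (pow_eq_one_of_order hx) → Cfsg.IrrCharacter G)
      (a : Cfsg.IrrCharacter G → ℤ) (δ : ℤ),
      Function.Injective Y ∧ (∀ q, Y q ∉ R) ∧ (δ = 1 ∨ δ = -1) ∧
      oneChar G ∈ R ∧ a (oneChar G) = 1 ∧ R.card = Nat.card (autE (pow_eq_one_of_order hx)) ∧
      (∀ χ ∈ R, (a χ = 1 ∨ a χ = -1) ∧
        ∀ u : (ZMod p)ˣ, ∀ v ∈ V, (χ : G → ℂ) (x ^ (u : ZMod p).val * v) = a χ) ∧
      (∀ q, ∀ u : (ZMod p)ˣ, ∀ v ∈ V, (Y q : G → ℂ) (x ^ (u : ZMod p).val * v) =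
        δ * eta _ (q * QuotientGroup.mk u)) ∧
      (∀ χ, χ ∉ R → (∀ q, Y q ≠ χ) → ∀ u : (ZMod p)ˣ,
        aval x V (χ : G → ℂ) (u : ZMod p) = 0) ∧
      (∀ q, ∀ g : G, ¬ p ∣ orderOf g → (Y q : G → ℂ) g = (Y 1 : G → ℂ) g) ∧
      (∀ g : G, ¬ p ∣ orderOf g →
        ∑ χ ∈ R, (a χ : ℂ) * (χ : G → ℂ) g = δ * (Y 1 : G → ℂ) g) := by
  classical
  have := Fintype.ofFinite (Cfsg.IrrCharacter G)
  have := Fintype.ofFinite V
  set E := autE (pow_eq_one_of_order hx) with hE
  have := Fintype.ofFinite E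
  have := Fintype.ofFinite ((ZMod p)ˣ ⧸ E)
  set e : ℤ := (Fintype.card E : ℤ) with he
  have hbex : ∀ χ : Cfsg.IrrCharacter G, ∃ b : (ZMod p)ˣ ⧸ E → ℤ, ∀ u : (ZMod p)ˣ,
      aval x V (χ : G → ℂ) (u : ZMod p) = ∑ q, (b q : ℂ) * eta E (q * QuotientGroup.mk u) :=
    fun χ => exists_b hx hV (isCharacter_irr χ)
  choose b hb using hbex
  let A : Cfsg.IrrCharacter G → (ZMod p)ˣ ⧸ E → ℂ := fun χ r => ∑ q, (b χ q : ℂ) * eta E (q * r)
  have hA : ∀ χ (u : (ZMod p)ˣ), A χ (QuotientGroup.mk u) = aval x V (χ : G → ℂ) (u : ZMod p) :=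
    fun χ u => (hb χ u).symm
  have hcol : ∀ (u : (ZMod p)ˣ) (v : V) (s : (ZMod p)ˣ ⧸ E),
      ∑ χ : Cfsg.IrrCharacter G, (χ : G → ℂ) (x ^ (u : ZMod p).val * v) * conj (A χ s) =
        if (QuotientGroup.mk u : (ZMod p)ˣ ⧸ E) = s then (p : ℂ) else 0 := by
    intro u v s
    obtain ⟨w, rfl⟩ := QuotientGroup.mk_surjective s
    simp only [hA]
    exact sum_mul_conj_aval hx h2 hV u w v
  have hAA : ∀ r s, ∑ χ : Cfsg.IrrCharacter G, A χ r * conj (A χ s) =
      if r = s then (p : ℂ) else 0 := by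
    intro r s
    obtain ⟨u, rfl⟩ := QuotientGroup.mk_surjective r
    conv_lhs =>
      arg 2
      intro χ
      rw [hA χ u, aval, finsum_eq_sum_of_fintype, mul_assoc, Finset.sum_mul]
    rw [← Finset.mul_sum, Finset.sum_comm]
    simp only [hcol, Finset.sum_const, Finset.card_univ, nsmul_eq_mul,
      ← Nat.card_eq_fintype_card]
    rw [← mul_assoc, inv_mul_cancel₀ (Nat.cast_ne_zero.mpr Nat.card_pos.ne'), one_mul]
  have hbb := sum_mul_b E b hAA
  have hp0 : (p : ℂ) ≠ 0 := Nat.cast_ne_zero.mpr (Fact.out : p.Prime).ne_zero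
  have hte : (Fintype.card ((ZMod p)ˣ ⧸ E) : ℂ) * Fintype.card E = (p : ℂ) - 1 := by
    rw [← Nat.cast_mul, card_mul_card, Nat.cast_sub (Fact.out : p.Prime).one_le, Nat.cast_one]
  -- translation by Galois conjugation
  have htr : ∀ (k : ℕ), k.Coprime (Nat.card G) → ∀ (u : (ZMod p)ˣ), (k : ZMod p) = u →
      ∀ χ ψ : Cfsg.IrrCharacter G, (∀ g, (ψ : G → ℂ) g = (χ : G → ℂ) (g ^ k)) →
        ∀ q, b ψ q = b χ (q * (QuotientGroup.mk u)⁻¹) := by
    intro k hk u hku χ ψ hψ q
    have hAψ : ∀ r, A ψ r = A χ (r * QuotientGroup.mk u) := by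
      intro r
      obtain ⟨w, rfl⟩ := QuotientGroup.mk_surjective r
      rw [← QuotientGroup.mk_mul, hA, hA, aval_pow hx hV hk hψ, hku, Units.val_mul]
    have h1 := inversion E (b ψ) q
    have h2 := inversion E (b χ) (q * (QuotientGroup.mk u)⁻¹)
    have : (p : ℂ) * b ψ q = (p : ℂ) * b χ (q * (QuotientGroup.mk u)⁻¹) := by
      rw [← h1, ← h2]
      refine Fintype.sum_equiv (Equiv.mulRight (QuotientGroup.mk u)) _ _ fun r => ?_
      have e1 : q * (QuotientGroup.mk u)⁻¹ * (r * QuotientGroup.mk u) = q * r := by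
        rw [mul_comm r (QuotientGroup.mk u), ← mul_assoc, inv_mul_cancel_right]
      simp only [Equiv.coe_mulRight]
      rw [e1]
      exact congrArg (· * (conj (eta E (q * r)) - (Fintype.card E : ℂ))) (hAψ r)
    exact_mod_cast mul_left_cancel₀ hp0 this
  -- the permutation of the characters
  have hperm : ∀ κ : (ZMod p)ˣ ⧸ E, ∃ σ : Equiv.Perm (Cfsg.IrrCharacter G),
      (∀ χ q, b (σ χ) q = b χ (q * κ)) ∧
      ∀ χ g, ¬ p ∣ orderOf g → (σ χ : G → ℂ) g = (χ : G → ℂ) g := by
    intro κ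
    obtain ⟨u, hu⟩ := QuotientGroup.mk_surjective κ⁻¹
    obtain ⟨k, hk, hku, hk1⟩ := exists_exponent hx h2 u
    have := Fintype.ofFinite G
    let f : Cfsg.IrrCharacter G → Cfsg.IrrCharacter G := fun χ =>
      ⟨fun g => (χ : G → ℂ) (g ^ k), BC78.PowChar.isIrrCharacter_pow χ.2 hk⟩
    have hf : Function.Injective f := by
      intro χ ψ h
      refine Subtype.ext (funext fun g => ?_)
      obtain ⟨g₀, hg₀⟩ := (powCoprime (G := G) hk.symm).surjective g
      rw [← hg₀]
      exact congrArg (fun F : Cfsg.IrrCharacter G => (F : G → ℂ) g₀) h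
    refine ⟨Equiv.ofBijective f (Finite.injective_iff_bijective.mp hf), fun χ q => ?_,
      fun χ g hg => ?_⟩
    · rw [Equiv.ofBijective_apply, htr k hk u hku χ (f χ) (fun g => rfl), hu, inv_inv]
    · show (χ : G → ℂ) (g ^ k) = _
      rw [pow_eq_self_of_regular hx h2 hk1 hg]
  choose σ hσb hσg using hperm
  -- orbits
  have horb : ∀ χ : Cfsg.IrrCharacter G, ∃ (O : Finset (Cfsg.IrrCharacter G)) (m : ℕ) (a : ℤ),
      χ ∈ O ∧ 0 < m ∧ (a = 0 ∨ a = 1 ∨ a = -1) ∧
      (∀ ψ ∈ O, ∃ κ, ∀ q, b ψ q = b χ (q * κ)) ∧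
      (∀ κ, ∃ ψ ∈ O, ∀ q, b ψ q = b χ (q * κ)) ∧
      (∀ r, (m : ℂ) * ∑ ψ ∈ O, A ψ r = a) ∧
      (a ≠ 0 → ∀ u : (ZMod p)ˣ, ∀ v ∈ V,
        (m : ℂ) * ∑ ψ ∈ O, (ψ : G → ℂ) (x ^ (u : ZMod p).val * v) = a) := by
    intro χ
    obtain ⟨W, O, m, a, hW, hχ, hm, hmem, hall, ha, hsum, hconst⟩ := CharOrbit.exists_orbit hx h2 χ
    obtain rfl : W = V := vpart_unique hW hV
    have hval : ∀ u : (ZMod p)ˣ, ¬ p ∣ (u : ZMod p).val := fun u h => u.ne_zero (by
      rw [← ZMod.natCast_zmod_val (u : ZMod p), (ZMod.natCast_eq_zero_iff _ _).mpr h])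
    refine ⟨O, m, a, hχ, hm, ha, ?_, ?_, ?_, fun ha0 u v hv => hconst ha0 _ (hval u) v hv⟩
    · intro ψ hψ
      obtain ⟨k, hk, hψk⟩ := hmem ψ hψ
      have hk0 : (k : ZMod p) ≠ 0 := by
        rw [Ne, ZMod.natCast_eq_zero_iff]
        intro h
        exact ((Fact.out : p.Prime).coprime_iff_not_dvd.mp
          (hk.of_dvd h (hx ▸ orderOf_dvd_natCard x))) (dvd_refl p)
      exact ⟨(QuotientGroup.mk (Units.mk0 _ hk0))⁻¹,
        fun q => htr k hk (Units.mk0 _ hk0) rfl χ ψ hψk q⟩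
    · intro κ
      obtain ⟨u, hu⟩ := QuotientGroup.mk_surjective κ⁻¹
      obtain ⟨ψ, hψ, k, hk, hkb, hψk⟩ := hall _ (hval u)
      refine ⟨ψ, hψ, fun q => ?_⟩
      rw [htr k hk u (by rw [(ZMod.natCast_eq_natCast_iff _ _ _).mpr hkb, ZMod.natCast_zmod_val])
        χ ψ hψk, hu, inv_inv]
    · intro r
      obtain ⟨u, rfl⟩ := QuotientGroup.mk_surjective r
      have h := hsum _ (hval u)
      rw [← finsum_set_coe_eq_finsum_mem] at h
      simp only [hA, aval, ← Finset.mul_sum]
      rw [← finsum_sum_comm _ _ fun _ _ => (Set.toFinite _), mul_left_comm, mul_finsum]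
      rw [show (∑ᶠ v : W, (m : ℂ) * ∑ ψ ∈ O, (ψ : G → ℂ) (x ^ (u : ZMod p).val * v)) =
        (Nat.card W : ℂ) * a from h, ← mul_assoc,
        inv_mul_cancel₀ (Nat.cast_ne_zero.mpr Nat.card_pos.ne'), one_mul]
  have hAc : ∀ (χ : Cfsg.IrrCharacter G) (c : ℤ), (∀ q, b χ q = c) → ∀ r, A χ r = -c := by
    intro χ c hc r
    simp only [A, hc, ← Finset.mul_sum]
    rw [sum_eta_shift]; ring
  -- constant rows
  have hconst : ∀ (χ : Cfsg.IrrCharacter G) (c : ℤ), (∀ q, b χ q = c) → c ≠ 0 →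
      (c = 1 ∨ c = -1) ∧ ∀ u : (ZMod p)ˣ, ∀ v ∈ V,
        (χ : G → ℂ) (x ^ (u : ZMod p).val * v) = -c := by
    intro χ c hc hc0
    obtain ⟨O, m, a, hχ, hm, ha, hmem, -, hsum, hval⟩ := horb χ
    have h1 : ((m : ℤ) * O.card * (-c) : ℤ) = a := by
      have h := hsum 1
      rw [Finset.sum_congr rfl fun ψ hψ => hAc ψ c (fun q => by
        obtain ⟨κ, hκ⟩ := hmem ψ hψ
        rw [hκ, hc]) 1, Finset.sum_const, nsmul_eq_mul] at h
      have h' : ((((m : ℤ) * O.card * (-c) : ℤ)) : ℂ) = (a : ℤ) := by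
        push_cast; rw [← h]; ring
      exact_mod_cast h'
    have hcard : 1 ≤ O.card := Finset.card_pos.mpr ⟨χ, hχ⟩
    have habs : m * O.card * c.natAbs = a.natAbs := by
      rw [← h1, Int.natAbs_mul, Int.natAbs_mul, Int.natAbs_neg]; simp
    have ha1 : a.natAbs = 1 := by
      rcases ha with rfl | rfl | rfl
      · simp only [mul_eq_zero, neg_eq_zero, Nat.cast_eq_zero] at h1; omega
      · rfl
      · rfl
    rw [ha1] at habs
    obtain ⟨hmO, hca⟩ := mul_eq_one.mp habs
    obtain ⟨hm1, hO1⟩ := mul_eq_one.mp hmO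
    refine ⟨by omega, fun u v hv => ?_⟩
    have ha0 : a ≠ 0 := by omega
    have h := hval ha0 u v hv
    obtain ⟨ψ, hψ⟩ := Finset.card_eq_one.mp hO1
    rw [hψ, Finset.mem_singleton] at hχ
    subst hχ
    rw [hψ, hm1, Finset.sum_singleton, Nat.cast_one, one_mul] at h
    rw [h, ← h1, hm1, hO1]
    simp
  have hone : ∀ q, b (oneChar G) q = -1 := by
    intro q
    have h1 := inversion E (b (oneChar G)) q
    have hA1 : ∀ r, A (oneChar G) r = 1 := by
      intro r
      obtain ⟨u, rfl⟩ := QuotientGroup.mk_surjective r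
      rw [hA, aval, finsum_eq_sum_of_fintype]
      simp [oneChar_apply, Nat.card_eq_fintype_card]
    have h2 : (p : ℂ) * b (oneChar G) q = (p : ℂ) * ((-1 : ℤ) : ℂ) := by
      rw [← h1]
      show ∑ r, A (oneChar G) r * _ = _
      simp only [hA1, one_mul, Finset.sum_sub_distrib, Finset.sum_const, Finset.card_univ,
        nsmul_eq_mul, ← map_sum]
      rw [show ∑ r, eta E (q * r) = -1 by
        rw [← sum_eta_shift E q]; exact Finset.sum_congr rfl fun r _ => by rw [mul_comm q]]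
      simp only [map_neg, map_one, Int.cast_neg, Int.cast_one]
      linear_combination -hte
    exact_mod_cast mul_left_cancel₀ hp0 h2
  -- the exceptional family
  obtain ⟨Y, δ, hYinj, hδ, hYb, hY1, hclass, hYsum⟩ :
      ∃ (Y : (ZMod p)ˣ ⧸ E → Cfsg.IrrCharacter G) (δ : ℤ), Function.Injective Y ∧
        (δ = 1 ∨ δ = -1) ∧ (∀ κ q, b (Y κ) q = if q = κ then δ else 0) ∧
        (∀ κ, Y κ ≠ oneChar G) ∧
        (∀ χ, (∃ κ, Y κ = χ) ∨ ∀ q q', b χ q = b χ q') ∧
        ∀ u : (ZMod p)ˣ, ∀ v ∈ V, ∑ κ, (Y κ : G → ℂ) (x ^ (u : ZMod p).val * v) = -δ := by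
    by_cases ht : 2 ≤ Fintype.card ((ZMod p)ˣ ⧸ E)
    · obtain ⟨Y, c, δ, hinj, hδ, hYb, hcl⟩ := Combin.shift_family b e hbb
        (fun κ => ⟨σ κ, hσb κ⟩) ht
      obtain ⟨O, m, a, hχ, hm, ha, hmem, hall, hsum, hval⟩ := horb (Y 1)
      have hne : ∀ κ : (ZMod p)ˣ ⧸ E, ∀ χ : Cfsg.IrrCharacter G,
          (∀ q, b χ q = b (Y 1) (q * κ)) → χ = Y κ⁻¹ := by
        intro κ χ h
        have hv : ∀ q, b χ q = c + if q = κ⁻¹ then δ else 0 := fun q => by
          rw [h, hYb]
          congr 1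
          exact if_congr mul_eq_one_iff_eq_inv rfl rfl
        obtain ⟨κ', rfl⟩ | hc := hcl χ
        · by_contra hne
          have hkne : κ⁻¹ ≠ κ' := fun he => hne (by rw [he])
          have := hv κ⁻¹
          rw [hYb, if_pos rfl, if_neg hkne] at this
          omega
        · obtain ⟨q, hq⟩ := Fintype.exists_ne_of_one_lt_card (by omega : 1 < Fintype.card _) κ⁻¹
          have := hc q κ⁻¹
          rw [hv, hv, if_neg hq, if_pos rfl] at this
          omega
      have hO : O = Finset.univ.image Y := by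
        ext ψ
        simp only [Finset.mem_image, Finset.mem_univ, true_and]
        constructor
        · intro hψ
          obtain ⟨κ, hκ⟩ := hmem ψ hψ
          exact ⟨κ⁻¹, (hne κ ψ hκ).symm⟩
        · rintro ⟨κ, rfl⟩
          obtain ⟨ψ, hψ, hb'⟩ := hall κ⁻¹
          rw [hne _ ψ hb', inv_inv] at hψ
          exact hψ
      rw [hO] at hsum hval
      simp only [Finset.sum_image hinj.injOn] at hsum hval
      have hsumA : ∀ r, ∑ κ, A (Y κ) r =
          -((Fintype.card ((ZMod p)ˣ ⧸ E) : ℂ) * c + δ) := by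
        intro r
        simp only [A, hYb, Int.cast_add, add_mul, Finset.sum_add_distrib]
        have h1 : ∀ κ : (ZMod p)ˣ ⧸ E,
            ∑ q, (((if q = κ then δ else 0 : ℤ)) : ℂ) * eta E (q * r) = δ * eta E (κ * r) := by
          intro κ
          rw [Finset.sum_eq_single κ]
          · rw [if_pos rfl]
          · intro q _ hq; rw [if_neg hq, Int.cast_zero, zero_mul]
          · simp
        simp only [h1, ← Finset.mul_sum, sum_eta_shift, Finset.sum_const, Finset.card_univ,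
          nsmul_eq_mul]
        ring
      have hT : (m : ℤ) * (-((Fintype.card ((ZMod p)ˣ ⧸ E) : ℤ) * c + δ)) = a := by
        have := hsum 1
        rw [hsumA] at this
        exact_mod_cast this
      set T : ℤ := (Fintype.card ((ZMod p)ˣ ⧸ E) : ℤ)
      have hT2 : 2 ≤ T := by simp only [T]; omega
      have hcases : m = 1 ∧ (c = 0 ∨ (T = 2 ∧ c = -δ)) := by
        have h0 : T * c + δ ≠ 0 := by
          intro h
          have : T ∣ δ := ⟨-c, by linarith⟩
          rcases hδ with rfl | rfl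
          · have := Int.le_of_dvd one_pos this; omega
          · have := Int.le_of_dvd one_pos (Int.dvd_neg.mp this); omega
        have ha1 : (T * c + δ).natAbs * m = 1 := by
          have h' : (m * (T * c + δ).natAbs) = a.natAbs := by
            rw [← hT, Int.natAbs_mul, Int.natAbs_neg]; simp
          rcases ha with rfl | rfl | rfl
          · simp at h'; omega
          · simpa [mul_comm] using h'
          · simpa [mul_comm] using h'
        obtain ⟨h1, h2⟩ := mul_eq_one.mp ha1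
        refine ⟨h2, ?_⟩
        by_cases hc : c = 0
        · exact Or.inl hc
        · right
          have hc2 : T * c + δ = 1 ∨ T * c + δ = -1 := by omega
          rcases lt_or_gt_of_ne hc with hneg | hpos
          · have : T * c ≤ T * (-1) := by nlinarith
            refine ⟨by omega, ?_⟩
            have hT' : T = 2 := by omega
            rw [hT'] at this hc2
            omega
          · have : T * 1 ≤ T * c := by nlinarith
            refine ⟨by omega, ?_⟩
            have hT' : T = 2 := by omega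
            rw [hT'] at this hc2
            omega
      obtain ⟨hm1, hc⟩ := hcases
      have ha' : (a : ℂ) = -((T : ℂ) * c + δ) := by
        rw [← hT, hm1]; push_cast; ring
      have ha0 : a ≠ 0 := by
        intro h
        rcases hc with rfl | ⟨hT', rfl⟩
        · rw [hm1] at hT; simp at hT; omega
        · rw [hm1, hT'] at hT; simp at hT; omega
      have hvals : ∀ u : (ZMod p)ˣ, ∀ v ∈ V,
          ∑ κ, (Y κ : G → ℂ) (x ^ (u : ZMod p).val * v) = -((T : ℂ) * c + δ) := by
        intro u v hv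
        have := hval ha0 u v hv
        rw [hm1, Nat.cast_one, one_mul] at this
        rw [this, ha']
      have hYone : ∀ κ, Y κ ≠ oneChar G := by
        intro κ h
        obtain ⟨q, hq⟩ := Fintype.exists_ne_of_one_lt_card (by omega : 1 < Fintype.card _) κ
        have h1 := hYb κ κ
        have h2 := hYb κ q
        rw [h, hone, if_pos rfl] at h1
        rw [h, hone, if_neg hq] at h2
        omega
      rcases hc with rfl | ⟨hT', rfl⟩
      · refine ⟨Y, δ, hinj, hδ, fun κ q => by rw [hYb, zero_add], hYone, hcl, fun u v hv => ?_⟩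
        rw [hvals u v hv]; simp
      · obtain ⟨τ, hτ⟩ := Fintype.exists_ne_of_one_lt_card
          (by omega : 1 < Fintype.card ((ZMod p)ˣ ⧸ E)) 1
        have htwo : ∀ q κ : (ZMod p)ˣ ⧸ E, q = κ * τ ↔ q ≠ κ := by
          intro q κ
          constructor
          · rintro rfl h
            exact hτ (mul_eq_left.mp h)
          · intro hq
            by_contra h
            have h3 : ({q, κ, κ * τ} : Finset ((ZMod p)ˣ ⧸ E)).card = 3 :=
              Finset.card_eq_three.mpr ⟨q, κ, κ * τ, hq, h, fun he => hτ (mul_eq_left.mp he.symm),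
                rfl⟩
            have := Finset.card_le_univ ({q, κ, κ * τ} : Finset ((ZMod p)ˣ ⧸ E))
            omega
        refine ⟨fun κ => Y (κ * τ), -δ, fun κ κ' h => mul_right_cancel (hinj h), by omega,
          fun κ q => ?_, fun κ => hYone _, fun χ => ?_, fun u v hv => ?_⟩
        · rw [hYb]
          by_cases hq : q = κ
          · rw [if_pos hq, if_neg (by rw [htwo]; exact fun h => h hq)]; ring
          · rw [if_neg hq, if_pos ((htwo q κ).mpr hq)]; ring
        · obtain ⟨κ, hκ⟩ | h := hcl χ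
          · exact Or.inl ⟨κ * τ⁻¹, by simp only [inv_mul_cancel_right]; exact hκ⟩
          · exact Or.inr h
        · rw [Fintype.sum_equiv (Equiv.mulRight τ) (fun κ => (Y (κ * τ) : G → ℂ) _)
            (fun κ => (Y κ : G → ℂ) (x ^ (u : ZMod p).val * v)) (fun κ => rfl), hvals u v hv,
            hT']
          push_cast; ring
    · have hQ : Fintype.card ((ZMod p)ˣ ⧸ E) = 1 := by
        have : 0 < Fintype.card ((ZMod p)ˣ ⧸ E) := Fintype.card_pos
        omega
      have hsub : ∀ q q' : (ZMod p)ˣ ⧸ E, q = q' :=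
        (Fintype.card_le_one_iff.mp hQ.le)
      obtain ⟨χ, hχ1, hχ0⟩ : ∃ χ : Cfsg.IrrCharacter G, χ ≠ oneChar G ∧ b χ 1 ≠ 0 := by
        by_contra hcon
        push Not at hcon
        have := hbb 1 1
        rw [Finset.sum_eq_single (oneChar G) (fun χ _ h => by rw [hcon χ h, zero_mul]) (by simp),
          hone, if_pos rfl] at this
        have hpos : 0 < Fintype.card E := Fintype.card_pos
        omega
      obtain ⟨hc, hv⟩ := hconst χ (b χ 1) (fun q => by rw [hsub q 1]) hχ0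
      refine ⟨fun _ => χ, b χ 1, fun q q' _ => hsub q q', hc,
        fun κ q => by rw [if_pos (hsub q κ), hsub q 1], fun _ => hχ1,
        fun ψ => Or.inr fun q q' => by rw [hsub q q'], fun u v hv' => ?_⟩
      rw [Finset.sum_const, Finset.card_univ, hQ, one_smul, hv u v hv']
  have hAY : ∀ κ r, A (Y κ) r = δ * eta E (κ * r) := by
    intro κ r
    simp only [A, hYb]
    rw [Finset.sum_eq_single κ]
    · rw [if_pos rfl]
    · intro q _ hq; rw [if_neg hq, Int.cast_zero, zero_mul]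
    · simp
  let R : Finset (Cfsg.IrrCharacter G) :=
    Finset.univ.filter fun χ => (∀ κ, Y κ ≠ χ) ∧ b χ 1 ≠ 0
  have hR : ∀ χ, χ ∈ R ↔ (∀ κ, Y κ ≠ χ) ∧ b χ 1 ≠ 0 := fun χ => by simp [R]
  have hother : ∀ χ, χ ∉ R → (∀ κ, Y κ ≠ χ) → ∀ q, b χ q = 0 := by
    intro χ h hY q
    obtain ⟨κ, hκ⟩ | hc := hclass χ
    · exact absurd hκ (hY κ)
    · rw [hc q 1]
      by_contra h0
      exact h ((hR χ).mpr ⟨hY, h0⟩)
  have hcR : ∀ χ ∈ R, ∀ q, b χ q = b χ 1 := by
    intro χ hχ q
    obtain ⟨κ, hκ⟩ | hc := hclass χ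
    · exact absurd hκ (((hR χ).mp hχ).1 κ)
    · exact hc q 1
  have hRval : ∀ χ ∈ R, ((-b χ 1 : ℤ) = 1 ∨ (-b χ 1 : ℤ) = -1) ∧
      ∀ u : (ZMod p)ˣ, ∀ v ∈ V, (χ : G → ℂ) (x ^ (u : ZMod p).val * v) = (-b χ 1 : ℤ) := by
    intro χ hχ
    obtain ⟨h1, h2⟩ := hconst χ (b χ 1) (hcR χ hχ) ((hR χ).mp hχ).2
    exact ⟨by omega, fun u v hv => by rw [h2 u v hv]; push_cast; rfl⟩
  have hsplit : ∀ (f : Cfsg.IrrCharacter G → ℂ), (∀ χ, (∀ q, b χ q = 0) → f χ = 0) →
      ∑ χ, f χ = ∑ χ ∈ R, f χ + ∑ κ, f (Y κ) := by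
    intro f hf
    rw [← Finset.sum_image (f := f) hYinj.injOn, ← Finset.sum_union ?_]
    · refine (Finset.sum_subset (Finset.subset_univ _) fun χ _ hχ => ?_).symm
      simp only [Finset.mem_union, Finset.mem_image, Finset.mem_univ, true_and, not_or,
        not_exists] at hχ
      exact hf χ (hother χ hχ.1 hχ.2)
    · rw [Finset.disjoint_left]
      intro χ hχ hY
      obtain ⟨κ, -, hκ⟩ := Finset.mem_image.mp hY
      exact ((hR χ).mp hχ).1 κ hκ
  have hA0 : ∀ χ, (∀ q, b χ q = 0) → ∀ r, A χ r = 0 := fun χ h r => by simp [A, h]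
  have hYval : ∀ q, ∀ u : (ZMod p)ˣ, ∀ v ∈ V, (Y q : G → ℂ) (x ^ (u : ZMod p).val * v) =
      δ * eta E (q * QuotientGroup.mk u) := by
    intro q u v hv
    set r : (ZMod p)ˣ ⧸ E := QuotientGroup.mk u
    let d : (ZMod p)ˣ ⧸ E → ℂ := fun κ =>
      (Y κ : G → ℂ) (x ^ (u : ZMod p).val * v) - δ * eta E (κ * r)
    have hd0 : ∑ κ, d κ = 0 := by
      simp only [d, Finset.sum_sub_distrib, ← Finset.mul_sum, hYsum u v hv, sum_eta_shift]
      ring
    have hds : ∀ s, ∑ κ, d κ * conj (eta E (κ * s)) = 0 := by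
      intro s
      have h1 := hcol u ⟨v, hv⟩ s
      rw [← hAA r s, ← sub_eq_zero, ← Finset.sum_sub_distrib] at h1
      rw [hsplit _ (fun χ hχ => by rw [hA0 χ hχ s]; simp)] at h1
      rw [Finset.sum_eq_zero (s := R) fun χ hχ => by
        rw [(hRval χ hχ).2 u v hv, hAc χ (b χ 1) (hcR χ hχ) r]; push_cast; ring, zero_add] at h1
      have h2 : (δ : ℂ) * ∑ κ, d κ * conj (eta E (κ * s)) = 0 := by
        rw [Finset.mul_sum, ← h1]
        refine Finset.sum_congr rfl fun κ _ => ?_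
        simp only [d, hAY, map_mul, map_intCast]
        ring
      exact (mul_eq_zero.mp h2).resolve_left (Int.cast_ne_zero.mpr (by omega))
    have h3 : (p : ℂ) * d q = 0 := by
      calc (p : ℂ) * d q = ∑ κ, d κ * ((if q = κ then (p : ℂ) else 0) - Fintype.card E) := by
            simp only [mul_sub, Finset.sum_sub_distrib, mul_ite, mul_zero, Finset.sum_ite_eq,
              Finset.mem_univ, if_true, ← Finset.sum_mul, hd0, zero_mul, sub_zero]
            ring
        _ = ∑ κ, d κ * ∑ s, eta E (q * s) * conj (eta E (κ * s)) := by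
            refine Finset.sum_congr rfl fun κ _ => ?_
            rw [← sum_eta_mul_conj E q κ]
            congr 1
            exact Finset.sum_congr rfl fun s _ => by rw [mul_comm q, mul_comm κ]
        _ = 0 := by
            simp only [Finset.mul_sum]
            rw [Finset.sum_comm]
            refine Finset.sum_eq_zero fun s _ => ?_
            rw [← mul_eq_zero_of_right (eta E (q * s)) (hds s), Finset.mul_sum]
            exact Finset.sum_congr rfl fun κ _ => by ring
    exact sub_eq_zero.mp ((mul_eq_zero.mp h3).resolve_left hp0)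
  have hoth : ∀ χ, χ ∉ R → (∀ q, Y q ≠ χ) → ∀ u : (ZMod p)ˣ,
      aval x V (χ : G → ℂ) (u : ZMod p) = 0 := fun χ h hY u => by
    rw [← hA, hA0 χ (hother χ h hY)]
  have hYreg : ∀ q, ∀ g : G, ¬ p ∣ orderOf g → (Y q : G → ℂ) g = (Y 1 : G → ℂ) g := by
    intro q g hg
    rcases eq_or_ne q 1 with rfl | hq1
    · rfl
    have hYσ : σ q⁻¹ (Y 1) = Y q := by
      obtain ⟨κ, hκ⟩ | hc := hclass (σ q⁻¹ (Y 1))
      · have := hYb κ κ
        rw [hκ, hσb, hYb, if_pos rfl] at this
        rcases eq_or_ne κ q with rfl | hne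
        · exact hκ.symm
        · rw [if_neg (fun h => hne (mul_inv_eq_one.mp h))] at this
          omega
      · have := hc q 1
        rw [hσb, hσb, hYb, hYb, mul_inv_cancel, one_mul, if_pos rfl,
          if_neg (fun h => hq1 (inv_eq_one.mp h))] at this
        omega
    rw [← hYσ, hσg _ _ g hg]
  refine ⟨R, Y, fun χ => -b χ 1, δ, hYinj, fun q h => ((hR _).mp h).1 q rfl, hδ, ?_, ?_, ?_,
    hRval, hYval, hoth, hYreg, ?_⟩
  · exact (hR _).mpr ⟨hY1, by rw [hone]; omega⟩
  · show -b (oneChar G) 1 = 1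
    rw [hone]; ring
  · have h := congrArg (fun n : ℤ => (n : ℂ)) (hbb 1 1)
    simp only [if_true, Int.cast_sum, Int.cast_mul, Int.cast_add, Int.cast_one, e,
      Int.cast_natCast] at h
    rw [hsplit _ (fun χ hχ => by simp [hχ 1])] at h
    rw [Finset.sum_eq_single (s := Finset.univ) (1 : (ZMod p)ˣ ⧸ E)
      (fun κ _ hκ => by simp [hYb, Ne.symm hκ]) (by simp), hYb, if_pos rfl] at h
    rw [Finset.sum_congr rfl (fun χ hχ => show (b χ 1 : ℂ) * b χ 1 = 1 by
      rcases (hRval χ hχ).1 with h | h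
      · rw [show b χ 1 = -1 by omega]; norm_num
      · rw [show b χ 1 = 1 by omega]; norm_num), Finset.sum_const, nsmul_eq_mul, mul_one] at h
    have hδ2 : (δ : ℂ) * δ = 1 := by rcases hδ with rfl | rfl <;> norm_num
    rw [hδ2, add_comm (1 : ℂ), add_left_inj] at h
    rw [Nat.card_eq_fintype_card]
    exact_mod_cast h
  · intro g hg
    have h := sum_regular_mul_conj_aval hx hV (1 : (ZMod p)ˣ) hg
    simp only [← hA] at h
    rw [hsplit _ (fun χ hχ => by rw [hA0 χ hχ]; simp)] at h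
    have h1 : ∀ χ ∈ R, (χ : G → ℂ) g * conj (A χ (QuotientGroup.mk 1)) =
        ((-b χ 1 : ℤ) : ℂ) * (χ : G → ℂ) g := fun χ hχ => by
      rw [hAc χ (b χ 1) (hcR χ hχ), map_neg, map_intCast]; push_cast; ring
    have h2 : ∀ κ, (Y κ : G → ℂ) g * conj (A (Y κ) (QuotientGroup.mk 1)) =
        ((δ : ℂ) * (Y 1 : G → ℂ) g) * conj (eta E (κ * QuotientGroup.mk 1)) := fun κ => by
      rw [hAY, map_mul, map_intCast, hYreg κ g hg]; ring
    rw [Finset.sum_congr rfl h1, Finset.sum_congr rfl fun κ _ => h2 κ, ← Finset.mul_sum,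
      ← map_sum, sum_eta_shift, map_neg, map_one] at h
    linear_combination h

end Cfsg.Agent.Lib.FirstPower.Family
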