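import Mathlib.RingTheory.RootsOfUnity.Complex
import Mathlib.RingTheory.RootsOfUnity.PrimitiveRoots
import Mathlib.NumberTheory.LegendreSymbol.AddCharacter
import Mathlib.GroupTheory.QuotientGroup.Basic
import Mathlib.Analysis.Complex.Basic
import Mathlib.FieldTheory.Finite.Basic

/-!
# Periods of a subgroup of `(ZMod p)ˣ`
-/

namespace Cfsg.Agent.Lib.FirstPower.Periods

open scoped ComplexConjugate

variable {p : ℕ} [Fact p.Prime]

/-- The standard primitive root of order `p`. -/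
noncomputable def root (p : ℕ) : ℂ := Complex.exp (2 * Real.pi * Complex.I / (p : ℕ))

theorem root_spec : IsPrimitiveRoot (root p) p :=
  Complex.isPrimitiveRoot_exp p (Fact.out : p.Prime).ne_zero

/-- `z ↦ root ^ z` on `ZMod p`. -/
noncomputable def chr (p : ℕ) (z : ZMod p) : ℂ := root p ^ z.val

theorem chr_zero : chr p 0 = 1 := by simp [chr]

theorem chr_add (a b : ZMod p) : chr p (a + b) = chr p a * chr p b := by
  rw [chr, chr, chr, ← pow_add, (IsOfFinOrder.pow_eq_pow_iff_modEq (isOfFinOrder_iff_pow_eq_one.mpr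
    ⟨p, (Fact.out : p.Prime).pos, root_spec.pow_eq_one⟩)), ← root_spec.eq_orderOf,
    ← ZMod.natCast_eq_natCast_iff]
  simp

theorem chr_natCast (n : ℕ) : chr p (n : ZMod p) = root p ^ n := by
  rw [chr, ZMod.val_natCast, (IsOfFinOrder.pow_eq_pow_iff_modEq (isOfFinOrder_iff_pow_eq_one.mpr
    ⟨p, (Fact.out : p.Prime).pos, root_spec.pow_eq_one⟩)), ← root_spec.eq_orderOf]
  exact Nat.mod_modEq n p

theorem conj_chr (a : ZMod p) : conj (chr p a) = chr p (-a) := by
  have h : chr p a * chr p (-a) = 1 := by rw [← chr_add, add_neg_cancel, chr_zero]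
  have hn : ‖chr p a‖ = 1 := by
    rw [chr, norm_pow, root_spec.norm'_eq_one (Fact.out : p.Prime).ne_zero, one_pow]
  rw [← inv_eq_of_mul_eq_one_right h, Complex.inv_def, ← Complex.sq_norm, hn]
  simp

theorem sum_chr (a : ZMod p) : ∑ z : ZMod p, chr p (a * z) = if a = 0 then (p : ℂ) else 0 := by
  split_ifs with h
  · subst h; simp [chr_zero, ZMod.card]
  · rw [Fintype.sum_bijective (fun z => a * z) (mulLeft_bijective₀ a h) _ (fun z => chr p z)
      (fun z => rfl)]
    have hne : chr p 1 ≠ 1 := by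
      rw [show (1 : ZMod p) = ((1 : ℕ) : ZMod p) by simp, chr_natCast, pow_one]
      exact root_spec.ne_one (Fact.out : p.Prime).one_lt
    have hs : (chr p 1) * ∑ z : ZMod p, chr p z = ∑ z : ZMod p, chr p z := by
      rw [Finset.mul_sum]
      exact Fintype.sum_equiv (Equiv.addLeft 1) _ _ fun z => (chr_add 1 z).symm
    by_contra h0
    exact hne ((mul_eq_right₀ h0).mp hs)

theorem sum_chr_units (a : ZMod p) :
    ∑ u : (ZMod p)ˣ, chr p (a * u) = if a = 0 then (p : ℂ) - 1 else -1 := by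
  classical
  have h := sum_chr a
  rw [← Finset.add_sum_erase _ _ (Finset.mem_univ (0 : ZMod p)), mul_zero, chr_zero] at h
  have e : ∑ z ∈ Finset.univ.erase (0 : ZMod p), chr p (a * z) = ∑ u : (ZMod p)ˣ, chr p (a * u) := by
    symm
    refine Finset.sum_bij (fun (u : (ZMod p)ˣ) _ => (u : ZMod p)) ?_ ?_ ?_ fun _ _ => rfl
    · exact fun u _ => Finset.mem_erase.mpr ⟨u.ne_zero, Finset.mem_univ _⟩
    · exact fun _ _ _ _ h => Units.ext h
    · exact fun z hz => ⟨Units.mk0 z (Finset.mem_erase.mp hz).1, Finset.mem_univ _, rfl⟩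
  rw [e] at h
  split_ifs with ha
  · rw [if_pos ha] at h; linear_combination h
  · rw [if_neg ha] at h; linear_combination h

variable (E : Subgroup (ZMod p)ˣ)

open scoped Classical in
/-- The period of a coset. -/
noncomputable def eta (q : (ZMod p)ˣ ⧸ E) : ℂ :=
  ∑ u ∈ Finset.univ.filter (fun u : (ZMod p)ˣ => (QuotientGroup.mk u : (ZMod p)ˣ ⧸ E) = q),
    chr p u

theorem sum_eta [Fintype ((ZMod p)ˣ ⧸ E)] : ∑ q, eta E q = -1 := by
  classical
  unfold eta
  rw [Finset.sum_fiberwise]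
  have := sum_chr_units (1 : ZMod p)
  simpa using this

theorem sum_eta_shift [Fintype ((ZMod p)ˣ ⧸ E)] (r : (ZMod p)ˣ ⧸ E) :
    ∑ q, eta E (q * r) = -1 := by
  rw [← sum_eta E]
  exact Fintype.sum_equiv (Equiv.mulRight r) _ _ fun q => rfl

theorem card_fiber [Fintype E] (q : (ZMod p)ˣ ⧸ E) [DecidableEq ((ZMod p)ˣ ⧸ E)] :
    (Finset.univ.filter (fun u : (ZMod p)ˣ => (QuotientGroup.mk u : (ZMod p)ˣ ⧸ E) = q)).card =
      Fintype.card E := by
  obtain ⟨a, rfl⟩ := QuotientGroup.mk_surjective q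
  rw [← Finset.card_univ (α := E)]
  refine (Finset.card_bij (fun (k : E) _ => a * (k : (ZMod p)ˣ)) ?_ ?_ ?_).symm
  · intro k _
    rw [Finset.mem_filter, QuotientGroup.eq]
    exact ⟨Finset.mem_univ _, by simp⟩
  · intro k _ l _ h
    exact Subtype.ext (mul_left_cancel h)
  · intro u hu
    rw [Finset.mem_filter, QuotientGroup.eq] at hu
    exact ⟨⟨a⁻¹ * u, by
      have := inv_mem hu.2
      rwa [mul_inv_rev, inv_inv] at this⟩, Finset.mem_univ _, by simp⟩

open scoped Classical in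
theorem sum_eta_mul_conj [Fintype ((ZMod p)ˣ ⧸ E)] [Fintype E] (r s : (ZMod p)ˣ ⧸ E) :
    ∑ q, eta E (q * r) * conj (eta E (q * s)) =
      (if r = s then (p : ℂ) else 0) - Fintype.card E := by
  set d := r⁻¹ * s with hd
  have h1 : ∑ q, eta E (q * r) * conj (eta E (q * s)) =
      ∑ u : (ZMod p)ˣ, chr p u * conj (eta E (QuotientGroup.mk u * d)) := by
    rw [← Finset.sum_fiberwise Finset.univ (fun u : (ZMod p)ˣ => (QuotientGroup.mk u : (ZMod p)ˣ ⧸ E))
      (fun u => chr p u * conj (eta E (QuotientGroup.mk u * d)))]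
    refine Fintype.sum_equiv (Equiv.mulRight r) _ _ fun q => ?_
    simp only [Equiv.coe_mulRight]
    conv_lhs => rw [eta, Finset.sum_mul]
    refine Finset.sum_congr rfl fun u hu => ?_
    rw [(Finset.mem_filter.mp hu).2, hd, mul_assoc q, mul_inv_cancel_left]
  rw [h1]
  obtain ⟨a, ha⟩ := QuotientGroup.mk_surjective d
  have h2 : ∀ u : (ZMod p)ˣ, conj (eta E (QuotientGroup.mk u * d)) =
      ∑ k ∈ Finset.univ.filter (fun k : (ZMod p)ˣ => (QuotientGroup.mk k : (ZMod p)ˣ ⧸ E) = d),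
        chr p (-((u : ZMod p) * k)) := by
    intro u
    rw [eta, map_sum]
    refine Finset.sum_bij (fun w _ => u⁻¹ * w) ?_ ?_ ?_ ?_
    · intro w hw
      rw [Finset.mem_filter] at hw ⊢
      refine ⟨Finset.mem_univ _, ?_⟩
      rw [QuotientGroup.mk_mul, hw.2, QuotientGroup.mk_inv, inv_mul_cancel_left]
    · exact fun _ _ _ _ h => mul_left_cancel h
    · intro k hk
      rw [Finset.mem_filter] at hk
      refine ⟨u * k, Finset.mem_filter.mpr ⟨Finset.mem_univ _, ?_⟩, inv_mul_cancel_left u k⟩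
      rw [QuotientGroup.mk_mul, hk.2]
    · intro w _
      rw [conj_chr, ← Units.val_mul, mul_inv_cancel_left]
  simp only [h2, Finset.mul_sum, ← chr_add]
  rw [Finset.sum_comm]
  have h3 : ∀ k : (ZMod p)ˣ, ∑ u : (ZMod p)ˣ, chr p ((u : ZMod p) + -((u : ZMod p) * k)) =
      (if k = 1 then (p : ℂ) else 0) - 1 := by
    intro k
    rw [Fintype.sum_congr _ (fun u : (ZMod p)ˣ => chr p ((1 - (k : ZMod p)) * u))
      (fun u => congrArg _ (by ring)), sum_chr_units]
    by_cases hk : k = 1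
    · simp [hk]
    · have : (1 : ZMod p) - k ≠ 0 := sub_ne_zero.mpr fun h => hk (Units.ext h.symm)
      simp [hk, this]
  simp only [h3, Finset.sum_sub_distrib, Finset.sum_ite_eq', Finset.sum_const, nsmul_eq_mul,
    mul_one]
  rw [card_fiber]
  congr 1
  refine if_congr ?_ rfl rfl
  rw [Finset.mem_filter, hd]
  simp only [Finset.mem_univ, true_and, QuotientGroup.mk_one]
  exact ⟨fun h => (inv_mul_eq_one.mp h.symm), fun h => by rw [h, inv_mul_cancel]⟩

theorem card_mul_card [Fintype ((ZMod p)ˣ ⧸ E)] [Fintype E] :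
    Fintype.card ((ZMod p)ˣ ⧸ E) * Fintype.card E = p - 1 := by
  classical
  have h := Subgroup.card_eq_card_quotient_mul_card_subgroup E
  simp only [Nat.card_eq_fintype_card] at h
  rw [← h, ZMod.card_units]

end Cfsg.Agent.Lib.FirstPower.Periods
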