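import Cfsg.Agent.Lib.FirstPower.CharOrbit
import Cfsg.Agent.Lib.FirstPower.Periods
import Mathlib.LinearAlgebra.Trace

/-!
# Averages of characters on `x ^ i V`
-/

namespace Cfsg.Agent.Lib.FirstPower.Average

open Periods Cfsg.Agent.Lib.Characters.Basic
open scoped ComplexConjugate
open CharOrbit (IsVPart)

universe u

variable {p : ℕ} [Fact p.Prime] {G : Type u} [Group G] [Finite G] {x : G}

theorem pow_val_add (hx : x ^ p = 1) (a b : ZMod p) :
    x ^ (a + b).val = x ^ a.val * x ^ b.val := by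
  rw [← pow_add, pow_eq_pow_iff_modEq]
  exact ((ZMod.natCast_eq_natCast_iff _ _ _).mp (by simp)).of_dvd (orderOf_dvd_of_pow_eq_one hx)

theorem pow_val_mul (hx : x ^ p = 1) (a b : ZMod p) :
    x ^ (a * b).val = (x ^ a.val) ^ b.val := by
  rw [← pow_mul, pow_eq_pow_iff_modEq]
  exact ((ZMod.natCast_eq_natCast_iff _ _ _).mp (by simp)).of_dvd (orderOf_dvd_of_pow_eq_one hx)

theorem pow_val_natCast (hx : x ^ p = 1) (n : ℕ) : x ^ (n : ZMod p).val = x ^ n := by
  rw [pow_eq_pow_iff_modEq]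
  exact ((ZMod.natCast_eq_natCast_iff _ _ _).mp (by simp)).of_dvd (orderOf_dvd_of_pow_eq_one hx)

theorem pow_val_one (hx : x ^ p = 1) : x ^ (1 : ZMod p).val = x := by
  have := pow_val_natCast hx 1
  rwa [Nat.cast_one, pow_one] at this

theorem mem_zpowers_iff_val (hx : x ^ p = 1) {y : G} :
    y ∈ Subgroup.zpowers x ↔ ∃ a : ZMod p, x ^ a.val = y := by
  rw [← mem_powers_iff_mem_zpowers]
  exact ⟨fun ⟨n, hn⟩ => ⟨n, by rw [pow_val_natCast hx]; exact hn⟩, fun ⟨a, ha⟩ => ⟨_, ha⟩⟩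

omit [Fact p.Prime] [Finite G] in
theorem pow_val_inj (hx : orderOf x = p) [NeZero p] {a b : ZMod p}
    (h : x ^ a.val = x ^ b.val) : a = b := by
  refine ZMod.val_injective p ?_
  exact pow_injOn_Iio_orderOf (by rw [hx]; exact ZMod.val_lt a) (by rw [hx]; exact ZMod.val_lt b) h

theorem pow_val_sub (hx : x ^ p = 1) (a b : ZMod p) :
    x ^ (a - b).val * x ^ b.val = x ^ a.val := by
  rw [← pow_val_add hx, sub_add_cancel]

/-! ## The centralizer -/

theorem vpart_le {V : Subgroup G} (hV : IsVPart p x V) :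
    ∀ v ∈ V, Commute x v := fun v hv =>
  (Subgroup.mem_centralizer_singleton_iff.mp ((hV v).mp hv).1).symm

theorem not_dvd_card_vpart {V : Subgroup G} (hV : IsVPart p x V) : ¬ p ∣ Nat.card V := by
  intro h
  obtain ⟨v, hv⟩ := exists_prime_orderOf_dvd_card' p h
  exact ((hV v).mp v.2).2 (by rw [Subgroup.orderOf_coe, hv])

theorem exists_decomp (hx : orderOf x = p) (h2 : ¬ p ^ 2 ∣ Nat.card G) {V : Subgroup G}
    (hV : IsVPart p x V) {y : G} (hy : y ∈ Subgroup.centralizer ({x} : Set G)) :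
    ∃ (a : ZMod p) (v : V), y = x ^ a.val * v := by
  have hp : p.Prime := Fact.out
  have hxp : x ^ p = 1 := hx ▸ pow_orderOf_eq_one x
  have hcy : Commute x y := (Subgroup.mem_centralizer_singleton_iff.mp hy).symm
  by_cases ho : p ∣ orderOf y
  · obtain ⟨m, hm⟩ := ho
    have hm' : ¬ p ∣ m := fun h => h2 <| by
      rw [sq]
      exact (Nat.mul_dvd_mul_left p h).trans (hm ▸ orderOf_dvd_natCard y)
    have hyp : (y ^ m) ^ p = 1 := by rw [← pow_mul, mul_comm, ← hm, pow_orderOf_eq_one]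
    have hmem : y ^ m ∈ Subgroup.zpowers x := by
      refine Core.prime_subgroup_unique hx h2 (Subgroup.mem_normalizer_iff.mpr fun h => ?_) hyp
      have hc : Commute x (y ^ m) := hcy.pow_right m
      constructor
      · rintro hh
        obtain ⟨k, rfl⟩ := Subgroup.mem_zpowers_iff.mp hh
        rw [(hc.zpow_left k).symm.eq, mul_inv_cancel_right]
        exact hh
      · intro hh
        obtain ⟨k, hk⟩ := Subgroup.mem_zpowers_iff.mp hh
        have : h = x ^ k := by
          rw [show h = (y ^ m)⁻¹ * (y ^ m * h * (y ^ m)⁻¹) * y ^ m by group, ← hk, mul_assoc,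
            (hc.zpow_left k).eq, inv_mul_cancel_left]
        exact this ▸ Subgroup.zpow_mem_zpowers x k
    obtain ⟨j, hj⟩ := (mem_zpowers_iff_val hxp).mp hmem
    have hm0 : (m : ZMod p) ≠ 0 := fun h => hm' ((ZMod.natCast_eq_zero_iff _ _).mp h)
    set a := j * (m : ZMod p)⁻¹ with ha
    refine ⟨a, ⟨(x ^ a.val)⁻¹ * y, (hV _).mpr ⟨?_, fun h => ?_⟩⟩, by simp⟩
    · exact mul_mem (inv_mem (pow_mem (Subgroup.mem_centralizer_singleton_iff.mpr rfl) _)) hy
    · refine hm' (h.trans (orderOf_dvd_of_pow_eq_one ?_))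
      rw [((hcy.pow_left a.val).inv_left).mul_pow, inv_pow, ← hj, ← pow_val_natCast hxp, inv_mul_eq_one,
        ← pow_mul, pow_eq_pow_iff_modEq, hx]
      rw [← ZMod.natCast_eq_natCast_iff]
      simp [ha, hm0]
  · exact ⟨0, ⟨y, (hV y).mpr ⟨hy, ho⟩⟩, by simp⟩

theorem pow_card_vpart (hxp : x ^ p = 1) {V : Subgroup G} (hV : IsVPart p x V) (a : ZMod p)
    {v : G} (hv : v ∈ V) :
    (x ^ a.val * v) ^ Nat.card V = x ^ (a * (Nat.card V : ZMod p)).val := by
  have h1 : v ^ Nat.card V = 1 :=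
    orderOf_dvd_iff_pow_eq_one.mp (Subgroup.orderOf_dvd_natCard V hv)
  rw [((vpart_le hV v hv).pow_left a.val).mul_pow, h1, mul_one, ← pow_mul, ← pow_val_natCast hxp]
  simp

theorem card_vpart_ne_zero {V : Subgroup G} (hV : IsVPart p x V) :
    (Nat.card V : ZMod p) ≠ 0 := fun h0 =>
  not_dvd_card_vpart hV ((ZMod.natCast_eq_zero_iff _ _).mp h0)

theorem decomp_inj (hx : orderOf x = p) {V : Subgroup G} (hV : IsVPart p x V) {a b : ZMod p}
    {v w : V} (h : x ^ a.val * (v : G) = x ^ b.val * w) : a = b ∧ v = w := by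
  have hxp : x ^ p = 1 := hx ▸ pow_orderOf_eq_one x
  have hab : a = b := mul_right_cancel₀ (card_vpart_ne_zero hV)
    (pow_val_inj hx ((pow_card_vpart hxp hV a v.2).symm.trans
      ((congrArg (· ^ Nat.card V) h).trans (pow_card_vpart hxp hV b w.2))))
  subst hab
  exact ⟨rfl, Subtype.ext (mul_left_cancel h)⟩

/-- The `p`-part of a conjugation. -/
theorem conj_fst (hxp : x ^ p = 1) {V : Subgroup G} (hV : IsVPart p x V) {k v v' : G}
    (hv : v ∈ V) (hv' : v' ∈ V) {a b : ZMod p}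
    (h : k * (x ^ a.val * v) * k⁻¹ = x ^ b.val * v') :
    k * x ^ a.val * k⁻¹ = x ^ b.val := by
  have h1 := congrArg (· ^ Nat.card V) h
  simp only [conj_pow] at h1
  rw [pow_card_vpart hxp hV a hv, pow_card_vpart hxp hV b hv'] at h1
  have h2 := congrArg (· ^ ((Nat.card V : ZMod p)⁻¹).val) h1
  simp only [conj_pow, ← pow_val_mul hxp, mul_inv_cancel_right₀ (card_vpart_ne_zero hV)] at h2
  exact h2

theorem card_centralizer (hx : orderOf x = p) (h2 : ¬ p ^ 2 ∣ Nat.card G) {V : Subgroup G}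
    (hV : IsVPart p x V) :
    Nat.card (Subgroup.centralizer ({x} : Set G)) = p * Nat.card V := by
  have e : ZMod p × V ≃ Subgroup.centralizer ({x} : Set G) := Equiv.ofBijective
    (fun av => ⟨x ^ av.1.val * av.2, mul_mem
      (pow_mem (Subgroup.mem_centralizer_singleton_iff.mpr rfl) _) ((hV av.2).mp av.2.2).1⟩) <| by
    refine ⟨fun a b h => ?_, fun y => ?_⟩
    · obtain ⟨h1, h2'⟩ := decomp_inj hx hV (Subtype.ext_iff.mp h)
      exact Prod.ext h1 h2'
    · obtain ⟨a, v, h⟩ := exists_decomp hx h2 hV y.2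
      exact ⟨(a, v), Subtype.ext h.symm⟩
  rw [← Nat.card_congr e, Nat.card_prod, Nat.card_zmod]

/-! ## Fusion inside `⟨x⟩` -/

omit [Finite G] in
theorem isConj_pow {a b : G} (h : IsConj a b) (n : ℕ) : IsConj (a ^ n) (b ^ n) := by
  obtain ⟨c, rfl⟩ := isConj_iff.mp h
  exact isConj_iff.mpr ⟨c, (conj_pow).symm⟩

/-- Exponents of `x` conjugate to `x`. -/
def autE (hx : x ^ p = 1) : Subgroup (ZMod p)ˣ where
  carrier := {u | IsConj x (x ^ (u : ZMod p).val)}
  one_mem' := by
    show IsConj _ _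
    rw [Units.val_one, pow_val_one hx]
  mul_mem' := by
    intro u w hu hw
    show IsConj _ _
    rw [Units.val_mul, pow_val_mul hx]
    have := isConj_pow hu (w : ZMod p).val
    exact IsConj.trans hw this
  inv_mem' := by
    intro u hu
    show IsConj _ _
    have := isConj_pow hu ((u⁻¹ : (ZMod p)ˣ) : ZMod p).val
    rw [← pow_val_mul hx, Units.mul_inv, pow_val_one hx] at this
    exact this.symm

theorem mem_autE (hx : x ^ p = 1) {u : (ZMod p)ˣ} :
    u ∈ autE hx ↔ IsConj x (x ^ (u : ZMod p).val) := Iff.rfl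

theorem isConj_iff_mk (hx : x ^ p = 1) (u w : (ZMod p)ˣ) :
    IsConj (x ^ (u : ZMod p).val) (x ^ (w : ZMod p).val) ↔
      (QuotientGroup.mk u : (ZMod p)ˣ ⧸ autE hx) = QuotientGroup.mk w := by
  rw [QuotientGroup.eq, mem_autE]
  constructor
  · intro h
    have := isConj_pow h ((u⁻¹ : (ZMod p)ˣ) : ZMod p).val
    rwa [← pow_val_mul hx, ← pow_val_mul hx, ← Units.val_mul, ← Units.val_mul, mul_inv_cancel,
      Units.val_one, pow_val_one hx, mul_comm w] at this
  · intro h
    have := isConj_pow h (u : ZMod p).val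
    rwa [← pow_val_mul hx, ← Units.val_mul, mul_right_comm, inv_mul_cancel, one_mul] at this

theorem conj_vpart (hx : orderOf x = p) {V : Subgroup G} (hV : IsVPart p x V) {k : G}
    {a b : (ZMod p)ˣ} (hk : k * x ^ (a : ZMod p).val * k⁻¹ = x ^ (b : ZMod p).val) {v : G}
    (hv : v ∈ V) : k * v * k⁻¹ ∈ V := by
  have hxp : x ^ p = 1 := hx ▸ pow_orderOf_eq_one x
  refine (hV _).mpr ⟨?_, ?_⟩
  · have hc : Commute (x ^ (b : ZMod p).val) (k * v * k⁻¹) := by
      rw [← hk]
      exact (Commute.conj_iff k).mpr ((vpart_le hV v hv).pow_left _)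
    have := hc.pow_left ((b⁻¹ : (ZMod p)ˣ) : ZMod p).val
    rw [← pow_val_mul hxp, Units.mul_inv, pow_val_one hxp] at this
    exact Subgroup.mem_centralizer_singleton_iff.mpr this.symm.eq
  · rw [← MulAut.conj_apply, MulEquiv.orderOf_eq]
    exact ((hV v).mp hv).2

open scoped Classical in
theorem sum_card_conj (hx : orderOf x = p) (h2 : ¬ p ^ 2 ∣ Nat.card G) {V : Subgroup G}
    (hV : IsVPart p x V) [Fintype V] (u w : (ZMod p)ˣ) (v : V) :
    ∑ v' : V, Nat.card {k : G // k * (x ^ (u : ZMod p).val * v) * k⁻¹ =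
        x ^ (w : ZMod p).val * v'} =
      if (QuotientGroup.mk u : (ZMod p)ˣ ⧸ autE (hx ▸ pow_orderOf_eq_one x : x ^ p = 1)) =
        QuotientGroup.mk w then p * Nat.card V else 0 := by
  classical
  have hxp : x ^ p = 1 := hx ▸ pow_orderOf_eq_one x
  have e : {k : G // k * x ^ (u : ZMod p).val * k⁻¹ = x ^ (w : ZMod p).val} ≃
      Σ v' : V, {k : G // k * (x ^ (u : ZMod p).val * v) * k⁻¹ = x ^ (w : ZMod p).val * v'} :=
    { toFun := fun k => ⟨⟨k.1 * v * k.1⁻¹, conj_vpart hx hV k.2 v.2⟩, k.1, by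
        show k.1 * (x ^ (u : ZMod p).val * v) * k.1⁻¹ = x ^ (w : ZMod p).val * (k.1 * v * k.1⁻¹)
        calc _ = (k.1 * x ^ (u : ZMod p).val * k.1⁻¹) * (k.1 * v * k.1⁻¹) := by group
          _ = _ := by rw [k.2]⟩
      invFun := fun s => ⟨s.2.1, conj_fst hxp hV v.2 s.1.2 s.2.2⟩
      left_inv := fun k => rfl
      right_inv := by
        rintro ⟨⟨v', hv'⟩, k, hk⟩
        refine Sigma.subtype_ext (Subtype.ext ?_) rfl
        show k * (v : G) * k⁻¹ = v'
        apply mul_left_cancel (a := x ^ (w : ZMod p).val)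
        calc x ^ (w : ZMod p).val * (k * v * k⁻¹)
            = (k * x ^ (u : ZMod p).val * k⁻¹) * (k * v * k⁻¹) := by
              rw [conj_fst hxp hV v.2 hv' hk]
          _ = k * (x ^ (u : ZMod p).val * v) * k⁻¹ := by group
          _ = x ^ (w : ZMod p).val * v' := hk }
  rw [← Nat.card_sigma, ← Nat.card_congr e, Chars82.Convolution.card_conj_eq]
  rw [if_congr (isConj_iff_mk hxp u w) rfl rfl]
  refine if_congr Iff.rfl ?_ rfl
  rw [← card_centralizer hx h2 hV]
  congr 2
  ext y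
  simp only [Subgroup.mem_centralizer_singleton_iff]
  refine ⟨fun h => ?_, fun h => (Commute.pow_right h _).eq⟩
  have := (Commute.pow_right (h : Commute y (x ^ (u : ZMod p).val))
    ((u⁻¹ : (ZMod p)ˣ) : ZMod p).val)
  rwa [← pow_val_mul hxp, Units.mul_inv, pow_val_one hxp] at this

/-! ## Averages -/

/-- The average of `χ` over `x ^ z V`. -/
noncomputable def aval (x : G) (V : Subgroup G) (χ : G → ℂ) (z : ZMod p) : ℂ :=
  (Nat.card V : ℂ)⁻¹ * ∑ᶠ v : V, χ (x ^ z.val * v)

open scoped Classical in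
/-- Columns and averages. -/
theorem sum_mul_conj_aval [Fintype (Cfsg.IrrCharacter G)] (hx : orderOf x = p)
    (h2 : ¬ p ^ 2 ∣ Nat.card G) {V : Subgroup G}
    (hV : IsVPart p x V) (u w : (ZMod p)ˣ) (v : V) :
    ∑ χ : Cfsg.IrrCharacter G, (χ : G → ℂ) (x ^ (u : ZMod p).val * v) *
        conj (aval x V (χ : G → ℂ) (w : ZMod p)) =
      if (QuotientGroup.mk u : (ZMod p)ˣ ⧸ autE (hx ▸ pow_orderOf_eq_one x : x ^ p = 1)) =
        QuotientGroup.mk w then (p : ℂ) else 0 := by
  have := Fintype.ofFinite V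
  simp only [aval, finsum_eq_sum_of_fintype, map_mul, map_inv₀, map_natCast, map_sum,
    Finset.mul_sum]
  rw [Finset.sum_comm]
  have h : ∀ v' : V, ∑ χ : Cfsg.IrrCharacter G, (χ : G → ℂ) (x ^ (u : ZMod p).val * v) *
      ((Nat.card V : ℂ)⁻¹ * conj ((χ : G → ℂ) (x ^ (w : ZMod p).val * v'))) =
      (Nat.card V : ℂ)⁻¹ * (Nat.card {k : G // k * (x ^ (u : ZMod p).val * v) * k⁻¹ =
        x ^ (w : ZMod p).val * v'} : ℂ) := by
    intro v'
    rw [Chars82.Convolution.card_conj_eq, Nat.cast_ite, Nat.cast_zero,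
      ← Characters.Complete.sum_irr_mul_conj, Finset.mul_sum]
    exact Finset.sum_congr rfl fun χ _ => by ring
  simp only [h]
  rw [← Finset.mul_sum, ← Nat.cast_sum, sum_card_conj hx h2 hV]
  split_ifs
  · have : (Nat.card V : ℂ) ≠ 0 := Nat.cast_ne_zero.mpr Nat.card_pos.ne'
    push_cast
    field_simp
  · simp

theorem sum_regular_mul_conj_aval [Fintype (Cfsg.IrrCharacter G)] (hx : orderOf x = p)
    {V : Subgroup G} (hV : IsVPart p x V) (w : (ZMod p)ˣ) {g : G} (hg : ¬ p ∣ orderOf g) :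
    ∑ χ : Cfsg.IrrCharacter G, (χ : G → ℂ) g * conj (aval x V (χ : G → ℂ) (w : ZMod p)) = 0 := by
  classical
  have hxp : x ^ p = 1 := hx ▸ pow_orderOf_eq_one x
  have := Fintype.ofFinite V
  simp only [aval, finsum_eq_sum_of_fintype, map_mul, map_inv₀, map_natCast, map_sum,
    Finset.mul_sum]
  rw [Finset.sum_comm]
  refine Finset.sum_eq_zero fun v' _ => ?_
  have hne : ¬ IsConj g (x ^ (w : ZMod p).val * v') := by
    intro h
    obtain ⟨c, hc⟩ := isConj_iff.mp h
    have hord : orderOf g = orderOf (x ^ (w : ZMod p).val * v') := by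
      rw [← hc, ← MulAut.conj_apply, MulEquiv.orderOf_eq]
    have hv' : ¬ p ∣ orderOf (v' : G) := ((hV _).mp v'.2).2
    have hxw : orderOf (x ^ (w : ZMod p).val) = p :=
      orderOf_eq_prime (by rw [← pow_mul, mul_comm, pow_mul, hxp, one_pow]) fun h1 => w.ne_zero
        (pow_val_inj hx (h1.trans (by simp)))
    apply hg
    rw [hord, ((vpart_le hV v' v'.2).pow_left _).orderOf_mul_eq_mul_orderOf_of_coprime
      (by rw [hxw]; exact (Fact.out : p.Prime).coprime_iff_not_dvd.mpr hv'), hxw]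
    exact dvd_mul_right p _
  calc ∑ χ : Cfsg.IrrCharacter G, (χ : G → ℂ) g *
      ((Nat.card V : ℂ)⁻¹ * conj ((χ : G → ℂ) (x ^ (w : ZMod p).val * v')))
      = (Nat.card V : ℂ)⁻¹ * ∑ χ : Cfsg.IrrCharacter G, (χ : G → ℂ) g *
          conj ((χ : G → ℂ) (x ^ (w : ZMod p).val * v')) := by
        rw [Finset.mul_sum]; exact Finset.sum_congr rfl fun χ _ => by ring
    _ = 0 := by rw [Characters.Complete.sum_irr_mul_conj, if_neg hne, mul_zero]

omit [Finite G] in
theorem sum_chr_mul_chr (a b : ZMod p) :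
    ∑ l : ZMod p, chr p (l * a) * chr p (-(l * b)) = if a = b then (p : ℂ) else 0 := by
  rw [if_congr sub_eq_zero.symm rfl rfl, ← sum_chr (a - b)]
  exact Finset.sum_congr rfl fun l _ => by rw [← chr_add]; ring_nf

/-- The averages are nonnegative combinations of the characters of `⟨x⟩`. -/
theorem exists_mult (hx : x ^ p = 1) {V : Subgroup G} (hV : ∀ v ∈ V, Commute x v) {χ : G → ℂ}
    (hχ : Cfsg.IsCharacter G χ) :
    ∃ c : ZMod p → ℕ, ∀ z : ZMod p, aval x V χ z = ∑ l, (c l : ℂ) * chr p (l * z) := by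
  classical
  obtain ⟨d, ρ, rfl⟩ := hχ
  have := Fintype.ofFinite V
  let B : Module.End ℂ (Fin d → ℂ) := (Nat.card V : ℂ)⁻¹ • ∑ v : V, ρ v
  let A : ZMod p → Module.End ℂ (Fin d → ℂ) := fun l =>
    (p : ℂ)⁻¹ • ∑ z : ZMod p, chr p (-(l * z)) • ρ (x ^ z.val)
  have hB : B * B = B := by
    have h : ∀ v : V, ρ v * ∑ w : V, ρ w = ∑ w : V, ρ w := by
      intro v
      rw [Finset.mul_sum]
      exact Fintype.sum_equiv (Equiv.mulLeft v) _ _ fun w => by
        rw [← map_mul]; rfl
    simp only [B, smul_mul_smul_comm, Finset.sum_mul, h, Finset.sum_const, Finset.card_univ,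
      ← Nat.card_eq_fintype_card, ← Nat.cast_smul_eq_nsmul ℂ, smul_smul]
    congr 1
    have : (Nat.card V : ℂ) ≠ 0 := Nat.cast_ne_zero.mpr Nat.card_pos.ne'
    field_simp
  have hA : ∀ l, A l * A l = A l := by
    intro l
    have h : ∀ a : ZMod p, (chr p (-(l * a)) • ρ (x ^ a.val)) *
        ∑ z : ZMod p, chr p (-(l * z)) • ρ (x ^ z.val) =
        ∑ z : ZMod p, chr p (-(l * z)) • ρ (x ^ z.val) := by
      intro a
      rw [Finset.mul_sum]
      refine Fintype.sum_equiv (Equiv.addLeft a) _ _ fun z => ?_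
      rw [smul_mul_smul_comm, ← map_mul, ← pow_val_add hx, ← chr_add]
      simp only [Equiv.coe_addLeft]
      ring_nf
    simp only [A, smul_mul_smul_comm, Finset.sum_mul, h, Finset.sum_const, Finset.card_univ,
      ZMod.card, ← Nat.cast_smul_eq_nsmul ℂ, smul_smul]
    congr 1
    have : (p : ℂ) ≠ 0 := Nat.cast_ne_zero.mpr (Fact.out : p.Prime).ne_zero
    field_simp
  have hAB : ∀ l, Commute (A l) B := by
    intro l
    refine (Commute.smul_right (Commute.sum_right _ _ _ fun v _ => ?_) _).smul_left _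
    refine Commute.sum_left _ _ _ fun z _ => Commute.smul_left ?_ _
    exact ((hV v v.2).pow_left z.val).map ρ
  have hnat : ∀ l, ∃ c : ℕ, LinearMap.trace ℂ _ (A l * B) = c := by
    intro l
    refine ⟨_, (LinearMap.IsIdempotentElem.isProj_range _ ?_).trace⟩
    show (A l * B) * (A l * B) = A l * B
    rw [(hAB l).symm.mul_mul_mul_comm, hA, hB]
  choose c hc using hnat
  refine ⟨c, fun z => ?_⟩
  have hsum : ∑ l, chr p (l * z) • A l = ρ (x ^ z.val) := by
    simp only [A, Finset.smul_sum, smul_smul]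
    rw [Finset.sum_comm, Finset.sum_eq_single z]
    · rw [← Finset.sum_smul]
      have : ∑ l : ZMod p, chr p (l * z) * ((p : ℂ)⁻¹ * chr p (-(l * z))) = 1 := by
        calc _ = (p : ℂ)⁻¹ * ∑ l : ZMod p, chr p (l * z) * chr p (-(l * z)) := by
              rw [Finset.mul_sum]; exact Finset.sum_congr rfl fun l _ => by ring
          _ = 1 := by
              rw [sum_chr_mul_chr, if_pos rfl, inv_mul_cancel₀]
              exact Nat.cast_ne_zero.mpr (Fact.out : p.Prime).ne_zero
      rw [this, one_smul]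
    · intro w _ hw
      rw [← Finset.sum_smul]
      have : ∑ l : ZMod p, chr p (l * z) * ((p : ℂ)⁻¹ * chr p (-(l * w))) = 0 := by
        calc _ = (p : ℂ)⁻¹ * ∑ l : ZMod p, chr p (l * z) * chr p (-(l * w)) := by
              rw [Finset.mul_sum]; exact Finset.sum_congr rfl fun l _ => by ring
          _ = 0 := by rw [sum_chr_mul_chr, if_neg (Ne.symm hw), mul_zero]
      rw [this, zero_smul]
    · simp
  calc aval x V ρ.character z = LinearMap.trace ℂ _ (ρ (x ^ z.val) * B) := by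
        simp [aval, B, finsum_eq_sum_of_fintype, Representation.character,
          Finset.mul_sum]
    _ = _ := by
        rw [← hsum, Finset.sum_mul, map_sum]
        exact Finset.sum_congr rfl fun l _ => by
          rw [smul_mul_assoc, map_smul, smul_eq_mul, hc, mul_comm]

theorem sum_apply_pow (hx : x ^ p = 1) {χ : G → ℂ} (hχ : Cfsg.IsCharacter G χ) :
    ∃ c : ℕ, ∑ z : ZMod p, χ (x ^ z.val) = (p : ℂ) * c := by
  obtain ⟨c, hc⟩ := exists_mult hx (V := ⊥)
    (fun v hv => by rw [Subgroup.mem_bot.mp hv]; exact Commute.one_right x) hχ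
  refine ⟨c 0, ?_⟩
  have h : ∀ z : ZMod p, χ (x ^ z.val) = ∑ l, (c l : ℂ) * chr p (l * z) := by
    intro z
    rw [← hc z, aval, finsum_eq_single _ (1 : (⊥ : Subgroup G))]
    · simp
    · intro v hv
      exact absurd (Subtype.ext (Subgroup.mem_bot.mp v.2)) hv
  simp only [h]
  rw [Finset.sum_comm]
  simp only [← Finset.mul_sum, sum_chr, mul_ite, mul_zero, Finset.sum_ite_eq', Finset.mem_univ,
    if_true]
  ring

open scoped Classical in
/-- The integral coefficients of the averages in the periods. -/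
theorem exists_b (hx : orderOf x = p) {V : Subgroup G}
    (hV : IsVPart p x V) {χ : G → ℂ} (hχ : Cfsg.IsCharacter G χ)
    [Fintype ((ZMod p)ˣ ⧸ autE (hx ▸ pow_orderOf_eq_one x : x ^ p = 1))] :
    ∃ b : (ZMod p)ˣ ⧸ autE (hx ▸ pow_orderOf_eq_one x : x ^ p = 1) → ℤ, ∀ u : (ZMod p)ˣ,
      aval x V χ (u : ZMod p) = ∑ q, (b q : ℂ) * eta _ (q * QuotientGroup.mk u) := by
  have hxp : x ^ p = 1 := hx ▸ pow_orderOf_eq_one x
  obtain ⟨c, hc⟩ := exists_mult hxp (vpart_le hV) hχ
  set E := autE hxp with hE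
  have hinvar : ∀ u ∈ E, ∀ z : ZMod p, aval x V χ (z * (u : ZMod p)) = aval x V χ z := by
    intro u hu z
    obtain ⟨k, hk⟩ := isConj_iff.mp ((mem_autE hxp).mp hu)
    simp only [aval]
    congr 1
    have hk' : k * x ^ ((1 : (ZMod p)ˣ) : ZMod p).val * k⁻¹ = x ^ (u : ZMod p).val := by
      rw [Units.val_one, pow_val_one hxp]; exact hk
    let f : V → V := fun v => ⟨k * v * k⁻¹, conj_vpart hx hV hk' v.2⟩
    have hf : Function.Bijective f := Finite.injective_iff_bijective.mp fun v w h =>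
      Subtype.ext (mul_left_cancel (mul_right_cancel (congrArg Subtype.val h)))
    symm
    refine finsum_eq_of_bijective f hf fun v => ?_
    show χ (x ^ z.val * v) = χ (x ^ (z * (u : ZMod p)).val * (k * v * k⁻¹))
    rw [← isClassFunction_of_isCharacter hχ (x ^ z.val * v) k]
    congr 1
    rw [mul_comm z, pow_val_mul hxp, ← hk, conj_pow]
    group
  have hcinv : ∀ u ∈ E, ∀ l : ZMod p, c (l * (u : ZMod p)) = c l := by
    intro u hu l
    have hext : ∀ l, ∑ z : ZMod p, aval x V χ z * chr p (-(l * z)) = (p : ℂ) * c l := by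
      intro l
      simp only [hc, Finset.sum_mul, mul_assoc]
      rw [Finset.sum_comm]
      simp only [← Finset.mul_sum]
      have : ∀ m : ZMod p, ∑ z : ZMod p, chr p (m * z) * chr p (-(l * z)) =
          if m = l then (p : ℂ) else 0 := by
        intro m
        rw [← sum_chr_mul_chr m l]
        exact Finset.sum_congr rfl fun z _ => by rw [mul_comm m, mul_comm l]
      simp only [this, mul_ite, mul_zero, Finset.sum_ite_eq', Finset.mem_univ, if_true]
      ring
    have h : (p : ℂ) * c (l * (u : ZMod p)) = (p : ℂ) * c l := by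
      rw [← hext, ← hext]
      refine Fintype.sum_equiv (Units.mulRight u) _ _ fun z => ?_
      rw [Units.mulRight_apply, hinvar u hu]
      ring_nf
    exact_mod_cast mul_left_cancel₀ (Nat.cast_ne_zero.mpr (Fact.out : p.Prime).ne_zero) h
  refine ⟨fun q => (c ((Quotient.out q : (ZMod p)ˣ) : ZMod p) : ℤ) - c 0, fun u => ?_⟩
  have hfib : ∀ l : (ZMod p)ˣ,
      c ((Quotient.out (QuotientGroup.mk l : (ZMod p)ˣ ⧸ E) : (ZMod p)ˣ) : ZMod p) = c l := by
    intro l
    obtain ⟨⟨k, hk⟩, h⟩ := QuotientGroup.mk_out_eq_mul E l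
    rw [h, Units.val_mul, hcinv k hk]
  have h1 : aval x V χ (u : ZMod p) =
      ∑ l : (ZMod p)ˣ, ((c l : ℂ) - c 0) * chr p (l * (u : ZMod p)) := by
    have hz := sum_chr_units (p := p) (u : ZMod p)
    rw [if_neg u.ne_zero] at hz
    rw [hc, ← Finset.add_sum_erase _ _ (Finset.mem_univ (0 : ZMod p)), zero_mul, chr_zero,
      mul_one]
    simp only [sub_mul, Finset.sum_sub_distrib, ← Finset.mul_sum, mul_comm _ (u : ZMod p), hz]
    rw [mul_neg_one, sub_neg_eq_add, add_comm]
    congr 1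
    exact Finset.sum_bij' (fun z hz => Units.mk0 z (Finset.mem_erase.mp hz).1)
      (fun l _ => (l : ZMod p)) (fun _ _ => Finset.mem_univ _)
      (fun l _ => Finset.mem_erase.mpr ⟨l.ne_zero, Finset.mem_univ _⟩) (fun _ _ => rfl)
      (fun l _ => Units.ext rfl) (fun z _ => rfl)
  rw [h1, ← Finset.sum_fiberwise Finset.univ
    (fun l : (ZMod p)ˣ => (QuotientGroup.mk l : (ZMod p)ˣ ⧸ E))]
  refine Finset.sum_congr (Finset.ext fun _ => by simp) fun q _ => ?_
  rw [eta, Finset.mul_sum]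
  refine Finset.sum_bij (fun l _ => l * u) ?_ ?_ ?_ ?_
  · intro l hl
    rw [Finset.mem_filter] at hl ⊢
    exact ⟨Finset.mem_univ _, by rw [QuotientGroup.mk_mul, hl.2]⟩
  · exact fun _ _ _ _ h => mul_right_cancel h
  · intro l hl
    rw [Finset.mem_filter] at hl
    refine ⟨l * u⁻¹, Finset.mem_filter.mpr ⟨Finset.mem_univ _, ?_⟩, inv_mul_cancel_right l u⟩
    rw [QuotientGroup.mk_mul, hl.2, QuotientGroup.mk_inv, mul_inv_cancel_right]
  · intro l hl
    rw [Finset.mem_filter] at hl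
    simp only [← hl.2, hfib, Units.val_mul]
    push_cast
    rfl

end Cfsg.Agent.Lib.FirstPower.Average
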