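import Mathlib.NumberTheory.Padics.PadicIntegers
import Mathlib.NumberTheory.Padics.RingHoms
import Mathlib.NumberTheory.Cyclotomic.Basic
import Mathlib.RingTheory.Polynomial.Eisenstein.IsIntegral
import Mathlib.RingTheory.Polynomial.GaussLemma
import Mathlib.RingTheory.Algebraic.Cardinality
import Mathlib.FieldTheory.IsAlgClosed.Classification
import Mathlib.FieldTheory.Galois.Basic
import Mathlib.Topology.Algebra.Module.Cardinality
import Mathlib.Analysis.Complex.Polynomial.Basic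
import Mathlib.RingTheory.RootsOfUnity.Complex
import Mathlib.Analysis.Real.Cardinality
import Mathlib.Analysis.Complex.Cardinality

/-!
# An embedding of the `p`-adic numbers in `ℂ`, and the exponents of its Galois group on roots of unity
-/

namespace Cfsg.Agent.Lib.FirstPower.Embed

open Cardinal

variable (p : ℕ) [hp : Fact p.Prime]

theorem mk_padic : #ℚ_[p] = 𝔠 := by
  refine le_antisymm ?_ (continuum_le_cardinal_of_nontriviallyNormedField ℚ_[p])
  calc #ℚ_[p] ≤ #(CauSeq ℚ (padicNorm p)) :=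
        mk_le_of_surjective (f := (CauSeq.Completion.mk : CauSeq ℚ (padicNorm p) → _))
          (fun q => Quotient.exists_rep q)
    _ ≤ #(ℕ → ℚ) := mk_subtype_le _
    _ = ℵ₀ ^ ℵ₀ := by simp
    _ = 𝔠 := aleph0_power_aleph0

theorem exists_embedding : Nonempty (ℚ_[p] →+* ℂ) := by
  have hA : #(AlgebraicClosure ℚ_[p]) = 𝔠 := by
    refine le_antisymm ?_ ?_
    · refine (Algebra.IsAlgebraic.cardinalMk_le_max ℚ_[p] _).trans ?_
      rw [mk_padic]
      exact max_le le_rfl aleph0_le_continuum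
    · rw [← mk_padic p]
      exact mk_le_of_injective (algebraMap ℚ_[p] (AlgebraicClosure ℚ_[p])).injective
  have hC : #ℂ = 𝔠 := Cardinal.mk_complex
  have : CharZero (AlgebraicClosure ℚ_[p]) :=
    charZero_of_injective_algebraMap (algebraMap ℚ_[p] _).injective
  obtain ⟨e⟩ := IsAlgClosed.ringEquiv_of_equiv_of_char_eq (K := AlgebraicClosure ℚ_[p]) (L := ℂ) 0
    (by rw [hA]; exact aleph0_lt_continuum) (Cardinal.eq.mp (hA.trans hC.symm))
  exact ⟨e.toRingHom.comp (algebraMap ℚ_[p] _)⟩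

/-- A fixed embedding of the `p`-adic numbers in `ℂ`. -/
noncomputable def ι : ℚ_[p] →+* ℂ := Classical.choice (exists_embedding p)

/-- Its restriction to the `p`-adic integers. -/
noncomputable def ι₀ : ℤ_[p] →+* ℂ := (ι p).comp (algebraMap ℤ_[p] ℚ_[p])

theorem ι₀_injective : Function.Injective (ι₀ p) :=
  (ι p).injective.comp (IsFractionRing.injective ℤ_[p] ℚ_[p])

/-- Algebraic integers in the image of `ℚ_[p]` come from `ℤ_[p]`. -/
theorem exists_ι₀ {z : ℂ} (hz : IsIntegral ℤ z) (hmem : z ∈ (ι p).fieldRange) :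
    ∃ c : ℤ_[p], ι₀ p c = z := by
  obtain ⟨q, rfl⟩ := hmem
  obtain ⟨P, hP, hPq⟩ := hz
  have hq : IsIntegral ℤ q := by
    refine ⟨P, hP, (ι p).injective ?_⟩
    rw [map_zero, Polynomial.hom_eval₂, RingHom.ext_int ((ι p).comp (algebraMap ℤ ℚ_[p]))
      (algebraMap ℤ ℂ)]
    exact hPq
  obtain ⟨c, hc⟩ := (IsIntegrallyClosed.isIntegral_iff (R := ℤ_[p]) (K := ℚ_[p])).mp hq.tower_top
  exact ⟨c, by rw [← hc]; rfl⟩

theorem irreducible_cyclotomic : Irreducible (Polynomial.cyclotomic p ℚ_[p]) := by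
  have hE := cyclotomic_comp_X_add_one_isEisensteinAt (p := p)
  set f : Polynomial ℤ := (Polynomial.cyclotomic p ℤ).comp (Polynomial.X + 1) with hf
  have hfm : f.Monic := by
    rw [hf, show (Polynomial.X + 1 : Polynomial ℤ) = Polynomial.X + Polynomial.C 1 by simp]
    exact (Polynomial.cyclotomic.monic p ℤ).comp (Polynomial.monic_X_add_C 1)
      (by rw [Polynomial.natDegree_X_add_C]; exact one_ne_zero)
  let φ : ℤ →+* ℤ_[p] := Int.castRingHom _
  have hmap : f.map φ = (Polynomial.cyclotomic p ℤ_[p]).comp (Polynomial.X + 1) := by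
    rw [hf, Polynomial.map_comp, Polynomial.map_cyclotomic, Polynomial.map_add, Polynomial.map_X,
      Polynomial.map_one]
  have hmax : IsLocalRing.maximalIdeal ℤ_[p] = Ideal.span {(p : ℤ_[p])} :=
    PadicInt.maximalIdeal_eq_span_p
  have hmemiff : ∀ (a : ℤ) (k : ℕ), φ a ∈ IsLocalRing.maximalIdeal ℤ_[p] ^ k ↔ (p : ℤ) ^ k ∣ a := by
    intro a k
    rw [hmax, Ideal.span_singleton_pow, ← PadicInt.norm_le_pow_iff_mem_span_pow]
    show ‖((a : ℤ) : ℤ_[p])‖ ≤ _ ↔ _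
    exact PadicInt.norm_int_le_pow_iff_dvd
  have hE' : (f.map φ).IsEisensteinAt (IsLocalRing.maximalIdeal ℤ_[p]) := by
    refine (hfm.map φ).isEisensteinAt_of_mem_of_notMem Ideal.IsPrime.ne_top' ?_ ?_
    · intro n hn
      rw [hfm.natDegree_map] at hn
      rw [Polynomial.coeff_map, ← pow_one (IsLocalRing.maximalIdeal ℤ_[p]), hmemiff, pow_one,
        ← Ideal.mem_span_singleton]
      exact hE.mem hn
    · rw [Polynomial.coeff_map, hmemiff, ← Ideal.mem_span_singleton, ← Ideal.span_singleton_pow]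
      exact hE.notMem
  have hirr : Irreducible (f.map φ) := by
    refine hE'.irreducible inferInstance (hfm.map φ).isPrimitive ?_
    rw [hfm.natDegree_map, hf, Polynomial.natDegree_comp, Polynomial.natDegree_cyclotomic,
      Nat.totient_prime hp.out,
      show (Polynomial.X + 1 : Polynomial ℤ) = Polynomial.X + Polynomial.C 1 by simp,
      Polynomial.natDegree_X_add_C, mul_one]
    exact Nat.sub_pos_of_lt hp.out.one_lt
  rw [hmap] at hirr
  have h1 : Irreducible (Polynomial.cyclotomic p ℤ_[p]) := by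
    have h := (MulEquiv.irreducible_iff (Polynomial.algEquivAevalXAddC (1 : ℤ_[p])).toMulEquiv
      (x := Polynomial.cyclotomic p ℤ_[p]))
    rw [show (Polynomial.algEquivAevalXAddC (1 : ℤ_[p])).toMulEquiv (Polynomial.cyclotomic p ℤ_[p])
      = (Polynomial.cyclotomic p ℤ_[p]).comp (Polynomial.X + 1) by
        simp [Polynomial.comp, Polynomial.aeval_def]] at h
    exact h.mp hirr
  rw [← Polynomial.map_cyclotomic p (algebraMap ℤ_[p] ℚ_[p])]
  exact (Polynomial.Monic.irreducible_iff_irreducible_map_fraction_map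
    (Polynomial.cyclotomic.monic p ℤ_[p])).mp h1

/-- Exponents of the Galois group of `ℚ_[p](ζₙ)` over `ℚ_[p]`, inside `ℂ`. -/
theorem exists_exponents {n : ℕ} [NeZero n] {ζ : ℂ} (hζ : IsPrimitiveRoot ζ n) :
    ∃ Γ : Set ℕ, 1 ∈ Γ ∧ (∀ k ∈ Γ, k.Coprime n) ∧
      (∀ k ∈ Γ, ∀ l ∈ Γ, ∃ r ∈ Γ, ζ ^ (k * l) = ζ ^ r) ∧
      (∀ (c : Fin n → ℤ),
        (∀ k ∈ Γ, ∑ i : Fin n, (c i : ℂ) * ζ ^ ((i : ℕ) * k) =
          ∑ i : Fin n, (c i : ℂ) * ζ ^ (i : ℕ)) →
        ∑ i : Fin n, (c i : ℂ) * ζ ^ (i : ℕ) ∈ (ι p).fieldRange) ∧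
      (∀ (c : Fin n → ℤ), ∑ i : Fin n, (c i : ℂ) * ζ ^ (i : ℕ) ∈ (ι p).fieldRange → ∀ k ∈ Γ,
        ∑ i : Fin n, (c i : ℂ) * ζ ^ ((i : ℕ) * k) = ∑ i : Fin n, (c i : ℂ) * ζ ^ (i : ℕ)) ∧
      (∀ a : ℕ, p ∣ n → ¬ p ∣ a → ∃ k ∈ Γ, k ≡ a [MOD p]) := by
  classical
  let K := (ι p).fieldRange
  let F : IntermediateField K ℂ := IntermediateField.adjoin K {ζ}
  have hcyc : IsCyclotomicExtension {n} K F := by
    have hint : IsIntegral K ζ := (hζ.isIntegral (Nat.pos_of_ne_zero (NeZero.ne n))).tower_top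
    have heq : F.toSubalgebra = Algebra.adjoin K {ζ} :=
      IntermediateField.adjoin_simple_toSubalgebra_of_isAlgebraic hint.isAlgebraic
    have := hζ.adjoin_isCyclotomicExtension K
    exact IsCyclotomicExtension.equiv {n} K (Algebra.adjoin K ({ζ} : Set ℂ))
      (Subalgebra.equivOfEq _ _ heq.symm)
  have hgal : IsGalois K F := IsCyclotomicExtension.isGalois (S := {n}) K F
  have hfin : FiniteDimensional K F := IsCyclotomicExtension.finiteDimensional {n} K F
  have hζF : ζ ∈ F := IntermediateField.mem_adjoin_simple_self K ζ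
  let z : F := ⟨ζ, hζF⟩
  have hz : IsPrimitiveRoot z n :=
    IsPrimitiveRoot.of_map_of_injective (f := F.val) hζ Subtype.val_injective
  let Γ : Set ℕ := {k | ∃ σ : F ≃ₐ[K] F, σ z = z ^ k}
  have hexp : ∀ σ : F ≃ₐ[K] F, ∃ k < n, σ z = z ^ k := by
    intro σ
    obtain ⟨k, hk, hk'⟩ := hz.eq_pow_of_pow_eq_one
      (show (σ z) ^ n = 1 by rw [← map_pow, hz.pow_eq_one, map_one])
    exact ⟨k, hk, hk'.symm⟩
  have hval : ∀ (σ : F ≃ₐ[K] F) (k : ℕ), σ z = z ^ k → ∀ c : Fin n → ℤ,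
      ((σ (∑ i : Fin n, (c i : F) * z ^ (i : ℕ)) : F) : ℂ) =
        ∑ i : Fin n, (c i : ℂ) * ζ ^ ((i : ℕ) * k) := by
    intro σ k hk c
    simp only [map_sum, map_mul, map_intCast, map_pow, hk, ← pow_mul]
    push_cast
    exact Finset.sum_congr rfl fun i _ => by rw [mul_comm k]
  have hsum : ∀ c : Fin n → ℤ, ((∑ i : Fin n, (c i : F) * z ^ (i : ℕ) : F) : ℂ) =
      ∑ i : Fin n, (c i : ℂ) * ζ ^ (i : ℕ) := fun c => by push_cast; rfl
  refine ⟨Γ, ⟨AlgEquiv.refl, (pow_one z).symm⟩, ?_, ?_, ?_, ?_, ?_⟩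
  · rintro k ⟨σ, hσ⟩
    exact (hz.pow_iff_coprime (Nat.pos_of_ne_zero (NeZero.ne n)) k).mp
      (hσ ▸ hz.map_of_injective σ.injective)
  · rintro k ⟨σ, hσ⟩ l ⟨τ, hτ⟩
    refine ⟨k * l, ⟨σ.trans τ, ?_⟩, rfl⟩
    rw [AlgEquiv.trans_apply, hσ, map_pow, hτ, ← pow_mul, mul_comm]
  · intro c hc
    have hfix : ∀ σ : F ≃ₐ[K] F, σ (∑ i : Fin n, (c i : F) * z ^ (i : ℕ)) =
        ∑ i : Fin n, (c i : F) * z ^ (i : ℕ) := by
      intro σ
      obtain ⟨k, -, hk⟩ := hexp σ
      refine Subtype.ext ?_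
      rw [hval σ k hk, hsum]
      exact hc k ⟨σ, hk⟩
    obtain ⟨a, ha⟩ := IntermediateField.mem_bot.mp ((IsGalois.mem_bot_iff_fixed _).mpr hfix)
    rw [← hsum, ← ha]
    exact a.2
  · rintro c hc k ⟨σ, hσ⟩
    rw [← hval σ k hσ, ← hsum]
    have : (∑ i : Fin n, (c i : F) * z ^ (i : ℕ)) =
        algebraMap K F ⟨∑ i : Fin n, (c i : ℂ) * ζ ^ (i : ℕ), hc⟩ := Subtype.ext (hsum c)
    rw [this, AlgEquiv.commutes]
  · intro a hpn ha
    obtain ⟨d, hd⟩ := hpn
    have hzp : IsPrimitiveRoot (z ^ d) p :=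
      hz.pow (Nat.pos_of_ne_zero (NeZero.ne n)) (by rw [hd, mul_comm])
    have hza : IsPrimitiveRoot ((z ^ d) ^ a) p :=
      hzp.pow_of_coprime a ((hp.out.coprime_iff_not_dvd.mpr ha).symm)
    have hirr : Irreducible (Polynomial.cyclotomic p K) := by
      rw [← Polynomial.map_cyclotomic p ((ι p).rangeRestrictFieldEquiv.toRingHom)]
      exact (MulEquiv.irreducible_iff (Polynomial.mapEquiv (ι p).rangeRestrictFieldEquiv).toMulEquiv).mpr
        (irreducible_cyclotomic p)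
    have hroot : ∀ w : F, IsPrimitiveRoot w p → Polynomial.aeval w (Polynomial.cyclotomic p K) = 0 :=
      fun w hw => by
        have := hw.isRoot_cyclotomic hp.out.pos
        rwa [Polynomial.IsRoot.def, ← Polynomial.map_cyclotomic p (algebraMap K F),
          Polynomial.eval_map_algebraMap] at this
    have hmin : Polynomial.cyclotomic p K = minpoly K (z ^ d) :=
      minpoly.eq_of_irreducible_of_monic hirr (hroot _ hzp) (Polynomial.cyclotomic.monic p K)
    obtain ⟨σ, hσ⟩ := minpoly.exists_algEquiv_of_root' (K := K) (L := F) (x := (z ^ d) ^ a)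
      (y := z ^ d) (Algebra.IsAlgebraic.isAlgebraic _) (by rw [← hmin]; exact hroot _ hza)
    obtain ⟨k, -, hk⟩ := hexp σ
    refine ⟨k, ⟨σ, hk⟩, ?_⟩
    have h1 : (z ^ d) ^ k = (z ^ d) ^ a := by
      rw [← hσ, map_pow σ z, hk, ← pow_mul, ← pow_mul, mul_comm]
    rw [(isOfFinOrder_iff_pow_eq_one.mpr ⟨p, hp.out.pos, hzp.pow_eq_one⟩).pow_eq_pow_iff_modEq,
      ← hzp.eq_orderOf] at h1
    exact h1

end Cfsg.Agent.Lib.FirstPower.Embed
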