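import Cfsg.Agent.Lib.FirstPower.Core
import Cfsg.Agent.Lib.FirstPower.Embed
import Cfsg.Agent.Lib.Characters.Complete
import Cfsg.Agent.Lib.Chars82.Convolution
import Cfsg.Agent.Lib.BC78.PowChar
import Cfsg.Agent.Lib.H80.ClassMult

/-!
# The trace theorem for irreducible characters

`p` divides `|G|` exactly once and `x` has order `p`.  An irreducible character has a `p`-adic
Galois orbit whose sum, times a multiplicity, takes the averages `0, 1, -1` on `x V`.
-/

namespace Cfsg.Agent.Lib.FirstPower.CharOrbit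

open Module
open scoped ComplexConjugate
open Cfsg.Agent.Lib.Induced.Basic Cfsg.Agent.Lib.Characters.Basic
open Cfsg.Agent.Lib.Characters.Complete

universe u

variable {p : ℕ} [Fact p.Prime] {G : Type u} [Group G]

/-- The complex character of a lattice. -/
noncomputable def charOf {n : ℕ} (ρ : Representation ℤ_[p] G (Fin n → ℤ_[p])) : G → ℂ :=
  fun g => Embed.ι₀ p (LinearMap.trace ℤ_[p] _ (ρ g))

theorem isCharacter_charOf {n : ℕ} (ρ : Representation ℤ_[p] G (Fin n → ℤ_[p])) :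
    Cfsg.IsCharacter G (charOf ρ) := by
  classical
  let L : Module.End ℤ_[p] (Fin n → ℤ_[p]) →* Matrix (Fin n) (Fin n) ℂ :=
    (Embed.ι₀ p).mapMatrix.toMonoidHom.comp LinearMap.toMatrixAlgEquiv'.toMulEquiv.toMonoidHom
  let τ : Representation ℂ G (Fin n → ℂ) :=
    Matrix.toLinAlgEquiv'.toMulEquiv.toMonoidHom.comp (L.comp ρ)
  refine ⟨n, τ, funext fun g => ?_⟩
  show LinearMap.trace ℂ _ (Matrix.toLin' ((LinearMap.toMatrix' (ρ g)).map (Embed.ι₀ p))) =
    Embed.ι₀ p (LinearMap.trace ℤ_[p] _ (ρ g))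
  rw [Matrix.trace_toLin'_eq, LinearMap.trace_eq_matrix_trace ℤ_[p] (Pi.basisFun ℤ_[p] (Fin n)),
    LinearMap.toMatrix_eq_toMatrix']
  simp [Matrix.trace, map_sum]

/-- Evaluation of a character in powers of a root of unity, compatibly with powers of the group
element. -/
theorem exists_coeffs [Finite G] {ζ : ℂ} (hζ : IsPrimitiveRoot ζ (Nat.card G)) {χ : G → ℂ}
    (hχ : Cfsg.IsCharacter G χ) (g : G) :
    ∃ c : Fin (Nat.card G) → ℤ, ∀ k : ℕ,
      χ (g ^ k) = ∑ i, (c i : ℂ) * ζ ^ ((i : ℕ) * k) := by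
  classical
  obtain ⟨d, ρ, rfl⟩ := hχ
  obtain ⟨J, hJ, b, z, hb, -, -⟩ := Cfsg.Agent.Lib.Characters.Diag.exists_eigenbasis_card ρ g
  have hn : NeZero (Nat.card G) := ⟨Nat.card_pos.ne'⟩
  choose e he he' using fun j => hζ.eq_pow_of_pow_eq_one (hb j).2
  refine ⟨fun i => ((Finset.univ.filter fun j => e j = i.val).card : ℤ), fun k => ?_⟩
  have hk : ∀ j, (ρ (g ^ k)) (b j) = z j ^ k • b j := by
    intro j
    rw [map_pow]
    induction k with
    | zero => simp
    | succ k ih => rw [pow_succ, Module.End.mul_apply, (hb j).1, map_smul, ih, smul_smul, pow_succ']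
  rw [show ρ.character (g ^ k) = ∑ j, z j ^ k from
    Cfsg.Agent.Lib.Characters.Diag.trace_eq_sum_eigenvalues b _ _ hk]
  have hterm : ∀ j, z j ^ k = ∑ i : Fin (Nat.card G),
      if e j = i.val then ζ ^ ((i : ℕ) * k) else 0 := by
    intro j
    rw [Finset.sum_eq_single (⟨e j, he j⟩ : Fin (Nat.card G))]
    · rw [if_pos rfl, pow_mul, he']
    · intro i _ hi
      rw [if_neg]
      exact fun h => hi (Fin.ext h.symm)
    · simp
  rw [Finset.sum_congr rfl fun j _ => hterm j, Finset.sum_comm]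
  refine Finset.sum_congr rfl fun i _ => ?_
  rw [← Finset.sum_filter, Finset.sum_const, nsmul_eq_mul]
  simp

theorem charOf_mem_range {n : ℕ} (ρ : Representation ℤ_[p] G (Fin n → ℤ_[p])) (g : G) :
    charOf ρ g ∈ (Embed.ι p).fieldRange :=
  ⟨_, rfl⟩

/-! ## Lattices -/

/-- A lattice on the range of a scaled idempotent. -/
theorem exists_range_lattice {n : ℕ} (ρ : Representation ℤ_[p] G (Fin n → ℤ_[p]))
    (E : Module.End ℤ_[p] (Fin n → ℤ_[p])) (N : ℤ_[p]) (hE : E * E = N • E)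
    (hcomm : ∀ g, Commute (ρ g) E) :
    ∃ (τ : Representation ℤ_[p] G (Fin (finrank ℤ_[p] (LinearMap.range E)) → ℤ_[p])),
      ∀ g, N * LinearMap.trace ℤ_[p] _ (τ g) = LinearMap.trace ℤ_[p] _ (ρ g * E) := by
  let K := LinearMap.range E
  have hst : ∀ g, ∀ m ∈ K, ρ g m ∈ K := by
    rintro g m ⟨a, rfl⟩
    exact ⟨ρ g a, by rw [← Module.End.mul_apply, ← (hcomm g).eq, Module.End.mul_apply]⟩
  let σ : Representation ℤ_[p] G K :=
    { toFun := fun g => (ρ g).restrict (hst g)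
      map_one' := LinearMap.ext fun a => Subtype.ext (by simp)
      map_mul' := fun g h => LinearMap.ext fun a => Subtype.ext (by simp) }
  let e : K ≃ₗ[ℤ_[p]] (Fin (finrank ℤ_[p] K) → ℤ_[p]) := (Module.finBasis ℤ_[p] K).equivFun
  let τ : Representation ℤ_[p] G (Fin (finrank ℤ_[p] K) → ℤ_[p]) :=
    { toFun := fun g => e.conj (σ g)
      map_one' := by rw [map_one]; exact LinearEquiv.conj_id e
      map_mul' := fun g h => by rw [map_mul, Module.End.mul_eq_comp, LinearEquiv.conj_comp]; rfl }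
  refine ⟨τ, fun g => ?_⟩
  show N * LinearMap.trace ℤ_[p] _ (e.conj (σ g)) = _
  rw [LinearMap.trace_conj', show ρ g * E = (ρ g ∘ₗ K.subtype) ∘ₗ E.rangeRestrict from rfl,
    LinearMap.trace_comp_comm', ← smul_eq_mul, ← map_smul]
  congr 1
  refine LinearMap.ext fun a => Subtype.ext ?_
  obtain ⟨b, hb⟩ := (hst g a a.2)
  show N • ρ g (a : Fin n → ℤ_[p]) = E (ρ g a)
  rw [← hb, ← Module.End.mul_apply, hE, LinearMap.smul_apply]

theorem exists_lattice [Finite G] (χ : Cfsg.IrrCharacter G) [Fintype G] :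
    ∃ (n : ℕ) (ρ : Representation ℤ_[p] G (Fin n → ℤ_[p])),
      Cfsg.classInner (charOf ρ) χ ≠ 0 := by
  classical
  let e := Fintype.equivFin G
  let ρ : Representation ℤ_[p] G (Fin (Fintype.card G) → ℤ_[p]) :=
    { toFun := fun g => LinearMap.funLeft ℤ_[p] ℤ_[p] fun i => e (g⁻¹ * e.symm i)
      map_one' := by
        refine LinearMap.ext fun f => funext fun i => ?_
        simp [LinearMap.funLeft_apply]
      map_mul' := fun g h => by
        refine LinearMap.ext fun f => funext fun i => ?_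
        simp [LinearMap.funLeft_apply, mul_assoc] }
  refine ⟨_, ρ, ?_⟩
  have htr : ∀ g, charOf ρ g = if g = 1 then (Nat.card G : ℂ) else 0 := by
    intro g
    have : LinearMap.trace ℤ_[p] _ (ρ g) = if g = 1 then (Nat.card G : ℤ_[p]) else 0 := by
      rw [LinearMap.trace_eq_matrix_trace ℤ_[p] (Pi.basisFun ℤ_[p] _), Matrix.trace]
      have hd : ∀ i, (LinearMap.toMatrix (Pi.basisFun ℤ_[p] _) (Pi.basisFun ℤ_[p] _) (ρ g)).diag i =
          if g = 1 then 1 else 0 := by
        intro i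
        rw [Matrix.diag_apply, LinearMap.toMatrix_apply]
        rw [Pi.basisFun_repr, Pi.basisFun_apply]
        show (Pi.single i (1 : ℤ_[p]) : Fin _ → ℤ_[p]) (e (g⁻¹ * e.symm i)) = _
        rw [Pi.single_apply]
        refine if_congr ?_ rfl rfl
        rw [← e.eq_symm_apply, mul_eq_right, inv_eq_one]
      rw [Finset.sum_congr rfl fun i _ => hd i]
      by_cases hg : g = 1 <;> simp [hg, Nat.card_eq_fintype_card]
    rw [charOf, this, apply_ite (Embed.ι₀ p), map_natCast, map_zero]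
  rw [Cfsg.classInner, Finset.sum_eq_single 1 (fun g _ hg => by rw [htr, if_neg hg, zero_mul])
    (by simp), htr, if_pos rfl, conj_apply_one (isCharacter_irr χ), ← mul_assoc,
    inv_mul_cancel₀ natCard_ne_zero, one_mul]
  exact apply_one_ne_zero χ

/-! ## Convolutions -/

theorem sum_conv [Fintype G] (χ ψ : Cfsg.IrrCharacter G) (z : G) :
    ∑ g : G, (χ : G → ℂ) g * (ψ : G → ℂ) (g⁻¹ * z) =
      if χ = ψ then (Nat.card G : ℂ) * (χ : G → ℂ) z / (χ : G → ℂ) 1 else 0 := by
  classical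
  split_ifs with h
  · subst h; exact Chars82.Convolution.sum_apply_mul χ z
  · obtain ⟨n, ρ, hρ, hρc⟩ := exists_rep ψ
    obtain ⟨c, hc, hc'⟩ := avg_eq_scalar (isClassFunction_irr χ) ρ
    have hc0 : c = 0 := by
      rw [hρc, finrank_pi, Fintype.card_fin] at hc'
      have horth := classInner_irr_of_ne h
      rw [Cfsg.classInner, mul_eq_zero, inv_eq_zero] at horth
      have h0 := horth.resolve_left natCard_ne_zero
      rw [h0, mul_eq_zero] at hc'
      refine hc'.resolve_right fun hn => ?_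
      obtain ⟨d, hd, hd1⟩ := exists_degree_pos ψ
      rw [← hρc, Representation.char_one, finrank_pi, Fintype.card_fin, hn] at hd1
      exact hd.ne' (by exact_mod_cast hd1.symm)
    have h2 := congrArg (fun f => LinearMap.trace ℂ _ (f * ρ z)) hc
    simp only [avg, Finset.sum_mul, smul_mul_assoc, one_mul, ← map_mul, map_sum, map_smul,
      smul_eq_mul, hc0, zero_mul, zero_smul, map_zero] at h2
    rw [← hρc]
    exact h2

variable [Finite G] {x : G}

/-- The `p'`-part of the centralizer of `x`. -/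
def IsVPart (p : ℕ) (x : G) (V : Subgroup G) : Prop :=
  ∀ y : G, y ∈ V ↔ (y ∈ Subgroup.centralizer ({x} : Set G) ∧ ¬ p ∣ orderOf y)

theorem isVPart_of (hx : orderOf x = p) {V : Subgroup G}
    (h1 : ∀ y, y ∈ V → y ∈ Subgroup.centralizer ({x} : Set G))
    (h2 : ∀ y ∈ Subgroup.centralizer ({x} : Set G), ∃ v ∈ V, ∃ i : ℕ, y = v * x ^ i)
    (h3 : ¬ p ∣ Nat.card V) : IsVPart p x V := by
  intro y
  refine ⟨fun hy => ⟨h1 y hy, fun h => h3 (h.trans (Subgroup.orderOf_dvd_natCard V hy))⟩, ?_⟩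
  rintro ⟨hy, hyp⟩
  obtain ⟨v, hv, i, rfl⟩ := h2 y hy
  have hc : Commute v (x ^ i) :=
    Commute.pow_right (Subgroup.mem_centralizer_singleton_iff.mp (h1 v hv)) i
  by_cases hi : p ∣ i
  · obtain ⟨d, rfl⟩ := hi
    rw [pow_mul, show x ^ p = 1 from hx ▸ pow_orderOf_eq_one x, one_pow, mul_one]
    exact hv
  · exfalso
    apply hyp
    have hxi : orderOf (x ^ i) = p := by
      rw [Nat.Coprime.orderOf_pow, hx]
      rw [hx]
      exact (Fact.out : p.Prime).coprime_iff_not_dvd.mpr hi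
    have hv' : (orderOf v).Coprime (orderOf (x ^ i)) := by
      rw [hxi, Nat.coprime_comm, (Fact.out : p.Prime).coprime_iff_not_dvd]
      exact fun h => h3 (h.trans (Subgroup.orderOf_dvd_natCard V hv))
    rw [hc.orderOf_mul_eq_mul_orderOf_of_coprime hv', hxi]
    exact dvd_mul_left p _

open scoped Classical in
/-- The trace theorem for a Galois orbit of irreducible characters. -/
theorem exists_orbit (hx : orderOf x = p) (h2 : ¬ p ^ 2 ∣ Nat.card G) (χ : Cfsg.IrrCharacter G) :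
    ∃ (V : Subgroup G) (O : Finset (Cfsg.IrrCharacter G)) (m : ℕ) (a : ℤ),
      IsVPart p x V ∧ χ ∈ O ∧ 0 < m ∧
      (∀ ψ ∈ O, ∃ k : ℕ, k.Coprime (Nat.card G) ∧
        ∀ g, (ψ : G → ℂ) g = (χ : G → ℂ) (g ^ k)) ∧
      (∀ b : ℕ, ¬ p ∣ b → ∃ ψ ∈ O, ∃ k : ℕ, k.Coprime (Nat.card G) ∧ k ≡ b [MOD p] ∧
        ∀ g, (ψ : G → ℂ) g = (χ : G → ℂ) (g ^ k)) ∧
      (a = 0 ∨ a = 1 ∨ a = -1) ∧
      (∀ i : ℕ, ¬ p ∣ i → ∑ᶠ v ∈ (V : Set G), (m : ℂ) * ∑ ψ ∈ O, (ψ : G → ℂ) (x ^ i * v) =
        (Nat.card V : ℂ) * a) ∧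
      (a ≠ 0 → ∀ i : ℕ, ¬ p ∣ i → ∀ v ∈ V,
        (m : ℂ) * ∑ ψ ∈ O, (ψ : G → ℂ) (x ^ i * v) = a) := by
  classical
  have hp : p.Prime := Fact.out
  have := Fintype.ofFinite G
  have := Fintype.ofFinite (Cfsg.IrrCharacter G)
  have hn0 : NeZero (Nat.card G) := ⟨Nat.card_pos.ne'⟩
  -- a lattice of least rank containing `χ`
  have hex := exists_lattice (p := p) χ
  set n := Nat.find hex with hn
  obtain ⟨ρ, hρ⟩ := Nat.find_spec hex
  have hmin : ∀ (k : ℕ) (τ : Representation ℤ_[p] G (Fin k → ℤ_[p])),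
      Cfsg.classInner (charOf τ) χ ≠ 0 → n ≤ k := fun k τ h => Nat.find_min' hex ⟨τ, h⟩
  clear hn
  have hrank0 : ∀ E : Module.End ℤ_[p] (Fin n → ℤ_[p]),
      finrank ℤ_[p] (LinearMap.range E) = 0 → E = 0 := by
    intro E h0
    have : Subsingleton (LinearMap.range E) := Module.finrank_zero_iff.mp h0
    exact LinearMap.ext fun m => congrArg Subtype.val
      (Subsingleton.elim (⟨E m, m, rfl⟩ : LinearMap.range E) 0)
  have hidem : ∀ e : Module.End ℤ_[p] (Fin n → ℤ_[p]), (∀ g, Commute (ρ g) e) → e * e = e →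
      e = 0 ∨ e = 1 := by
    intro e hec hee
    have he1 : (1 - e) * (1 - e) = (1 : ℤ_[p]) • (1 - e) := by
      rw [one_smul, sub_mul, one_mul, mul_sub, mul_one, hee, sub_self, sub_zero]
    obtain ⟨τ0, h0⟩ := exists_range_lattice ρ e 1 (by rw [hee, one_smul]) hec
    obtain ⟨τ1, h1⟩ := exists_range_lattice ρ (1 - e) 1 he1
      fun g => (Commute.one_right _).sub_right (hec g)
    simp only [one_mul] at h0 h1
    have hsum : ∀ g, charOf ρ g = charOf τ0 g + charOf τ1 g := by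
      intro g
      show Embed.ι₀ p _ = Embed.ι₀ p _ + Embed.ι₀ p _
      rw [h0, h1, ← map_add, ← map_add, ← mul_add, add_sub_cancel, mul_one]
    have hr : finrank ℤ_[p] (LinearMap.range e) + finrank ℤ_[p] (LinearMap.range (1 - e)) = n := by
      have h := hsum 1
      simp only [charOf, map_one, LinearMap.trace_one, finrank_pi, Fintype.card_fin,
        map_natCast] at h
      exact_mod_cast h.symm
    have hne : Cfsg.classInner (charOf τ0) χ ≠ 0 ∨ Cfsg.classInner (charOf τ1) χ ≠ 0 := by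
      by_contra hcon
      push Not at hcon
      apply hρ
      rw [show charOf ρ = charOf τ0 + charOf τ1 from funext hsum, classInner_add_left, hcon.1,
        hcon.2, add_zero]
    rcases hne with h | h
    · have h' := hmin _ τ0 h
      exact Or.inr (sub_eq_zero.mp (hrank0 (1 - e) (Nat.le_zero.mp
        (le_of_add_le_add_left (a := n) (by linarith))))).symm
    · have h' := hmin _ τ1 h
      exact Or.inl (hrank0 e (Nat.le_zero.mp (le_of_add_le_add_left (a := n) (by linarith))))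
  obtain ⟨V, a, hV1, hV2, hV3, ha, hsumV, hconst⟩ := Core.trace_family ρ hx h2 hidem
  have hVP := isVPart_of hx hV1 hV2 hV3
  -- the Galois group
  have hζ := Complex.isPrimitiveRoot_exp (Nat.card G) Nat.card_pos.ne'
  set ζ := Complex.exp (2 * Real.pi * Complex.I / (Nat.card G : ℕ))
  obtain ⟨Γ, hΓ1, hΓcop, hΓmul, hΓfix, hΓrat, hΓsurj⟩ := Embed.exists_exponents p hζ
  set Ψ := charOf ρ with hΨ
  have hΨc : Cfsg.IsCharacter G Ψ := isCharacter_charOf ρ
  have hinv : ∀ g, ∀ k ∈ Γ, Ψ (g ^ k) = Ψ g := by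
    intro g k hk
    obtain ⟨c, hc⟩ := exists_coeffs hζ hΨc g
    have h1 : Ψ g = ∑ i, (c i : ℂ) * ζ ^ (i : ℕ) := by simpa using hc 1
    rw [hc k, h1]
    exact hΓrat c (h1 ▸ charOf_mem_range ρ g) k hk
  -- the orbit
  let pw : ℕ → Cfsg.IrrCharacter G → Cfsg.IrrCharacter G := fun k ψ =>
    if hk : k.Coprime (Nat.card G) then
      ⟨fun g => (ψ : G → ℂ) (g ^ k), BC78.PowChar.isIrrCharacter_pow ψ.2 hk⟩ else ψ
  have hpw : ∀ k ∈ Γ, ∀ ψ g, (pw k ψ : G → ℂ) g = (ψ : G → ℂ) (g ^ k) := fun k hk ψ g => by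
    simp only [pw, dif_pos (hΓcop k hk)]
  let O : Finset (Cfsg.IrrCharacter G) := Finset.univ.filter fun ψ => ∃ k ∈ Γ, pw k χ = ψ
  have hmemO : ∀ {ψ}, ψ ∈ O ↔ ∃ k ∈ Γ, pw k χ = ψ := fun {ψ} => by simp [O]
  have hχO : χ ∈ O := hmemO.mpr ⟨1, hΓ1, Subtype.ext (funext fun g => by rw [hpw 1 hΓ1, pow_one])⟩
  have hclosed : ∀ k ∈ Γ, ∀ ψ ∈ O, pw k ψ ∈ O := by
    intro k hk ψ hψ
    obtain ⟨l, hl, rfl⟩ := hmemO.mp hψ
    obtain ⟨r, hr, hkl⟩ := hΓmul k hk l hl
    refine hmemO.mpr ⟨r, hr, Subtype.ext (funext fun g => ?_)⟩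
    rw [hpw r hr, hpw k hk, hpw l hl, ← pow_mul]
    refine congrArg _ ?_
    rw [(isOfFinOrder_iff_pow_eq_one.mpr ⟨_, Nat.card_pos, hζ.pow_eq_one⟩).pow_eq_pow_iff_modEq,
      ← hζ.eq_orderOf] at hkl
    rw [pow_eq_pow_iff_modEq]
    exact hkl.symm.of_dvd (orderOf_dvd_natCard g)
  have hbij : ∀ k ∈ Γ, ∀ (f : Cfsg.IrrCharacter G → ℂ),
      ∑ ψ ∈ O, f (pw k ψ) = ∑ ψ ∈ O, f ψ := by
    intro k hk f
    have hinj : Set.InjOn (pw k) O := by
      intro ψ _ φ _ h
      refine Subtype.ext (funext fun g => ?_)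
      obtain ⟨g₀, hg₀⟩ := (powCoprime (G := G) (hΓcop k hk).symm).surjective g
      rw [← hg₀]
      have := congrArg (fun F : Cfsg.IrrCharacter G => (F : G → ℂ) g₀) h
      simpa [hpw k hk] using this
    have himg : O.image (pw k) = O :=
      Finset.eq_of_subset_of_card_le
        (fun ψ hψ => by
          obtain ⟨φ, hφ, rfl⟩ := Finset.mem_image.mp hψ
          exact hclosed k hk φ hφ)
        (by rw [Finset.card_image_of_injOn hinj])
    conv_rhs => rw [← himg]
    rw [Finset.sum_image hinj]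
  -- multiplicities
  obtain ⟨m, hm⟩ : ∃ m : Cfsg.IrrCharacter G → ℕ,
      ∀ ψ : Cfsg.IrrCharacter G, Cfsg.classInner Ψ (ψ : G → ℂ) = m ψ :=
    ⟨fun ψ => (exists_classInner_nat hΨc (isCharacter_irr ψ)).choose,
      fun ψ => (exists_classInner_nat hΨc (isCharacter_irr ψ)).choose_spec⟩
  have hmpw : ∀ k ∈ Γ, ∀ ψ, m (pw k ψ) = m ψ := by
    intro k hk ψ
    have : Cfsg.classInner Ψ (pw k ψ : G → ℂ) = Cfsg.classInner Ψ ψ := by
      rw [Cfsg.classInner, Cfsg.classInner]
      congr 1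
      refine Fintype.sum_bijective (fun g => g ^ k)
        (powCoprime (G := G) (hΓcop k hk).symm).bijective _ _ fun g => ?_
      rw [hpw k hk, hinv g k hk]
    rw [hm, hm] at this
    exact_mod_cast this
  have hmO : ∀ ψ ∈ O, m ψ = m χ := fun ψ hψ => by
    obtain ⟨k, hk, rfl⟩ := hmemO.mp hψ
    exact hmpw k hk χ
  have hm0 : 0 < m χ := Nat.pos_of_ne_zero fun h => hρ (by rw [hm, h]; simp)
  -- the scaled idempotent of the orbit
  let w : G → ℂ := fun g => ∑ ψ ∈ O, (ψ : G → ℂ) 1 * (ψ : G → ℂ) g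
  have hwc : Cfsg.IsCharacter G w := by
    have : w = ∑ ψ ∈ O, Cfsg.charDegree (ψ : G → ℂ) • (ψ : G → ℂ) := by
      funext g
      simp only [w, Finset.sum_apply, Pi.smul_apply, nsmul_eq_mul]
      refine Finset.sum_congr rfl fun ψ _ => ?_
      rw [(H80.ClassMult.deg_spec ψ).2]
      simp
    rw [this]
    exact isCharacter_sum _ fun ψ _ => isCharacter_nsmul (isCharacter_irr ψ) _
  have hwK : ∀ g, ∃ c : ℤ_[p], Embed.ι₀ p c = w g := by
    intro g
    refine Embed.exists_ι₀ p (isIntegral_apply hwc g) ?_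
    obtain ⟨c, hc⟩ := exists_coeffs hζ hwc g
    have h1 : w g = ∑ i, (c i : ℂ) * ζ ^ (i : ℕ) := by simpa using hc 1
    rw [h1]
    refine hΓfix c fun k hk => ?_
    rw [← hc k, ← h1]
    show ∑ ψ ∈ O, _ = ∑ ψ ∈ O, _
    rw [← hbij k hk (fun ψ => (ψ : G → ℂ) 1 * (ψ : G → ℂ) g)]
    refine Finset.sum_congr rfl fun ψ _ => ?_
    rw [hpw k hk, hpw k hk, one_pow]
  choose c hc using hwK
  let E : Module.End ℤ_[p] (Fin n → ℤ_[p]) := ∑ h : G, c h⁻¹ • ρ h
  have hEc : ∀ g, Commute (ρ g) E := by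
    intro g
    show ρ g * E = E * ρ g
    rw [Finset.mul_sum, Finset.sum_mul]
    refine Fintype.sum_equiv (MulAut.conj g).toEquiv _ _ fun h => ?_
    rw [mul_smul_comm, smul_mul_assoc, ← map_mul, ← map_mul]
    show c h⁻¹ • ρ (g * h) = c (g * h * g⁻¹)⁻¹ • ρ (g * h * g⁻¹ * g)
    rw [inv_mul_cancel_right]
    congr 1
    refine Embed.ι₀_injective p ?_
    rw [hc, hc, mul_inv_rev, mul_inv_rev, inv_inv, ← mul_assoc]
    exact (isClassFunction_of_isCharacter hwc h⁻¹ g).symm
  have hconv : ∀ z, ∑ g : G, w g * w (g⁻¹ * z) = (Nat.card G : ℂ) * w z := by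
    intro z
    calc ∑ g : G, w g * w (g⁻¹ * z)
        = ∑ ψ ∈ O, ∑ φ ∈ O, (ψ : G → ℂ) 1 * (φ : G → ℂ) 1 *
            ∑ g : G, (ψ : G → ℂ) g * (φ : G → ℂ) (g⁻¹ * z) := by
          simp only [w, Finset.sum_mul_sum]
          rw [Finset.sum_comm]
          refine Finset.sum_congr rfl fun ψ _ => ?_
          rw [Finset.sum_comm]
          refine Finset.sum_congr rfl fun φ _ => ?_
          rw [Finset.mul_sum]
          exact Finset.sum_congr rfl fun g _ => by ring
      _ = _ := by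
          simp only [sum_conv, mul_ite, mul_zero, Finset.sum_ite_eq, w, Finset.mul_sum]
          refine Finset.sum_congr rfl fun ψ hψ => ?_
          rw [if_pos hψ]
          have := apply_one_ne_zero ψ
          field_simp
  have hEE : E * E = (Nat.card G : ℤ_[p]) • E := by
    rw [show E * E = ∑ a : G, ∑ b : G, (c a⁻¹ • ρ a) * (c b⁻¹ • ρ b) from Finset.sum_mul_sum _ _ _ _]
    simp only [E, Finset.smul_sum, smul_mul_assoc, mul_smul_comm, ← map_mul, smul_smul,
      mul_comm (c _⁻¹) (c _⁻¹)]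
    calc _ = ∑ a : G, ∑ b : G, (c b⁻¹ * c a⁻¹) • ρ (a * b) := by
          exact Finset.sum_congr rfl fun a _ => Finset.sum_congr rfl fun b _ => by rw [mul_comm]
      _
        = ∑ a : G, ∑ u : G, (c (a⁻¹ * u)⁻¹ * c a⁻¹) • ρ u := by
          refine Finset.sum_congr rfl fun a _ => Fintype.sum_equiv (Equiv.mulLeft a) _ _ fun b => ?_
          simp
      _ = ∑ u : G, (∑ a : G, c (a⁻¹ * u)⁻¹ * c a⁻¹) • ρ u := by
          rw [Finset.sum_comm]
          simp only [Finset.sum_smul]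
      _ = _ := by
          refine Finset.sum_congr rfl fun u _ => ?_
          congr 1
          refine Embed.ι₀_injective p ?_
          simp only [map_sum, map_mul, map_natCast, hc]
          rw [← hconv u⁻¹]
          refine Fintype.sum_equiv (Equiv.inv G) _ _ fun a => ?_
          simp only [Equiv.inv_apply, inv_inv, mul_inv_rev]
          rw [mul_comm]
          congr 1
          exact (isClassFunction_of_isCharacter hwc (u⁻¹ * a) a).symm.trans (by group)
  obtain ⟨τ, hτ⟩ := exists_range_lattice ρ E _ hEE hEc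
  have hτval : ∀ g, charOf τ g = ∑ ψ ∈ O, (m χ : ℂ) * (ψ : G → ℂ) g := by
    intro g
    apply mul_left_cancel₀ (natCard_ne_zero (G := G))
    have h1 : (Nat.card G : ℂ) * charOf τ g = ∑ h : G, w h⁻¹ * Ψ (g * h) := by
      rw [show (Nat.card G : ℂ) = Embed.ι₀ p (Nat.card G : ℤ_[p]) from (map_natCast _ _).symm]
      show Embed.ι₀ p _ * Embed.ι₀ p _ = _
      rw [← map_mul, hτ, Finset.mul_sum]
      simp only [map_sum, mul_smul_comm, map_smul, smul_eq_mul, map_mul (Embed.ι₀ p), hc]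
      exact Finset.sum_congr rfl fun h _ => by rw [← map_mul]; rfl
    rw [h1]
    have hdec : ∀ y, Ψ y = ∑ φ : Cfsg.IrrCharacter G, (m φ : ℂ) * (φ : G → ℂ) y := by
      intro y
      have := congrFun (character_eq_finsum hΨc) y
      rw [finsum_eq_sum_of_fintype] at this
      simpa [hm] using this
    calc ∑ h : G, w h⁻¹ * Ψ (g * h) = ∑ u : G, w (u⁻¹ * g) * Ψ u :=
          Fintype.sum_equiv (Equiv.mulLeft g) _ _ fun h => by simp
      _ = ∑ φ : Cfsg.IrrCharacter G, ∑ ψ ∈ O, (m φ : ℂ) * (ψ : G → ℂ) 1 *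
            ∑ u : G, (φ : G → ℂ) u * (ψ : G → ℂ) (u⁻¹ * g) := by
          simp only [w, hdec, Finset.sum_mul_sum]
          rw [Finset.sum_comm]
          conv_rhs => rw [Finset.sum_comm]
          refine Finset.sum_congr rfl fun ψ _ => ?_
          rw [Finset.sum_comm]
          refine Finset.sum_congr rfl fun φ _ => ?_
          rw [Finset.mul_sum]
          exact Finset.sum_congr rfl fun u _ => by ring
      _ = _ := by
          rw [Finset.sum_comm, Finset.mul_sum]
          refine Finset.sum_congr rfl fun ψ hψ => ?_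
          simp only [sum_conv, mul_ite, mul_zero, Finset.sum_ite_eq', Finset.mem_univ, if_true]
          have := apply_one_ne_zero ψ
          rw [hmO ψ hψ]
          field_simp
  have hτne : Cfsg.classInner (charOf τ) χ ≠ 0 := by
    rw [show charOf τ = ∑ ψ ∈ O, (m χ : ℂ) • (ψ : G → ℂ) from funext fun g => by
      simp [hτval g, Finset.sum_apply], classInner_sum_left,
      Finset.sum_eq_single χ (fun ψ _ h => by
        rw [classInner_smul_left, classInner_irr_of_ne h, mul_zero]) (fun h => absurd hχO h),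
      classInner_smul_left, classInner_self_irr, mul_one]
    exact_mod_cast hm0.ne'
  have hΨval : ∀ g, Ψ g = ∑ ψ ∈ O, (m χ : ℂ) * (ψ : G → ℂ) g := by
    -- the range has full rank, so the other multiplicities vanish
    have hle := hmin _ τ hτne
    have hdegτ := hτval 1
    simp only [charOf, map_one, LinearMap.trace_one, finrank_pi, Fintype.card_fin,
      map_natCast] at hdegτ
    have hdegΨ : (n : ℂ) = ∑ φ : Cfsg.IrrCharacter G, (m φ : ℂ) * (φ : G → ℂ) 1 := by
      have := congrFun (character_eq_finsum hΨc) 1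
      rw [finsum_eq_sum_of_fintype] at this
      simp only [hΨ, charOf, map_one, LinearMap.trace_one, finrank_pi, Fintype.card_fin,
        map_natCast] at this
      simpa [← hΨ, hm] using this
    have hrest : ∀ φ ∈ Finset.univ \ O, m φ = 0 := by
      have hnat : ∑ φ : Cfsg.IrrCharacter G, m φ * Cfsg.charDegree (φ : G → ℂ) ≤
          ∑ φ ∈ O, m φ * Cfsg.charDegree (φ : G → ℂ) := by
        have e1 : (∑ φ : Cfsg.IrrCharacter G, m φ * Cfsg.charDegree (φ : G → ℂ)) = n := by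
          have : ((∑ φ : Cfsg.IrrCharacter G, m φ * Cfsg.charDegree (φ : G → ℂ) : ℕ) : ℂ) = n := by
            push_cast
            rw [hdegΨ]
            exact Finset.sum_congr rfl fun φ _ => by rw [(H80.ClassMult.deg_spec φ).2]
          exact_mod_cast this
        have e2 : (∑ φ ∈ O, m φ * Cfsg.charDegree (φ : G → ℂ)) =
            finrank ℤ_[p] (LinearMap.range E) := by
          have : ((∑ φ ∈ O, m φ * Cfsg.charDegree (φ : G → ℂ) : ℕ) : ℂ) =
              (finrank ℤ_[p] (LinearMap.range E) : ℂ) := by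
            push_cast
            rw [hdegτ]
            exact Finset.sum_congr rfl fun φ hφ => by
              rw [(H80.ClassMult.deg_spec φ).2, hmO φ hφ]
          exact_mod_cast this
        rw [e1, e2]
        exact hle
      rw [← Finset.sum_sdiff (Finset.subset_univ O), add_le_iff_nonpos_left] at hnat
      intro φ hφ
      have := (Finset.sum_eq_zero_iff.mp (Nat.le_zero.mp hnat)) φ hφ
      exact (mul_eq_zero.mp this).resolve_right (H80.ClassMult.deg_spec φ).1.ne'
    intro g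
    have := congrFun (character_eq_finsum hΨc) g
    rw [finsum_eq_sum_of_fintype, Finset.sum_apply] at this
    rw [this, ← Finset.sum_sdiff (Finset.subset_univ O),
      Finset.sum_eq_zero (s := Finset.univ \ O) (fun φ hφ => by simp [hm, hrest φ hφ]), zero_add]
    exact Finset.sum_congr rfl fun φ hφ => by simp [hm, hmO φ hφ]
  have hxp : x ^ p = 1 := hx ▸ pow_orderOf_eq_one x
  have hpG : p ∣ Nat.card G := hx ▸ orderOf_dvd_natCard x
  have hpow : ∀ i : ℕ, ¬ p ∣ i → ∃ k ∈ Γ, ∀ v ∈ V, (x * v) ^ k = x ^ i * v ^ k := by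
    intro i hi
    obtain ⟨k, hk, hki⟩ := hΓsurj i hpG hi
    refine ⟨k, hk, fun v hv => ?_⟩
    have hc : Commute x v := (Subgroup.mem_centralizer_singleton_iff.mp (hV1 v hv)).symm
    rw [hc.mul_pow]
    congr 1
    rw [pow_eq_pow_iff_modEq, hx]
    exact hki
  refine ⟨V, O, m χ, a, hVP, hχO, hm0, ?_, ?_, ha, ?_, ?_⟩
  · intro ψ hψ
    obtain ⟨k, hk, rfl⟩ := hmemO.mp hψ
    exact ⟨k, hΓcop k hk, hpw k hk χ⟩
  · intro b hb
    obtain ⟨k, hk, hkb⟩ := hΓsurj b hpG hb
    exact ⟨pw k χ, hmemO.mpr ⟨k, hk, rfl⟩, k, hΓcop k hk, hkb, hpw k hk χ⟩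
  · intro i hi
    obtain ⟨k, hk, hxv⟩ := hpow i hi
    have hval : ∑ᶠ v ∈ (V : Set G), Ψ (x * v) = (Nat.card V : ℂ) * a := by
      have := congrArg (Embed.ι₀ p) hsumV
      rw [map_mul, map_natCast, map_intCast] at this
      rw [← this]
      exact (AddMonoidHom.map_finsum_mem (fun v => LinearMap.trace ℤ_[p] _ (ρ (x * v)))
        (Embed.ι₀ p).toAddMonoidHom (Set.toFinite _)).symm
    rw [← hval]
    have h1 : ∀ v, (m χ : ℂ) * ∑ ψ ∈ O, (ψ : G → ℂ) (x ^ i * v) = Ψ (x ^ i * v) := fun v => by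
      rw [hΨval, Finset.mul_sum]
    simp only [h1]
    rw [finsum_mem_eq_toFinset_sum, finsum_mem_eq_toFinset_sum]
    symm
    refine Finset.sum_nbij' (fun v => v ^ k) (fun v => v ^ (Nat.gcdB (Nat.card G) k : ℤ))
      ?_ ?_ ?_ ?_ ?_
    · intro v hv
      simp only [Set.mem_toFinset, SetLike.mem_coe] at hv ⊢
      exact pow_mem hv k
    · intro v hv
      simp only [Set.mem_toFinset, SetLike.mem_coe] at hv ⊢
      exact zpow_mem hv _
    · intro v _
      show (v ^ k) ^ (Nat.gcdB (Nat.card G) k : ℤ) = v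
      exact (powCoprime (G := G) (hΓcop k hk).symm).left_inv v
    · intro v _
      show (v ^ (Nat.gcdB (Nat.card G) k : ℤ)) ^ k = v
      exact (powCoprime (G := G) (hΓcop k hk).symm).right_inv v
    · intro v hv
      simp only [Set.mem_toFinset, SetLike.mem_coe] at hv
      show Ψ (x * v) = Ψ (x ^ i * v ^ k)
      rw [← hxv v hv, hinv _ k hk]
  · intro ha0 i hi v hv
    obtain ⟨k, hk, hxv⟩ := hpow i hi
    obtain ⟨v₀, hv₀, rfl⟩ : ∃ v₀ ∈ V, v₀ ^ k = v := by
      refine ⟨v ^ (Nat.gcdB (Nat.card G) k : ℤ), zpow_mem hv _, ?_⟩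
      exact (powCoprime (G := G) (hΓcop k hk).symm).right_inv v
    rw [Finset.mul_sum, ← hΨval, ← hxv v₀ hv₀, hinv _ k hk]
    show Embed.ι₀ p _ = _
    rw [hconst ha0 v₀ hv₀, map_intCast]

end Cfsg.Agent.Lib.FirstPower.CharOrbit
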