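import Cfsg.Agent.Lib.FirstPower.Green
import Mathlib.GroupTheory.SchurZassenhaus
import Mathlib.GroupTheory.Sylow

/-!
# Traces of an indecomposable lattice on the `p`-singular elements

`p` divides `|G|` exactly once, `x` has order `p` and `ρ` is a lattice without nontrivial idempotent
endomorphisms.  The average of the trace over `x V` is `0, 1` or `-1`, and a nonzero average is
attained everywhere on `x V`.
-/

namespace Cfsg.Agent.Lib.FirstPower.Core

open Lattice Green Module

variable {p : ℕ} [Fact p.Prime] {G : Type*} [Group G] [Finite G] {x : G}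

theorem prime_subgroup_unique (hx : orderOf x = p) (h2 : ¬ p ^ 2 ∣ Nat.card G) {y : G}
    (hy : y ∈ Subgroup.normalizer (Subgroup.zpowers x : Set G)) (hyp : y ^ p = 1) :
    y ∈ Subgroup.zpowers x := by
  have hp : p.Prime := Fact.out
  have hP : IsPGroup p (Subgroup.zpowers x) :=
    IsPGroup.of_card (n := 1) (by rw [Nat.card_zpowers, hx, pow_one])
  have hQ : IsPGroup p (Subgroup.zpowers y) := by
    obtain ⟨k, -, hk⟩ := (Nat.dvd_prime_pow hp).mp (show orderOf y ∣ p ^ 1 by
      rw [pow_one]; exact orderOf_dvd_of_pow_eq_one hyp)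
    exact IsPGroup.of_card (n := k) (by rw [Nat.card_zpowers, hk])
  have hsup : IsPGroup p ↥(Subgroup.zpowers y ⊔ Subgroup.zpowers x) :=
    hQ.to_sup_of_normal_right' hP (Subgroup.zpowers_le.mpr hy)
  obtain ⟨k, hk⟩ := hsup.exists_card_eq
  have hk1 : k ≤ 1 := by
    by_contra hc
    exact h2 ((pow_dvd_pow p (by omega : 2 ≤ k)).trans (hk ▸ Subgroup.card_subgroup_dvd_card _))
  have : Subgroup.zpowers x = Subgroup.zpowers y ⊔ Subgroup.zpowers x :=
    Subgroup.eq_of_le_of_card_ge le_sup_right (by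
      rw [hk, Nat.card_zpowers, hx]
      calc p ^ k ≤ p ^ 1 := Nat.pow_le_pow_right hp.pos hk1
        _ = p := pow_one p)
  rw [this]
  exact Subgroup.mem_sup_left (Subgroup.mem_zpowers y)

/-- A complement of `⟨x⟩` in its normalizer. -/
theorem exists_complement (hx : orderOf x = p) (h2 : ¬ p ^ 2 ∣ Nat.card G) :
    ∃ H : Subgroup G, ¬ p ∣ Nat.card H ∧ H ≤ Subgroup.normalizer (Subgroup.zpowers x : Set G) ∧
      ∀ g ∈ Subgroup.normalizer (Subgroup.zpowers x : Set G),
        ∃ h ∈ H, ∃ i : ℕ, g = h * x ^ i := by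
  have hp : p.Prime := Fact.out
  set N := Subgroup.normalizer (Subgroup.zpowers x : Set G)
  let P := (Subgroup.zpowers x).subgroupOf N
  have hle : Subgroup.zpowers x ≤ N := Subgroup.le_normalizer
  have hPn : P.Normal := Subgroup.normal_subgroupOf_iff_le_normalizer hle |>.mpr le_rfl
  have hPc : Nat.card P = p := by
    rw [Nat.card_congr (Subgroup.subgroupOfEquivOfLe hle).toEquiv, Nat.card_zpowers, hx]
  have hNc : Nat.card N = p * P.index := by rw [← hPc, Subgroup.card_mul_index]
  have hidx : ¬ p ∣ P.index := by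
    intro h
    exact h2 ((by rw [hNc, sq]; exact Nat.mul_dvd_mul_left p h : p ^ 2 ∣ Nat.card N).trans
      (Subgroup.card_subgroup_dvd_card N))
  obtain ⟨K, hK⟩ := Subgroup.exists_left_complement'_of_coprime (N := P)
    (by rw [hPc]; exact hp.coprime_iff_not_dvd.mpr hidx)
  refine ⟨K.map N.subtype, ?_, Subgroup.map_subtype_le K, fun g hg => ?_⟩
  · rw [Nat.card_congr (K.equivMapOfInjective N.subtype N.subtype_injective).symm.toEquiv]
    have := hK.card_mul
    rw [hPc, hNc, mul_comm p] at this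
    exact fun h => hidx (Nat.eq_of_mul_eq_mul_right hp.pos this ▸ h)
  · obtain ⟨⟨⟨h, hh⟩, ⟨u, hu⟩⟩, hhu⟩ := hK.2 ⟨g, hg⟩
    have hfin : IsOfFinOrder x := isOfFinOrder_of_finite x
    obtain ⟨i, hi⟩ := (hfin.mem_powers_iff_mem_zpowers.mpr
      (show (u : G) ∈ Subgroup.zpowers x from hu))
    exact ⟨h, ⟨h, hh, rfl⟩, i, by rw [show x ^ i = (u : G) from hi]; exact (congrArg Subtype.val hhu).symm⟩

theorem conj_pow_iter {h : G} {c : ℕ} (hc : h * x * h⁻¹ = x ^ c) (n : ℕ) :
    h ^ n * x * (h ^ n)⁻¹ = x ^ (c ^ n) := by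
  induction n with
  | zero => simp
  | succ n ih =>
    rw [pow_succ' h, mul_inv_rev, show h * h ^ n * x * ((h ^ n)⁻¹ * h⁻¹) =
      h * (h ^ n * x * (h ^ n)⁻¹) * h⁻¹ by group, ih, ← conj_pow, hc, ← pow_mul, pow_succ']

theorem commute_iff_conj {g : G} : g ∈ Subgroup.centralizer ({x} : Set G) ↔ g * x * g⁻¹ = x := by
  rw [Subgroup.mem_centralizer_singleton_iff, mul_inv_eq_iff_eq_mul]

theorem pow_mem_centralizer (hx : orderOf x = p) {h : G} {c : ℕ} (hc : h * x * h⁻¹ = x ^ c) :
    h ^ (p - 1) ∈ Subgroup.centralizer ({x} : Set G) := by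
  have hp : p.Prime := Fact.out
  rw [commute_iff_conj, conj_pow_iter hc]
  conv_rhs => rw [← pow_one x]
  rw [pow_eq_pow_iff_modEq, hx, ← ZMod.natCast_eq_natCast_iff]
  push_cast
  refine ZMod.pow_card_sub_one_eq_one fun h0 => ?_
  obtain ⟨d, rfl⟩ := (ZMod.natCast_eq_zero_iff _ _).mp h0
  have hx1 : x ^ p = 1 := hx ▸ pow_orderOf_eq_one x
  rw [pow_mul, hx1, one_pow, conj_eq_one_iff] at hc
  rw [hc, orderOf_one] at hx
  exact hp.one_lt.ne hx

/-! ## Sections of a direct summand -/

variable {M : Type*} [AddCommGroup M] [Module ℤ_[p] M]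

/-- The restriction to the range of a commuting operator. -/
noncomputable def onRange (f e : Module.End ℤ_[p] M) (h : Commute f e) :
    Module.End ℤ_[p] (LinearMap.range e) :=
  f.restrict fun m hm => by
    obtain ⟨a, rfl⟩ := hm
    exact ⟨f a, by rw [← Module.End.mul_apply, ← h.eq, Module.End.mul_apply]⟩

theorem coe_onRange (f e : Module.End ℤ_[p] M) (h : Commute f e) (a : LinearMap.range e) :
    (onRange f e h a : M) = f a := rfl

theorem coe_onRange_pow (f e : Module.End ℤ_[p] M) (h : Commute f e) (n : ℕ)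
    (a : LinearMap.range e) : (((onRange f e h) ^ n) a : M) = (f ^ n) a := by
  induction n with
  | zero => rfl
  | succ n ih => rw [pow_succ', pow_succ', Module.End.mul_apply, Module.End.mul_apply, coe_onRange, ih]

theorem onRange_pow_eq_one {f e : Module.End ℤ_[p] M} (h : Commute f e) {n : ℕ} (hf : f ^ n = 1) :
    (onRange f e h) ^ n = 1 :=
  LinearMap.ext fun a => Subtype.ext (by rw [coe_onRange_pow, hf]; rfl)

theorem coe_normOp_onRange (f e : Module.End ℤ_[p] M) (h : Commute f e) (a : LinearMap.range e) :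
    (normOp p (onRange f e h) a : M) = normOp p f a := by
  simp only [normOp, LinearMap.sum_apply, Submodule.coe_sum, coe_onRange_pow]

theorem mem_ker_sub_onRange {f e : Module.End ℤ_[p] M} (h : Commute f e) {a : LinearMap.range e} :
    a ∈ LinearMap.ker (onRange f e h - 1) ↔ (a : M) ∈ LinearMap.ker (f - 1) := by
  simp only [LinearMap.mem_ker, LinearMap.sub_apply, Module.End.one_apply, sub_eq_zero,
    Subtype.ext_iff, coe_onRange]

theorem mem_ker_normOp_onRange {f e : Module.End ℤ_[p] M} (h : Commute f e)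
    {a : LinearMap.range e} :
    a ∈ LinearMap.ker (normOp p (onRange f e h)) ↔ (a : M) ∈ LinearMap.ker (normOp p f) := by
  simp only [LinearMap.mem_ker, Subtype.ext_iff, coe_normOp_onRange, ZeroMemClass.coe_zero]

variable {X e : Module.End ℤ_[p] M}

theorem idem_apply (he : e * e = e) {m : M} (hm : m ∈ LinearMap.range e) : e m = m := by
  obtain ⟨a, rfl⟩ := hm
  rw [← Module.End.mul_apply, he]

theorem ker_sub_stable_idem (h : Commute X e) {k : M} (hk : k ∈ LinearMap.ker (X - 1)) :
    e k ∈ LinearMap.ker (X - 1) := by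
  have : Commute (X - 1) e := h.sub_left (Commute.one_left e)
  rw [LinearMap.mem_ker, ← Module.End.mul_apply, this.eq, Module.End.mul_apply,
    LinearMap.mem_ker.mp hk, map_zero]

theorem normOp_commute (h : Commute X e) : Commute (normOp p X) e :=
  Commute.sum_left _ _ _ fun j _ => h.pow_left j

theorem ker_normOp_stable_idem (h : Commute X e) {k : M} (hk : k ∈ LinearMap.ker (normOp p X)) :
    e k ∈ LinearMap.ker (normOp p X) := by
  rw [LinearMap.mem_ker, ← Module.End.mul_apply, (normOp_commute h).eq, Module.End.mul_apply,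
    LinearMap.mem_ker.mp hk, map_zero]

theorem cardA_onRange_eq_one (he : e * e = e) (h : Commute X e)
    (h0 : ∀ k ∈ LinearMap.ker (X - 1), e k ∈ LinearMap.range (normOp p X)) :
    cardA (onRange X e h) = 1 := by
  refine AddSubgroup.relIndex_eq_one.mpr fun a ha => ?_
  have hk := (mem_ker_sub_onRange h).mp ha
  obtain ⟨b, hb⟩ := h0 a hk
  refine ⟨⟨e b, b, rfl⟩, Subtype.ext ?_⟩
  rw [coe_normOp_onRange]
  show normOp p X (e b) = (a : M)
  rw [← Module.End.mul_apply, (normOp_commute h).eq, Module.End.mul_apply, hb,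
    idem_apply he a.2, idem_apply he a.2]

theorem cardB_onRange_eq_one (he : e * e = e) (h : Commute X e)
    (h0 : ∀ k ∈ LinearMap.ker (normOp p X), e k ∈ LinearMap.range (X - 1)) :
    cardB (onRange X e h) = 1 := by
  refine AddSubgroup.relIndex_eq_one.mpr fun a ha => ?_
  have hk := (mem_ker_normOp_onRange h).mp ha
  obtain ⟨b, hb⟩ := h0 a hk
  refine ⟨⟨e b, b, rfl⟩, Subtype.ext ?_⟩
  show X (e b) - e b = (a : M)
  have : e ((X - 1) b) = X (e b) - e b := by
    rw [LinearMap.sub_apply, map_sub, ← Module.End.mul_apply, ← h.eq]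
    rfl
  rw [← this, hb, idem_apply he a.2, idem_apply he a.2]

theorem cardA_onRange_eq (he : e * e = e) (h : Commute X e)
    (h1 : ∀ k ∈ LinearMap.ker (X - 1), k - e k ∈ LinearMap.range (normOp p X)) :
    cardA (onRange X e h) = cardA X := by
  rw [← card_secA, ← card_secA]
  let j : LinearMap.ker (onRange X e h - 1) →ₗ[ℤ_[p]] LinearMap.ker (X - 1) :=
    ((LinearMap.range e).subtype ∘ₗ (LinearMap.ker (onRange X e h - 1)).subtype).codRestrict _
      fun a => (mem_ker_sub_onRange h).mp a.2
  refine Nat.card_eq_of_bijective (Submodule.mapQ _ _ j ?_) ⟨?_, ?_⟩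
  · rintro a ⟨b, hb⟩
    refine ⟨(b : M), ?_⟩
    rw [← coe_normOp_onRange X e h b, hb]
    rfl
  · rw [injective_iff_map_eq_zero]
    intro q hq
    obtain ⟨a, rfl⟩ := Submodule.Quotient.mk_surjective _ q
    rw [Submodule.mapQ_apply, Submodule.Quotient.mk_eq_zero] at hq
    rw [Submodule.Quotient.mk_eq_zero]
    obtain ⟨b, hb⟩ := hq
    refine ⟨⟨e b, b, rfl⟩, Subtype.ext ?_⟩
    rw [coe_normOp_onRange]
    show normOp p X (e b) = ((a : LinearMap.range e) : M)
    rw [← Module.End.mul_apply, (normOp_commute h).eq, Module.End.mul_apply, hb]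
    exact idem_apply he (a : LinearMap.range e).2
  · intro q
    obtain ⟨k, rfl⟩ := Submodule.Quotient.mk_surjective _ q
    let a : LinearMap.ker (onRange X e h - 1) :=
      ⟨⟨e k, k, rfl⟩, (mem_ker_sub_onRange h).mpr (ker_sub_stable_idem h k.2)⟩
    refine ⟨Submodule.Quotient.mk a, ?_⟩
    rw [Submodule.mapQ_apply]
    refine ((Submodule.Quotient.eq _).mpr ?_).symm
    exact h1 k k.2

theorem cardB_onRange_eq (he : e * e = e) (h : Commute X e)
    (h1 : ∀ k ∈ LinearMap.ker (normOp p X), k - e k ∈ LinearMap.range (X - 1)) :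
    cardB (onRange X e h) = cardB X := by
  rw [← card_secB, ← card_secB]
  let j : LinearMap.ker (normOp p (onRange X e h)) →ₗ[ℤ_[p]] LinearMap.ker (normOp p X) :=
    ((LinearMap.range e).subtype ∘ₗ (LinearMap.ker (normOp p (onRange X e h))).subtype).codRestrict _
      fun a => (mem_ker_normOp_onRange h).mp a.2
  refine Nat.card_eq_of_bijective (Submodule.mapQ _ _ j ?_) ⟨?_, ?_⟩
  · rintro a ⟨b, hb⟩
    refine ⟨(b : M), ?_⟩
    have := congrArg Subtype.val hb
    exact this
  · rw [injective_iff_map_eq_zero]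
    intro q hq
    obtain ⟨a, rfl⟩ := Submodule.Quotient.mk_surjective _ q
    rw [Submodule.mapQ_apply, Submodule.Quotient.mk_eq_zero] at hq
    rw [Submodule.Quotient.mk_eq_zero]
    obtain ⟨b, hb⟩ := hq
    refine ⟨⟨e b, b, rfl⟩, Subtype.ext ?_⟩
    show X (e b) - e b = ((a : LinearMap.range e) : M)
    have : e ((X - 1) b) = X (e b) - e b := by
      rw [LinearMap.sub_apply, map_sub, ← Module.End.mul_apply, ← h.eq]
      rfl
    rw [← this, hb]
    exact idem_apply he (a : LinearMap.range e).2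
  · intro q
    obtain ⟨k, rfl⟩ := Submodule.Quotient.mk_surjective _ q
    let a : LinearMap.ker (normOp p (onRange X e h)) :=
      ⟨⟨e k, k, rfl⟩, (mem_ker_normOp_onRange h).mpr (ker_normOp_stable_idem h k.2)⟩
    refine ⟨Submodule.Quotient.mk a, ?_⟩
    rw [Submodule.mapQ_apply]
    refine ((Submodule.Quotient.eq _).mpr ?_).symm
    exact h1 k k.2

variable [Module.Free ℤ_[p] M] [Module.Finite ℤ_[p] M]

theorem trace_idem (he : e * e = e) (f : Module.End ℤ_[p] M) (h : Commute f e) :
    LinearMap.trace ℤ_[p] M (f * e) = LinearMap.trace ℤ_[p] _ (onRange f e h) := by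
  rw [show f * e = (f ∘ₗ (LinearMap.range e).subtype) ∘ₗ e.rangeRestrict from rfl,
    LinearMap.trace_comp_comm']
  congr 1
  refine LinearMap.ext fun a => Subtype.ext ?_
  show e (f a) = f a
  rw [← Module.End.mul_apply, ← h.eq, Module.End.mul_apply, idem_apply he a.2]

/-! ## The main theorem -/

variable (ρ : Representation ℤ_[p] G M)

/-- The map induced on a section. -/
noncomputable def mapSec (K R : Submodule ℤ_[p] M) (f : Module.End ℤ_[p] M)
    (hK : ∀ k ∈ K, f k ∈ K) (hR : ∀ k ∈ R, f k ∈ R) :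
    AddMonoid.End (K ⧸ R.comap K.subtype) :=
  LinearMap.toAddMonoidHom (Submodule.mapQ (R.comap K.subtype) (R.comap K.subtype) (f.restrict hK)
    (fun k (hk : (k : M) ∈ R) => (show f (k : M) ∈ R from hR k hk)))

/-- The pair of maps induced on the sections. -/
noncomputable def sec (X f : Module.End ℤ_[p] M)
    (hA : ∀ k ∈ LinearMap.ker (X - 1), f k ∈ LinearMap.ker (X - 1))
    (hA' : ∀ k ∈ LinearMap.range (normOp p X), f k ∈ LinearMap.range (normOp p X))
    (hB : ∀ k ∈ LinearMap.ker (normOp p X), f k ∈ LinearMap.ker (normOp p X))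
    (hB' : ∀ k ∈ LinearMap.range (X - 1), f k ∈ LinearMap.range (X - 1)) :
    AddMonoid.End (SecA X) × AddMonoid.End (SecB X) :=
  (mapSec (LinearMap.ker (X - 1)) (LinearMap.range (normOp p X)) f hA hA',
    mapSec (LinearMap.ker (normOp p X)) (LinearMap.range (X - 1)) f hB hB')

theorem mapSec_zero {K R : Submodule ℤ_[p] M} {f : Module.End ℤ_[p] M} {hK : ∀ k ∈ K, f k ∈ K}
    {hR : ∀ k ∈ R, f k ∈ R} (h : mapSec K R f hK hR = 0) {k : M} (hk : k ∈ K) : f k ∈ R := by
  have e := DFunLike.congr_fun h (Submodule.Quotient.mk (⟨k, hk⟩ : K))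
  have e' : (Submodule.Quotient.mk (f.restrict hK ⟨k, hk⟩) : K ⧸ R.comap K.subtype) = 0 := e
  exact ((Submodule.Quotient.mk_eq_zero (R.comap K.subtype)).mp e' :)

theorem mapSec_one {K R : Submodule ℤ_[p] M} {f : Module.End ℤ_[p] M} {hK : ∀ k ∈ K, f k ∈ K}
    {hR : ∀ k ∈ R, f k ∈ R} (h : mapSec K R f hK hR = 1) {k : M} (hk : k ∈ K) : k - f k ∈ R := by
  have e := DFunLike.congr_fun h (Submodule.Quotient.mk (⟨k, hk⟩ : K))
  have e' : (Submodule.Quotient.mk (f.restrict hK ⟨k, hk⟩) : K ⧸ R.comap K.subtype) =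
      Submodule.Quotient.mk ⟨k, hk⟩ := e
  exact ((Submodule.Quotient.eq (R.comap K.subtype)).mp e'.symm :)

set_option maxHeartbeats 1000000 in
theorem trace_family (hx : orderOf x = p) (h2 : ¬ p ^ 2 ∣ Nat.card G)
    (hidem : ∀ e : Module.End ℤ_[p] M, (∀ g, Commute (ρ g) e) → e * e = e → e = 0 ∨ e = 1) :
    ∃ (V : Subgroup G) (a : ℤ),
      (∀ y, y ∈ V → y ∈ Subgroup.centralizer ({x} : Set G)) ∧
      (∀ y ∈ Subgroup.centralizer ({x} : Set G), ∃ v ∈ V, ∃ i : ℕ, y = v * x ^ i) ∧
      ¬ p ∣ Nat.card V ∧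
      (a = 0 ∨ a = 1 ∨ a = -1) ∧
      (∑ᶠ v ∈ (V : Set G), LinearMap.trace ℤ_[p] M (ρ (x * v))) = (Nat.card V : ℤ_[p]) * a ∧
      (a ≠ 0 → ∀ v ∈ V, LinearMap.trace ℤ_[p] M (ρ (x * v)) = a) := by
  classical
  have hp : p.Prime := Fact.out
  obtain ⟨H, hH, hHN, hN⟩ := exists_complement hx h2
  have hHx : ∀ h ∈ H, ∃ c : ℕ, h * x * h⁻¹ = x ^ c := by
    intro h hh
    have hm := (Subgroup.mem_normalizer_iff.mp (hHN hh) x).mp (Subgroup.mem_zpowers x)
    obtain ⟨c, hc⟩ := (isOfFinOrder_of_finite x).mem_powers_iff_mem_zpowers.mpr hm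
    exact ⟨c, hc.symm⟩
  have hP : ∀ g : G, g⁻¹ * x * g ∈ Subgroup.normalizer (Subgroup.zpowers x : Set G) →
      g ∈ Subgroup.normalizer (Subgroup.zpowers x : Set G) := by
    intro g hg
    have hxp : x ^ p = 1 := hx ▸ pow_orderOf_eq_one x
    have hmem := prime_subgroup_unique hx h2 hg (by
      rw [show g⁻¹ * x * g = g⁻¹ * x * g⁻¹⁻¹ by simp, conj_pow, hxp]; simp)
    rw [← Subgroup.inv_mem_iff, Subgroup.mem_normalizer_iff]
    have he : Subgroup.zpowers (g⁻¹ * x * g) = Subgroup.zpowers x :=
      Subgroup.eq_of_le_of_card_ge (Subgroup.zpowers_le.mpr hmem) (by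
        rw [Nat.card_zpowers, Nat.card_zpowers, hx,
          show g⁻¹ * x * g = g⁻¹ * x * g⁻¹⁻¹ by simp]
        exact le_of_eq ((MulEquiv.orderOf_eq (MulAut.conj g⁻¹) x).trans hx).symm)
    intro y
    constructor
    · rintro ⟨n, rfl⟩
      rw [← he]
      exact ⟨n, by simp only [inv_inv]; rw [show g⁻¹ * x * g = g⁻¹ * x * g⁻¹⁻¹ by simp, conj_zpow]; simp⟩
    · intro hy
      rw [← he] at hy
      obtain ⟨n, hn⟩ := hy
      refine ⟨n, ?_⟩
      simp only [inv_inv] at hn
      rw [show g⁻¹ * x * g = g⁻¹ * x * g⁻¹⁻¹ by simp, conj_zpow, inv_inv] at hn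
      exact mul_left_cancel (mul_right_cancel hn)
  let V := H ⊓ Subgroup.centralizer ({x} : Set G)
  have hVH : V ≤ H := inf_le_left
  have hV : ¬ p ∣ Nat.card V := fun h => hH (h.trans (Subgroup.card_dvd_of_le hVH))
  have hVn : ∀ h ∈ H, ∀ v ∈ V, h * v * h⁻¹ ∈ V := by
    intro h hh v hv
    refine Subgroup.mem_inf.mpr ⟨mul_mem (mul_mem hh (hVH hv)) (inv_mem hh), ?_⟩
    obtain ⟨c, hc⟩ := hHx h⁻¹ (inv_mem hh)
    rw [inv_inv] at hc
    show _ ∈ Subgroup.centralizer ({x} : Set G)
    rw [Subgroup.mem_centralizer_singleton_iff]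
    have hvc : Commute v (x ^ c) :=
      Commute.pow_right (Subgroup.mem_centralizer_singleton_iff.mp hv.2) c
    calc h * v * h⁻¹ * x = h * (v * (h⁻¹ * x * h)) * h⁻¹ := by group
      _ = h * (h⁻¹ * x * h * v) * h⁻¹ := by rw [hc, hvc.eq]
      _ = x * (h * v * h⁻¹) := by group
  have hcomm : ∀ h ∈ H, ∀ k ∈ H, h * k * (k * h)⁻¹ ∈ V := by
    intro h hh k hk
    refine Subgroup.mem_inf.mpr ⟨mul_mem (mul_mem hh hk) (inv_mem (mul_mem hk hh)), ?_⟩
    obtain ⟨a, ha⟩ := hHx h hh
    obtain ⟨b, hb⟩ := hHx k hk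
    have e1 : h * k * x * (h * k)⁻¹ = x ^ (a * b) := by
      rw [mul_inv_rev, show h * k * x * (k⁻¹ * h⁻¹) = h * (k * x * k⁻¹) * h⁻¹ by group, hb,
        ← conj_pow, ha, ← pow_mul]
    have e2 : k * h * x * (k * h)⁻¹ = x ^ (a * b) := by
      rw [mul_inv_rev, show k * h * x * (h⁻¹ * k⁻¹) = k * (h * x * h⁻¹) * k⁻¹ by group, ha,
        ← conj_pow, hb, ← pow_mul, mul_comm]
    show _ ∈ Subgroup.centralizer ({x} : Set G)
    rw [Subgroup.mem_centralizer_singleton_iff]
    calc h * k * (k * h)⁻¹ * x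
        = h * k * ((k * h)⁻¹ * x * (k * h)) * (k * h)⁻¹ := by group
      _ = x * (h * k * (k * h)⁻¹) := by
        have e3 : (k * h)⁻¹ * x * (k * h) = (h * k)⁻¹ * x * (h * k) := by
          have hi : ∀ y : G, y * x * y⁻¹ = x ^ (a * b) → ∀ d : ℕ, y⁻¹ * x ^ (a * b * d) * y = x ^ d := by
            intro y hy d
            rw [pow_mul, ← hy, conj_pow]
            group
          obtain ⟨d, hd⟩ : ∃ d : ℕ, x ^ (a * b * d) = x := by
            obtain ⟨m, hm⟩ := exists_pow_eq_self_of_coprime (x := x) (n := a * b) (by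
              rw [hx, Nat.coprime_comm, hp.coprime_iff_not_dvd]
              rintro ⟨d, hd⟩
              have hxp : x ^ p = 1 := hx ▸ pow_orderOf_eq_one x
              rw [hd, pow_mul, hxp, one_pow, conj_eq_one_iff] at e1
              rw [e1, orderOf_one] at hx
              exact hp.one_lt.ne hx)
            exact ⟨m, by rw [pow_mul, hm]⟩
          have f1 := hi _ e2 d
          have f2 := hi _ e1 d
          rw [hd] at f1 f2
          exact f1.trans f2.symm
        rw [e3]
        group
  -- the idempotent of `V`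
  obtain ⟨c, hc⟩ : IsUnit (Nat.card V : ℤ_[p]) := by
    rw [PadicInt.isUnit_iff]
    refine le_antisymm (PadicInt.norm_le_one _) (not_lt.mp fun h => hV ?_)
    exact Int.natCast_dvd_natCast.mp
      ((PadicInt.norm_int_lt_one_iff_dvd (Nat.card V : ℤ)).mp (by simpa using h))
  have := Fintype.ofFinite V
  let e : Module.End ℤ_[p] M := (↑c⁻¹ : ℤ_[p]) • ∑ v : V, ρ (v : G)
  have hVe : ∀ v ∈ V, ρ v * e = e := by
    intro v hv
    rw [mul_smul_comm, Finset.mul_sum]
    congr 1
    exact Fintype.sum_equiv (Equiv.mulLeft (⟨v, hv⟩ : V)) _ _ fun w => (map_mul ρ v w).symm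
  have he : e * e = e := by
    conv_lhs => rw [show e * e = (↑c⁻¹ : ℤ_[p]) • ∑ v : V, ρ (v : G) * e by
      rw [← Finset.sum_mul, ← smul_mul_assoc]]
    simp only [hVe _ (Subtype.coe_prop _), Finset.sum_const, Finset.card_univ]
    rw [← Nat.cast_smul_eq_nsmul ℤ_[p], ← Nat.card_eq_fintype_card, smul_smul, ← hc,
      Units.inv_mul, one_smul]
  have hxV : ∀ v ∈ V, Commute x v := fun v hv =>
    (Subgroup.mem_centralizer_singleton_iff.mp hv.2).symm
  set X := ρ x with hXdef
  have hXe : Commute X e := by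
    refine Commute.smul_right (Commute.sum_right _ _ _ fun v _ => ?_) _
    exact (hxV v v.2).map ρ
  have hhe : ∀ h ∈ H, Commute (ρ h) e := by
    intro h hh
    show ρ h * e = e * ρ h
    rw [mul_smul_comm, smul_mul_assoc, Finset.mul_sum, Finset.sum_mul]
    congr 1
    refine Fintype.sum_bijective (fun v : V => (⟨h * v * h⁻¹, hVn h hh v v.2⟩ : V)) ?_ _ _ fun v => ?_
    · refine (Finite.injective_iff_bijective).mp fun a b hab => Subtype.ext ?_
      exact mul_left_cancel (mul_right_cancel (congrArg Subtype.val hab))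
    · rw [← map_mul, ← map_mul, inv_mul_cancel_right]
  let S : (h : G) → h ∈ H → AddMonoid.End (SecA X) × AddMonoid.End (SecB X) := fun h hh =>
    sec X (ρ h) (fun _ => ker_sub_stable hx H hHx hh) (fun _ => range_normOp_stable hx H hHx hh)
      (fun _ => ker_normOp_stable hx H hHx hh) (fun _ => range_sub_stable H hHx hh)
  have hSmul : ∀ h (hh : h ∈ H) k (hk : k ∈ H), S (h * k) (mul_mem hh hk) = S h hh * S k hk := by
    intro h hh k hk
    refine Prod.ext ?_ ?_ <;>
    · refine AddMonoidHom.ext fun q => ?_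
      obtain ⟨a, rfl⟩ := Submodule.Quotient.mk_surjective _ q
      refine congrArg Submodule.Quotient.mk (Subtype.ext ?_)
      exact LinearMap.congr_fun (map_mul ρ h k) (a : M)
  have hSone : ∀ h (hh : h ∈ H), h = 1 → S h hh = 1 := by
    intro h hh h1
    subst h1
    refine Prod.ext ?_ ?_ <;>
    · refine AddMonoidHom.ext fun q => ?_
      obtain ⟨a, rfl⟩ := Submodule.Quotient.mk_surjective _ q
      refine congrArg Submodule.Quotient.mk (Subtype.ext ?_)
      exact LinearMap.congr_fun (map_one ρ) (a : M)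
  have hequiv : ∀ π : AddMonoid.End (SecA X) × AddMonoid.End (SecB X),
      (∀ h (hh : h ∈ H), Commute (S h hh) π) → Equivariant H π.1 π.2 := by
    intro π hπ h hh
    constructor
    · intro k k' e1 l l' el el'
      have h1 := DFunLike.congr_fun (congrArg Prod.fst (hπ h hh).eq) (Submodule.Quotient.mk k)
      have hl : Submodule.Quotient.mk l = (S h hh).1 (Submodule.Quotient.mk k) :=
        congrArg Submodule.Quotient.mk (Subtype.ext el)
      have hl' : Submodule.Quotient.mk l' = (S h hh).1 (Submodule.Quotient.mk k') :=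
        congrArg Submodule.Quotient.mk (Subtype.ext el')
      rw [hl, hl', ← e1]
      exact h1.symm
    · intro k k' e1 l l' el el'
      have h1 := DFunLike.congr_fun (congrArg Prod.snd (hπ h hh).eq) (Submodule.Quotient.mk k)
      have hl : Submodule.Quotient.mk l = (S h hh).2 (Submodule.Quotient.mk k) :=
        congrArg Submodule.Quotient.mk (Subtype.ext el)
      have hl' : Submodule.Quotient.mk l' = (S h hh).2 (Submodule.Quotient.mk k') :=
        congrArg Submodule.Quotient.mk (Subtype.ext el')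
      rw [hl, hl', ← e1]
      exact h1.symm
  have hidem' : ∀ π : AddMonoid.End (SecA X) × AddMonoid.End (SecB X),
      (∀ h (hh : h ∈ H), Commute (S h hh) π) → π * π = π → π = 0 ∨ π = 1 := by
    intro π hπ hππ
    rcases equivariant_idem_trivial hx H hHx hH hN hP hidem π.1 π.2 (hequiv π hπ)
        (fun a => DFunLike.congr_fun (congrArg Prod.fst hππ) a)
        (fun a => DFunLike.congr_fun (congrArg Prod.snd hππ) a) with ⟨hA, hB⟩ | ⟨hA, hB⟩
    · exact Or.inl (Prod.ext (AddMonoidHom.ext hA) (AddMonoidHom.ext hB))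
    · exact Or.inr (Prod.ext (AddMonoidHom.ext hA) (AddMonoidHom.ext hB))
  -- the pair given by `e`
  have hEA' : ∀ k ∈ LinearMap.range (normOp p X), e k ∈ LinearMap.range (normOp p X) := by
    rintro k ⟨b, rfl⟩
    exact ⟨e b, by rw [← Module.End.mul_apply, (normOp_commute hXe).eq]; rfl⟩
  have hEB' : ∀ k ∈ LinearMap.range (X - 1), e k ∈ LinearMap.range (X - 1) := by
    rintro k ⟨b, rfl⟩
    exact ⟨e b, by
      rw [← Module.End.mul_apply, (hXe.sub_left (Commute.one_left e)).eq]; rfl⟩
  let πe : AddMonoid.End (SecA X) × AddMonoid.End (SecB X) :=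
    sec X e (fun _ => ker_sub_stable_idem hXe) hEA' (fun _ => ker_normOp_stable_idem hXe) hEB'
  have hπe : ∀ h (hh : h ∈ H), Commute (S h hh) πe := by
    intro h hh
    refine Prod.ext ?_ ?_ <;>
    · refine AddMonoidHom.ext fun q => ?_
      obtain ⟨a, rfl⟩ := Submodule.Quotient.mk_surjective _ q
      refine congrArg Submodule.Quotient.mk (Subtype.ext ?_)
      exact LinearMap.congr_fun (hhe h hh).eq (a : M)
  have hπee : πe * πe = πe := by
    refine Prod.ext ?_ ?_ <;>
    · refine AddMonoidHom.ext fun q => ?_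
      obtain ⟨a, rfl⟩ := Submodule.Quotient.mk_surjective _ q
      refine congrArg Submodule.Quotient.mk (Subtype.ext ?_)
      exact LinearMap.congr_fun he (a : M)
  have hsum : (∑ᶠ v ∈ (V : Set G), LinearMap.trace ℤ_[p] M (ρ (x * v))) =
      (Nat.card V : ℤ_[p]) * LinearMap.trace ℤ_[p] _ (onRange X e hXe) := by
    rw [← trace_idem he X hXe, finsum_mem_eq_toFinset_sum, mul_smul_comm, map_smul, smul_eq_mul,
      ← mul_assoc, ← hc, Units.mul_inv, one_mul, Finset.mul_sum, map_sum]
    rw [Finset.sum_subtype (V : Set G).toFinset (p := (· ∈ V)) (fun v => by simp)]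
    exact Finset.sum_congr rfl fun v _ => by rw [map_mul]
  have hX : X ^ p = 1 := rho_pow_prime hx
  have hX0 := onRange_pow_eq_one hXe hX
  have hVspec : ∀ y ∈ Subgroup.centralizer ({x} : Set G), ∃ v ∈ V, ∃ i : ℕ, y = v * x ^ i := by
    intro y hy
    have hyN : y ∈ Subgroup.normalizer (Subgroup.zpowers x : Set G) := by
      refine Subgroup.mem_normalizer_iff.mpr fun z => ?_
      have hc1 : ∀ n : ℤ, y * x ^ n * y⁻¹ = x ^ n := fun n => by
        rw [(Commute.zpow_right (Subgroup.mem_centralizer_singleton_iff.mp hy) n).eq,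
          mul_inv_cancel_right]
      constructor
      · rintro ⟨n, rfl⟩
        exact ⟨n, (hc1 n).symm⟩
      · rintro ⟨n, hn⟩
        exact ⟨n, mul_left_cancel (mul_right_cancel ((hc1 n).trans hn))⟩
    obtain ⟨h, hh, i, rfl⟩ := hN y hyN
    refine ⟨h, ⟨hh, ?_⟩, i, rfl⟩
    have hxi : x ^ i ∈ Subgroup.centralizer ({x} : Set G) := by
      rw [Subgroup.mem_centralizer_singleton_iff]
      exact (Commute.pow_self x i).eq
    have := mul_mem hy (inv_mem hxi)
    rwa [mul_inv_cancel_right] at this
  rcases hidem' πe hπe hπee with h0 | h1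
  · -- no fixed points on the sections
    have hA1 : cardA (onRange X e hXe) = p ^ 0 := by
      rw [pow_zero]
      refine cardA_onRange_eq_one he hXe fun k hk => ?_
      exact mapSec_zero (hR := hEA') (congrArg Prod.fst h0) hk
    have hB1 : cardB (onRange X e hXe) = p ^ 0 := by
      rw [pow_zero]
      refine cardB_onRange_eq_one he hXe fun k hk => ?_
      exact mapSec_zero (hR := hEB') (congrArg Prod.snd h0) hk
    refine ⟨V, 0, fun y hy => hy.2, hVspec, hV, Or.inl rfl, ?_, fun h => absurd rfl h⟩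
    rw [hsum, trace_eq_sub hX0 hA1 hB1]
    simp
  · -- `V` is trivial on the sections
    have hAe : ∀ k ∈ LinearMap.ker (X - 1), k - e k ∈ LinearMap.range (normOp p X) := by
      intro k hk
      exact mapSec_one (hR := hEA') (congrArg Prod.fst h1) hk
    have hBe : ∀ k ∈ LinearMap.ker (normOp p X), k - e k ∈ LinearMap.range (X - 1) := by
      intro k hk
      exact mapSec_one (hR := hEB') (congrArg Prod.snd h1) hk
    have hX1 : Commute X (1 - e) := (Commute.one_right X).sub_right hXe
    have he1 : (1 - e) * (1 - e) = 1 - e := by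
      rw [sub_mul, one_mul, mul_sub, mul_one, he, sub_self, sub_zero]
    have hz : ∀ v ∈ V, LinearMap.trace ℤ_[p] M (ρ (x * v)) =
        LinearMap.trace ℤ_[p] _ (onRange X e hXe) := by
      intro v hv
      have hve : Commute (ρ v) e := hhe v (hVH hv)
      have hve1 : Commute (ρ v) (1 - e) := (Commute.one_right _).sub_right hve
      have hXv : Commute (ρ v) X := ((hxV v hv).symm).map ρ
      have hvX1 : Commute (ρ v * 1) (1 - e) := by rw [mul_one]; exact hve1
      rw [map_mul, ← trace_idem he X hXe]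
      have hsplit : X * ρ v = X * e + X * ρ v * (1 - e) := by
        rw [mul_sub, mul_one, mul_assoc, hVe v hv]; abel
      rw [show ρ x = X from rfl, hsplit, map_add, add_eq_left,
        trace_idem he1 (X * ρ v) (hX1.mul_left hve1)]
      rw [show onRange (X * ρ v) (1 - e) (hX1.mul_left hve1) =
        onRange X (1 - e) hX1 * onRange (ρ v) (1 - e) hve1 from LinearMap.ext fun _ => Subtype.ext rfl]
      refine trace_eq_zero_of_trivial (onRange_pow_eq_one hX1 hX)
        (cardA_onRange_eq_one he1 hX1 fun k hk => by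
          rw [LinearMap.sub_apply, Module.End.one_apply]; exact hAe k hk)
        (cardB_onRange_eq_one he1 hX1 fun k hk => by
          rw [LinearMap.sub_apply, Module.End.one_apply]; exact hBe k hk)
        (onRange (ρ v) (1 - e) hve1) (m := orderOf v)
        (onRange_pow_eq_one hve1 (by rw [← map_pow, pow_orderOf_eq_one, map_one]))
        (fun h => hV (h.trans (Subgroup.orderOf_dvd_natCard V hv))) ?_
      exact LinearMap.ext fun a => Subtype.ext (LinearMap.congr_fun hXv.eq (a : M))
    -- `H` acts by scalars, so the sections are small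
    have hVS : ∀ v (hv : v ∈ V), S v (hVH hv) = 1 := by
      intro v hv
      have hSe : S v (hVH hv) * πe = πe := by
        refine Prod.ext ?_ ?_ <;>
        · refine AddMonoidHom.ext fun q => ?_
          obtain ⟨a, rfl⟩ := Submodule.Quotient.mk_surjective _ q
          refine congrArg Submodule.Quotient.mk (Subtype.ext ?_)
          exact LinearMap.congr_fun (hVe v hv) (a : M)
      rwa [h1, mul_one] at hSe
    have hScongr : ∀ u w (hu : u ∈ H) (hw : w ∈ H), u = w → S u hu = S w hw := by
      rintro u w hu hw rfl; rfl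
    have hScomm : ∀ h (hh : h ∈ H) k (hk : k ∈ H), Commute (S h hh) (S k hk) := by
      intro h hh k hk
      have hv := hcomm h hh k hk
      have e1 : S (h * k) (mul_mem hh hk) =
          S (h * k * (k * h)⁻¹) (hVH hv) * S (k * h) (mul_mem hk hh) := by
        rw [← hSmul _ (hVH hv) _ (mul_mem hk hh)]
        exact hScongr _ _ (mul_mem hh hk) (mul_mem (hVH hv) (mul_mem hk hh)) (inv_mul_cancel_right _ _).symm
      rw [hVS _ hv, one_mul, hSmul h hh k hk, hSmul k hk h hh] at e1
      exact e1
    have hSpow : ∀ (n : ℕ) h (hh : h ∈ H), S h hh ^ n = S (h ^ n) (pow_mem hh n) := by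
      intro n h hh
      induction n with
      | zero => rw [pow_zero, hSone _ (pow_mem hh 0) (pow_zero h)]
      | succ n ih =>
        rw [pow_succ, ih, ← hSmul _ (pow_mem hh n) _ hh]
        exact hScongr _ _ (mul_mem (pow_mem hh n) hh) (pow_mem hh (n + 1)) (pow_succ h n).symm
    obtain ⟨a, ha, b, hb, hab⟩ : ∃ a, cardA X = p ^ a ∧ ∃ b, cardB X = p ^ b ∧
        a + b ≤ 1 := by
      by_cases hsub : Subsingleton (AddMonoid.End (SecA X) × AddMonoid.End (SecB X))
      · have hA1 : Subsingleton (SecA X) := ⟨fun u w => by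
          have h' := DFunLike.congr_fun (congrArg Prod.fst
            (Subsingleton.elim (0 : AddMonoid.End (SecA X) × AddMonoid.End (SecB X)) 1)) (u - w)
          exact sub_eq_zero.mp h'.symm⟩
        have hB1 : Subsingleton (SecB X) := ⟨fun u w => by
          have h' := DFunLike.congr_fun (congrArg Prod.snd
            (Subsingleton.elim (0 : AddMonoid.End (SecA X) × AddMonoid.End (SecB X)) 1)) (u - w)
          exact sub_eq_zero.mp h'.symm⟩
        exact ⟨0, by rw [← card_secA, Nat.card_unique, pow_zero], 0,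
          by rw [← card_secB, Nat.card_unique, pow_zero], zero_le_one⟩
      rw [not_subsingleton_iff_nontrivial] at hsub
      have hp0 : (p : AddMonoid.End (SecA X) × AddMonoid.End (SecB X)) = 0 := by
        refine Prod.ext (AddMonoidHom.ext fun u => ?_) (AddMonoidHom.ext fun u => ?_)
        · exact smul_secA X u
        · exact smul_secB X u
      have hchar : CharP (AddMonoid.End (SecA X) × AddMonoid.End (SecB X)) p :=
        (CharP.charP_iff_prime_eq_zero hp).mpr hp0
      let _ : Algebra (ZMod p) (AddMonoid.End (SecA X) × AddMonoid.End (SecB X)) := ZMod.algebra _ p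
      have hscalar : ∀ h (hh : h ∈ H), ∀ π, Commute (S h hh) π := by
        intro h hh π
        obtain ⟨z, hz⟩ := mem_range_of_idem_trivial (S h hh) (by
          rw [hSpow _ h hh]
          obtain ⟨d, hd⟩ := hHx h hh
          exact hVS _ ⟨pow_mem hh _, pow_mem_centralizer hx hd⟩) (fun q hq => by
          refine hidem' _ (fun k hk => ?_) hq
          clear hq
          induction q using Polynomial.induction_on' with
          | add q r hq1 hr1 => rw [map_add]; exact hq1.add_right hr1
          | monomial n z =>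
            rw [Polynomial.aeval_monomial]
            exact ((Algebra.commute_algebraMap_right z _).mul_right ((hScomm k hk h hh).pow_right n)))
        rw [hz]
        exact Algebra.commute_algebraMap_left z π
      have hAB : ∀ π : AddMonoid.End (SecA X) × AddMonoid.End (SecB X), π * π = π → π = 0 ∨ π = 1 :=
        fun π hπ => hidem' π (fun h hh => hscalar h hh π) hπ
      rcases hAB (1, 0) (Prod.ext (mul_one _) (mul_zero _)) with h10 | h10
      · -- the first section is trivial
        have hA1 : Subsingleton (SecA X) := ⟨fun u w => by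
          have h' := DFunLike.congr_fun (congrArg Prod.fst h10) (u - w)
          exact sub_eq_zero.mp h'⟩
        refine ⟨0, by rw [← card_secA, Nat.card_unique, pow_zero], ?_⟩
        rcases card_eq_one_or_prime (smul_secB X) (fun f hf => by
          rcases hAB (0, f) (Prod.ext (mul_zero _) (AddMonoidHom.ext hf)) with h' | h'
          · exact Or.inl fun u => DFunLike.congr_fun (congrArg Prod.snd h') u
          · exact Or.inr fun u => DFunLike.congr_fun (congrArg Prod.snd h') u) with hc1 | hc1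
        · exact ⟨0, by rw [← card_secB, hc1, pow_zero], zero_le_one⟩
        · exact ⟨1, by rw [← card_secB, hc1, pow_one], le_rfl⟩
      · -- the second section is trivial
        have hB1 : Subsingleton (SecB X) := ⟨fun u w => by
          have h' := DFunLike.congr_fun (congrArg Prod.snd h10) (u - w)
          exact sub_eq_zero.mp h'.symm⟩
        rcases card_eq_one_or_prime (smul_secA X) (fun f hf => by
          rcases hAB (f, 0) (Prod.ext (AddMonoidHom.ext hf) (mul_zero _)) with h' | h'
          · exact Or.inl fun u => DFunLike.congr_fun (congrArg Prod.fst h') u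
          · exact Or.inr fun u => DFunLike.congr_fun (congrArg Prod.fst h') u) with hc1 | hc1
        · exact ⟨0, by rw [← card_secA, hc1, pow_zero], 0,
            by rw [← card_secB, Nat.card_unique, pow_zero], zero_le_one⟩
        · exact ⟨1, by rw [← card_secA, hc1, pow_one], 0,
            by rw [← card_secB, Nat.card_unique, pow_zero], le_rfl⟩
    have htr : LinearMap.trace ℤ_[p] _ (onRange X e hXe) = (a : ℤ_[p]) - b :=
      trace_eq_sub hX0 (by rw [cardA_onRange_eq he hXe hAe, ha])
        (by rw [cardB_onRange_eq he hXe hBe, hb])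
    refine ⟨V, (a : ℤ) - b, fun y hy => hy.2, hVspec, hV, by omega, ?_, fun _ v hv => ?_⟩
    · rw [hsum, htr]; push_cast; rfl
    · rw [hz v hv, htr]; push_cast; rfl

end Cfsg.Agent.Lib.FirstPower.Core
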