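import Mathlib.NumberTheory.Padics.RingHoms
import Mathlib.NumberTheory.Padics.ProperSpace
import Mathlib.LinearAlgebra.Matrix.ToLin
import Mathlib.Topology.Instances.Matrix
import Mathlib.LinearAlgebra.FreeModule.Finite.Basic
import Mathlib.Tactic.NoncommRing

/-!
# Lifting idempotents in endomorphism rings of `ℤ_[p]`-lattices
-/

namespace Cfsg.Agent.Lib.FirstPower.Idem

variable {p : ℕ} [Fact p.Prime]

theorem eq_zero_of_forall_dvd {x : ℤ_[p]} (h : ∀ n : ℕ, (p : ℤ_[p]) ^ n ∣ x) : x = 0 := by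
  by_contra hx
  have := (PadicInt.mem_span_pow_iff_le_valuation x hx (x.valuation + 1)).mp
    (Ideal.mem_span_singleton.mpr (h _))
  omega

variable {ι : Type*} [Fintype ι] [DecidableEq ι]

theorem step (a e c : Matrix ι ι ℤ_[p]) {n : ℕ} (hn : 1 ≤ n)
    (hc : e * e - e = (p : ℤ_[p]) ^ n • c) (ha : ∃ d, e - a = (p : ℤ_[p]) • d) :
    (∃ c', (3 • (e * e) - 2 • (e * e * e)) * (3 • (e * e) - 2 • (e * e * e)) -
      (3 • (e * e) - 2 • (e * e * e)) = (p : ℤ_[p]) ^ (n + 1) • c') ∧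
    ∃ d', 3 • (e * e) - 2 • (e * e * e) - a = (p : ℤ_[p]) • d' := by
  obtain ⟨d, hd⟩ := ha
  obtain ⟨k, rfl⟩ : ∃ k, n = k + 1 := ⟨n - 1, by omega⟩
  have h1 : (3 • (e * e) - 2 • (e * e * e)) * (3 • (e * e) - 2 • (e * e * e)) -
      (3 • (e * e) - 2 • (e * e * e)) = (e * e - e) * (e * e - e) * (4 • (e * e - e) - 3) := by
    noncomm_ring
  have h2 : 3 • (e * e) - 2 • (e * e * e) - a = (e * e - e) * (1 - 2 • e) + (e - a) := by
    noncomm_ring
  refine ⟨⟨(p : ℤ_[p]) ^ k • (c * c * (4 • (e * e - e) - 3)), ?_⟩,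
    ⟨(p : ℤ_[p]) ^ k • (c * (1 - 2 • e)) + d, ?_⟩⟩
  · rw [h1, hc, smul_smul, ← pow_add]
    simp only [smul_mul_assoc, mul_smul_comm, smul_smul, ← pow_add]
    congr 2
    omega
  · rw [h2, hc, hd, smul_add, smul_smul, smul_mul_assoc, ← pow_succ']

/-- An element of a matrix algebra that is idempotent modulo `p` lifts to an idempotent. -/
theorem exists_lift (S : Set (Matrix ι ι ℤ_[p])) (a : Matrix ι ι ℤ_[p])
    (hS : ∀ s ∈ S, Commute s a) (ha : ∃ c, a * a - a = (p : ℤ_[p]) • c) :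
    ∃ e, e * e = e ∧ (∀ s ∈ S, Commute s e) ∧ ∃ d, e - a = (p : ℤ_[p]) • d := by
  have : CompactSpace (Matrix ι ι ℤ_[p]) := inferInstanceAs (CompactSpace (ι → ι → ℤ_[p]))
  let C : ℕ → Set (Matrix ι ι ℤ_[p]) := fun n =>
    {e | ∀ s ∈ S, s * e = e * s} ∩
      ((fun e => e * e - e) ⁻¹' (Set.range fun c => (p : ℤ_[p]) ^ (n + 1) • c)) ∩
      ((fun e => e - a) ⁻¹' (Set.range fun c => (p : ℤ_[p]) • c))
  have hclosed : ∀ n, IsClosed (C n) := by
    intro n
    refine (IsClosed.inter ?_ ?_).inter ?_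
    · rw [show {e : Matrix ι ι ℤ_[p] | ∀ s ∈ S, s * e = e * s} =
        ⋂ s ∈ S, {e | s * e = e * s} by ext; simp]
      exact isClosed_biInter fun s _ => isClosed_eq (by fun_prop) (by fun_prop)
    · exact ((isCompact_range (by fun_prop)).isClosed).preimage (by fun_prop)
    · exact ((isCompact_range (by fun_prop)).isClosed).preimage (by fun_prop)
  have hne : ∀ n, (C n).Nonempty := by
    intro n
    induction n with
    | zero =>
      obtain ⟨c, hc⟩ := ha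
      exact ⟨a, ⟨fun s hs => hS s hs, c, by simp [hc]⟩, 0, by simp⟩
    | succ n ih =>
      obtain ⟨e, ⟨he, c, hc⟩, d, hd⟩ := ih
      obtain ⟨⟨c', hc'⟩, d', hd'⟩ := step a e c (by omega) hc.symm ⟨d, hd.symm⟩
      refine ⟨_, ⟨fun s hs => ?_, c', hc'.symm⟩, d', hd'.symm⟩
      have hse : Commute s e := he s hs
      exact (((hse.mul_right hse).smul_right 3).sub_right
        (((hse.mul_right hse).mul_right hse).smul_right 2)).eq
  have hmono : ∀ n, C (n + 1) ⊆ C n := by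
    rintro n e ⟨⟨he, c, hc⟩, hd⟩
    refine ⟨⟨he, (p : ℤ_[p]) • c, ?_⟩, hd⟩
    show (p : ℤ_[p]) ^ (n + 1) • ((p : ℤ_[p]) • c) = e * e - e
    rw [smul_smul, ← pow_succ]
    exact hc
  obtain ⟨e, he⟩ := IsCompact.nonempty_iInter_of_sequence_nonempty_isCompact_isClosed C hmono hne
    (hclosed 0).isCompact hclosed
  rw [Set.mem_iInter] at he
  obtain ⟨⟨he1, -⟩, d, hd⟩ := he 0
  refine ⟨e, sub_eq_zero.mp ?_, he1, d, hd.symm⟩
  ext i j
  refine eq_zero_of_forall_dvd fun n => ?_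
  obtain ⟨⟨-, c, hc⟩, -⟩ := he n
  refine (pow_dvd_pow (p : ℤ_[p]) n.le_succ).trans ⟨c i j, ?_⟩
  have := congrFun (congrFun hc i) j
  simpa using this.symm

variable {M : Type*} [AddCommGroup M] [Module ℤ_[p] M] [Module.Free ℤ_[p] M] [Module.Finite ℤ_[p] M]

/-- An endomorphism that is idempotent modulo `p` lifts to an idempotent with the same commutants. -/
theorem exists_lift_end (S : Set (Module.End ℤ_[p] M)) (a : Module.End ℤ_[p] M)
    (hS : ∀ s ∈ S, Commute s a) (ha : ∃ c, a * a - a = (p : ℤ_[p]) • c) :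
    ∃ e, e * e = e ∧ (∀ s ∈ S, Commute s e) ∧
      ∃ d : Module.End ℤ_[p] M, e - a = (p : ℤ_[p]) • d := by
  classical
  let b := Module.Free.chooseBasis ℤ_[p] M
  let Φ := LinearMap.toMatrixAlgEquiv b
  obtain ⟨c, hc⟩ := ha
  obtain ⟨e, he, hcomm, d, hd⟩ := exists_lift (Φ '' S) (Φ a)
    (by rintro _ ⟨s, hs, rfl⟩; exact (hS s hs).map Φ)
    ⟨Φ c, by rw [← map_mul, ← map_sub, hc, map_smul]⟩
  refine ⟨Φ.symm e, by rw [← map_mul, he], fun s hs => ?_, Φ.symm d, ?_⟩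
  · have := (hcomm _ ⟨s, hs, rfl⟩).map Φ.symm
    rwa [AlgEquiv.symm_apply_apply] at this
  · rw [← Φ.symm_apply_apply a, ← map_sub, hd, map_smul]

end Cfsg.Agent.Lib.FirstPower.Idem
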