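import Cfsg.Agent.Lib.FirstPower.Lattice
import Cfsg.Agent.Lib.FirstPower.Idem
import Mathlib.RepresentationTheory.Basic
import Mathlib.Algebra.CharP.Algebra
import Mathlib.FieldTheory.Finite.Basic

/-!
# The two sections of an indecomposable lattice for a Sylow subgroup of order `p`

If a lattice of `G` has no nontrivial idempotent endomorphism, then neither have its sections with
respect to a self-normalising-modulo-`p'` subgroup of order `p`.
-/

namespace Cfsg.Agent.Lib.FirstPower.Green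

open Lattice Module

variable {p : ℕ} [Fact p.Prime]

/-! ## Groups of exponent `p` -/

theorem exists_retraction_zmod {A B : Type*} [AddCommGroup A] [AddCommGroup B] [Module (ZMod p) A]
    [Module (ZMod p) B] (f : A →+ B) (hf : Function.Injective f) :
    ∃ g : B →+ A, ∀ a, g (f a) = a := by
  obtain ⟨g, hg⟩ := LinearMap.exists_leftInverse_of_injective (f.toZModLinearMap p)
    (LinearMap.ker_eq_bot.mpr hf)
  exact ⟨g.toAddMonoidHom, fun a => LinearMap.congr_fun hg a⟩

/-- Injections of groups of exponent `p` have retractions. -/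
theorem exists_retraction {A B : Type*} [AddCommGroup A] [AddCommGroup B]
    (hA : ∀ a : A, p • a = 0) (hB : ∀ b : B, p • b = 0) (f : A →+ B) (hf : Function.Injective f) :
    ∃ g : B →+ A, ∀ a, g (f a) = a :=
  @exists_retraction_zmod p _ A B _ _ (AddCommGroup.zmodModule hA) (AddCommGroup.zmodModule hB) f hf

/-- A group of exponent `p` whose idempotent endomorphisms are trivial is small. -/
theorem card_eq_one_or_prime {Q : Type*} [AddCommGroup Q] (hQ : ∀ x : Q, p • x = 0)
    (h : ∀ e : Q →+ Q, (∀ x, e (e x) = e x) → (∀ x, e x = 0) ∨ ∀ x, e x = x) :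
    Nat.card Q = 1 ∨ Nat.card Q = p := by
  by_cases hs : Subsingleton Q
  · exact Or.inl (Nat.card_unique)
  · rw [not_subsingleton_iff_nontrivial] at hs
    obtain ⟨y, hy⟩ := exists_ne (0 : Q)
    let f : ZMod p →+ Q := ZMod.lift p ⟨zmultiplesHom Q y, by simpa using hQ y⟩
    have hf1 : f 1 = y := by
      rw [show (1 : ZMod p) = ((1 : ℤ) : ZMod p) by simp, ZMod.lift_coe]
      simp
    have hf : Function.Injective f := by
      rw [injective_iff_map_eq_zero]
      intro a ha
      by_contra hne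
      apply hy
      have h1 : ((a⁻¹).val • a : ZMod p) = 1 := by
        rw [nsmul_eq_mul, ZMod.natCast_zmod_val, inv_mul_cancel₀ hne]
      rw [← hf1, ← h1, map_nsmul, ha, smul_zero]
    obtain ⟨g, hg⟩ := exists_retraction (fun a => by simp) hQ f hf
    rcases h (f.comp g) (fun x => by simp [hg]) with h0 | h1
    · exact absurd (by simpa [← hf1, hg] using h0 y) hy
    · refine Or.inr ?_
      rw [← Nat.card_eq_of_bijective f ⟨hf, fun x => ⟨g x, h1 x⟩⟩, Nat.card_zmod]

/-- An element of multiplicative order dividing `p - 1` in an algebra over `ZMod p` is a scalar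
when it generates no nontrivial idempotent. -/
theorem mem_range_of_idem_trivial {R : Type*} [Ring R] [Algebra (ZMod p) R] [Nontrivial R] (t : R)
    (ht : t ^ (p - 1) = 1)
    (h : ∀ q : Polynomial (ZMod p),
      Polynomial.aeval t q * Polynomial.aeval t q = Polynomial.aeval t q →
      Polynomial.aeval t q = 0 ∨ Polynomial.aeval t q = 1) :
    ∃ c : ZMod p, t = algebraMap _ R c := by
  have hp : p.Prime := Fact.out
  have hne : NeZero p := ⟨hp.ne_zero⟩
  have hchar : CharP R p := charP_of_injective_algebraMap (RingHom.injective (algebraMap (ZMod p) R)) p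
  have htp : t ^ p = t := by
    conv_lhs => rw [← Nat.sub_add_cancel hp.one_le, pow_succ, ht, one_mul]
  by_contra hc
  push Not at hc
  have hunit : ∀ l : ZMod p, IsUnit (t - algebraMap _ R l) := by
    intro l
    have hfix : (t - algebraMap _ R l) ^ p = t - algebraMap _ R l := by
      rw [sub_pow_char_of_commute (p := p) ((Algebra.commutes l t).symm), htp, ← map_pow,
        ZMod.pow_card]
    have hq : Polynomial.aeval t (1 - (Polynomial.X - Polynomial.C l) ^ (p - 1)) =
        1 - (t - algebraMap _ R l) ^ (p - 1) := by simp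
    have hidem : (t - algebraMap _ R l) ^ (p - 1) * (t - algebraMap _ R l) ^ (p - 1) =
        (t - algebraMap _ R l) ^ (p - 1) := by
      obtain ⟨k, hk⟩ : ∃ k, p = k + 2 := ⟨p - 2, by have := hp.two_le; omega⟩
      rw [← pow_add, show p - 1 + (p - 1) = p + k by omega, pow_add, hfix, ← pow_succ',
        show k + 1 = p - 1 by omega]
    rcases h _ (by rw [hq]; simp [mul_sub, sub_mul, hidem]) with h0 | h1
    · rw [hq, sub_eq_zero] at h0
      exact ⟨⟨_, _, (pow_succ' (t - algebraMap _ R l) (p - 2)).symm.trans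
        (by rw [show p - 2 + 1 = p - 1 by have := hp.two_le; omega, ← h0]),
        (pow_succ (t - algebraMap _ R l) (p - 2)).symm.trans
        (by rw [show p - 2 + 1 = p - 1 by have := hp.two_le; omega, ← h0])⟩, rfl⟩
    · rw [hq, sub_eq_self] at h1
      refine absurd (sub_eq_zero.mp ?_) (hc l)
      calc t - algebraMap _ R l = (t - algebraMap _ R l) ^ p := hfix.symm
        _ = (t - algebraMap _ R l) ^ (p - 1) * (t - algebraMap _ R l) := by
            rw [← pow_succ, Nat.sub_add_cancel hp.one_le]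
        _ = 0 := by rw [h1, zero_mul]
  have hcard : Fintype.card (ZMod p) = p := ZMod.card p
  have hpoly : ∏ l : ZMod p, (Polynomial.X - Polynomial.C l) = Polynomial.X ^ p - Polynomial.X := by
    have hdeg : (Polynomial.X ^ p - Polynomial.X : Polynomial (ZMod p)).natDegree = p :=
      FiniteField.X_pow_card_sub_X_natDegree_eq _ hp.one_lt
    have hroots : (Polynomial.X ^ p - Polynomial.X : Polynomial (ZMod p)).roots = Finset.univ.val := by
      have h := FiniteField.roots_X_pow_card_sub_X (ZMod p)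
      simp only [hcard] at h
      exact h
    have hmon : (Polynomial.X ^ p - Polynomial.X : Polynomial (ZMod p)).Monic :=
      Polynomial.monic_X_pow_sub (by rw [Polynomial.degree_X]; exact_mod_cast hp.one_lt)
    have h := Polynomial.prod_multiset_X_sub_C_of_monic_of_roots_card_eq hmon (by
      rw [hroots, hdeg, Finset.card_val, Finset.card_univ, hcard])
    rw [hroots] at h
    exact h
  have h0 : Polynomial.aeval t (∏ l : ZMod p, (Polynomial.X - Polynomial.C l)) = 0 := by
    rw [hpoly]; simp [htp]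
  have hu : IsUnit (Polynomial.aeval t (∏ l : ZMod p, (Polynomial.X - Polynomial.C l))) := by
    refine Finset.prod_induction _ (fun q => IsUnit (Polynomial.aeval t q)) ?_ ?_ ?_
    · intro a b ha hb; rw [map_mul]; exact ha.mul hb
    · simp
    · intro l _; simpa using hunit l
  rw [h0, isUnit_zero_iff] at hu
  exact zero_ne_one hu

/-! ## Sections -/

variable {M : Type*} [AddCommGroup M] [Module ℤ_[p] M]

/-- The first section. -/
abbrev SecA (X : Module.End ℤ_[p] M) : Type _ :=
  LinearMap.ker (X - 1) ⧸ (LinearMap.range (normOp p X)).comap (LinearMap.ker (X - 1)).subtype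

/-- The second section. -/
abbrev SecB (X : Module.End ℤ_[p] M) : Type _ :=
  LinearMap.ker (normOp p X) ⧸ (LinearMap.range (X - 1)).comap (LinearMap.ker (normOp p X)).subtype

theorem card_secA (X : Module.End ℤ_[p] M) : Nat.card (SecA X) = cardA X := rfl

theorem card_secB (X : Module.End ℤ_[p] M) : Nat.card (SecB X) = cardB X := rfl

theorem smul_secA (X : Module.End ℤ_[p] M) (a : SecA X) : p • a = 0 := by
  obtain ⟨k, rfl⟩ := Submodule.Quotient.mk_surjective _ a
  rw [← Submodule.Quotient.mk_smul, Submodule.Quotient.mk_eq_zero]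
  show ((p • k : LinearMap.ker (X - 1)) : M) ∈ LinearMap.range (normOp p X)
  rw [Submodule.coe_smul_of_tower, ← Nat.cast_smul_eq_nsmul ℤ_[p]]
  exact smul_mem_range_normOp k.2

theorem smul_secB (X : Module.End ℤ_[p] M) (a : SecB X) : p • a = 0 := by
  obtain ⟨k, rfl⟩ := Submodule.Quotient.mk_surjective _ a
  rw [← Submodule.Quotient.mk_smul, Submodule.Quotient.mk_eq_zero]
  show ((p • k : LinearMap.ker (normOp p X)) : M) ∈ LinearMap.range (X - 1)
  rw [Submodule.coe_smul_of_tower, ← Nat.cast_smul_eq_nsmul ℤ_[p]]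
  exact smul_mem_range_sub k.2

/-- Additive maps between `ℤ_[p]`-modules killed by `p` are linear. -/
theorem map_padic_smul {A B : Type*} [AddCommGroup A] [Module ℤ_[p] A] [AddCommGroup B]
    [Module ℤ_[p] B] (hA : ∀ a : A, p • a = 0) (hB : ∀ b : B, p • b = 0) (f : A →+ B)
    (c : ℤ_[p]) (a : A) : f (c • a) = c • f a := by
  obtain ⟨n, d, rfl⟩ : ∃ (n : ℕ) (d : ℤ_[p]), c = n + (p : ℤ_[p]) * d := by
    have hmem : c - ((PadicInt.toZMod c).val : ℤ_[p]) ∈ RingHom.ker (PadicInt.toZMod (p := p)) := by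
      rw [RingHom.mem_ker, map_sub, map_natCast, ZMod.natCast_zmod_val, sub_self]
    rw [PadicInt.ker_toZMod, PadicInt.maximalIdeal_eq_span_p, Ideal.mem_span_singleton] at hmem
    obtain ⟨d, hd⟩ := hmem
    exact ⟨(PadicInt.toZMod c).val, d, by rw [← hd]; ring⟩
  have hkillA : ((p : ℤ_[p]) * d) • a = 0 := by
    rw [mul_smul, Nat.cast_smul_eq_nsmul, hA]
  have hkillB : ((p : ℤ_[p]) * d) • f a = 0 := by
    rw [mul_smul, Nat.cast_smul_eq_nsmul, hB]
  rw [add_smul, add_smul, hkillA, hkillB, add_zero, add_zero, Nat.cast_smul_eq_nsmul,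
    Nat.cast_smul_eq_nsmul, map_nsmul]

/-! ## Lifting equivariant maps of sections -/

variable {G : Type*} [Group G] [Module.Free ℤ_[p] M] [Module.Finite ℤ_[p] M]
  (ρ : Representation ℤ_[p] G M)

/-- Equivariant maps of `K ⧸ R` are given by equivariant maps `R → K` on the multiples of `p`. -/
theorem exists_equivariant (H : Subgroup G) [Finite H] (hH : ¬ p ∣ Nat.card H)
    (R K : Submodule ℤ_[p] M) (hpK : ∀ k ∈ K, (p : ℤ_[p]) • k ∈ R)
    (hR : ∀ h ∈ H, ∀ r ∈ R, ρ h r ∈ R) (hK : ∀ h ∈ H, ∀ k ∈ K, ρ h k ∈ K)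
    (π : (K ⧸ R.comap K.subtype) →+ (K ⧸ R.comap K.subtype))
    (hπ : ∀ (h : G) (hh : h ∈ H) (k k' : K), π (Submodule.Quotient.mk k) = Submodule.Quotient.mk k' →
      π (Submodule.Quotient.mk ⟨ρ h k, hK h hh k k.2⟩) =
        Submodule.Quotient.mk ⟨ρ h k', hK h hh k' k'.2⟩) :
    ∃ g : R →ₗ[ℤ_[p]] K,
      (∀ (h : G) (hh : h ∈ H) (r : R), (g ⟨ρ h r, hR h hh r r.2⟩ : M) = ρ h (g r)) ∧
      ∀ k : K, Submodule.Quotient.mk (g ⟨(p : ℤ_[p]) • (k : M), hpK k k.2⟩) =
        π (Submodule.Quotient.mk k) := by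
  classical
  have hQ : ∀ a : K ⧸ R.comap K.subtype, p • a = 0 := by
    intro a
    obtain ⟨k, rfl⟩ := Submodule.Quotient.mk_surjective _ a
    rw [← Submodule.Quotient.mk_smul, Submodule.Quotient.mk_eq_zero]
    show ((p • k : K) : M) ∈ R
    rw [Submodule.coe_smul_of_tower, ← Nat.cast_smul_eq_nsmul ℤ_[p]]
    exact hpK k k.2
  let pR : Submodule ℤ_[p] R := LinearMap.range ((p : ℤ_[p]) • LinearMap.id)
  have hY : ∀ y : R ⧸ pR, p • y = 0 := by
    intro y
    obtain ⟨r, rfl⟩ := Submodule.Quotient.mk_surjective _ y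
    rw [← Submodule.Quotient.mk_smul, Submodule.Quotient.mk_eq_zero]
    exact ⟨r, by simp [Nat.cast_smul_eq_nsmul]⟩
  let j : K →ₗ[ℤ_[p]] R :=
    ((p : ℤ_[p]) • K.subtype).codRestrict R fun k => hpK k k.2
  have hker : LinearMap.ker (pR.mkQ ∘ₗ j) = R.comap K.subtype := by
    ext k
    simp only [LinearMap.mem_ker, LinearMap.comp_apply, Submodule.mkQ_apply,
      Submodule.Quotient.mk_eq_zero, Submodule.mem_comap, Submodule.subtype_apply]
    constructor
    · rintro ⟨r, hr⟩
      have := congrArg Subtype.val hr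
      rw [show (k : M) = r from (smul_cancel (p := p) this).symm]
      exact r.2
    · exact fun hk => ⟨⟨k, hk⟩, rfl⟩
  let ι : (K ⧸ R.comap K.subtype) →ₗ[ℤ_[p]] R ⧸ pR :=
    Submodule.liftQ _ (pR.mkQ ∘ₗ j) hker.ge
  have hι : Function.Injective ι := by
    rw [← LinearMap.ker_eq_bot, Submodule.ker_liftQ, hker, ← Submodule.mkQ_map_self]
  obtain ⟨q, hq⟩ := exists_retraction hQ hY ι.toAddMonoidHom hι
  let F : R →ₗ[ℤ_[p]] (K ⧸ R.comap K.subtype) :=
    { toFun := fun r => π (q (pR.mkQ r))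
      map_add' := fun a b => by simp
      map_smul' := fun c a => by
        rw [map_smul]
        exact map_padic_smul hY hQ (π.comp q) c _ }
  obtain ⟨g₀, hg₀⟩ := Module.projective_lifting_property (R.comap K.subtype).mkQ F
    (Submodule.mkQ_surjective _)
  have hg₀' : ∀ k : K, Submodule.Quotient.mk (g₀ (j k)) = π (Submodule.Quotient.mk k) := by
    intro k
    rw [← Submodule.mkQ_apply, ← LinearMap.comp_apply, hg₀]
    show π (q (pR.mkQ (j k))) = _
    rw [show pR.mkQ (j k) = ι (Submodule.Quotient.mk k) from rfl]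
    exact congrArg π (hq (Submodule.Quotient.mk k))
  obtain ⟨c, hc⟩ : IsUnit (Nat.card H : ℤ_[p]) := by
    rw [PadicInt.isUnit_iff]
    refine le_antisymm (PadicInt.norm_le_one _) (not_lt.mp fun h => hH ?_)
    exact Int.natCast_dvd_natCast.mp
      ((PadicInt.norm_int_lt_one_iff_dvd (Nat.card H : ℤ)).mp (by simpa using h))
  have := Fintype.ofFinite H
  let σR : H → (R →ₗ[ℤ_[p]] R) := fun h => (ρ h).restrict (hR h h.2)
  let σK : H → (K →ₗ[ℤ_[p]] K) := fun h => (ρ h).restrict (hK h h.2)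
  let g : R →ₗ[ℤ_[p]] K := (↑c⁻¹ : ℤ_[p]) • ∑ h : H, σK h ∘ₗ g₀ ∘ₗ σR h⁻¹
  refine ⟨g, fun h hh r => ?_, fun k => ?_⟩
  · simp only [g, LinearMap.smul_apply, LinearMap.sum_apply, LinearMap.comp_apply,
      SetLike.val_smul, Submodule.coe_sum, map_smul, map_sum]
    congr 1
    symm
    refine Fintype.sum_equiv (_root_.Equiv.mulLeft (⟨h, hh⟩ : H)) _ _ fun k => ?_
    show ρ h (ρ (k : G) (g₀ (σR k⁻¹ r) : M)) = ρ (h * k : G) (g₀ (σR (⟨h, hh⟩ * k)⁻¹ _) : M)
    rw [map_mul ρ h, Module.End.mul_apply]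
    congr 4
    refine Subtype.ext ?_
    show ρ ((k : G)⁻¹) (r : M) = ρ ((h * (k : G))⁻¹) (ρ h r)
    rw [← Module.End.mul_apply, ← map_mul, mul_inv_rev, inv_mul_cancel_right]
  · have hterm : ∀ h : H, Submodule.Quotient.mk (σK h (g₀ (σR h⁻¹
        ⟨(p : ℤ_[p]) • (k : M), hpK k k.2⟩))) = π (Submodule.Quotient.mk k) := by
      intro h
      have e : σR h⁻¹ ⟨(p : ℤ_[p]) • (k : M), hpK k k.2⟩ = j (σK h⁻¹ k) :=
        Subtype.ext ((ρ ((h : G)⁻¹)).map_smul _ (k : M))
      rw [e]
      have := hπ h h.2 (σK h⁻¹ k) (g₀ (j (σK h⁻¹ k))) (hg₀' _).symm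
      refine this.symm.trans ?_
      congr 2
      refine Subtype.ext ?_
      show ρ (h : G) (ρ ((h : G)⁻¹) (k : M)) = k
      rw [← Module.End.mul_apply, ← map_mul, mul_inv_cancel, map_one]
      rfl
    simp only [g, LinearMap.smul_apply, LinearMap.sum_apply, LinearMap.comp_apply,
      Submodule.Quotient.mk_smul]
    rw [← Submodule.mkQ_apply, map_sum]
    simp only [Submodule.mkQ_apply, hterm, Finset.sum_const, Finset.card_univ]
    rw [← Nat.cast_smul_eq_nsmul ℤ_[p], ← Nat.card_eq_fintype_card, smul_smul, ← hc,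
      Units.inv_mul, one_smul]

/-! ## Endomorphisms commuting with the normalizer -/

/-- An action of a cyclic group of order `p` on the right index. -/
theorem sum_pow_conj {h x : G} (hx : orderOf x = p) {c : ℕ} (hc : h * x * h⁻¹ = x ^ c)
    {A : Type*} [AddCommMonoid A] (f : G → A) :
    ∑ j : ZMod p, f (h * x ^ j.val * h⁻¹) = ∑ j : ZMod p, f (x ^ j.val) := by
  have hp : p.Prime := Fact.out
  have hcp : (c : ZMod p) ≠ 0 := by
    intro h0
    obtain ⟨d, rfl⟩ := (ZMod.natCast_eq_zero_iff _ _).mp h0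
    rw [pow_mul, ← hx, pow_orderOf_eq_one, one_pow, conj_eq_one_iff] at hc
    rw [hc, orderOf_one] at hx
    exact hp.one_lt.ne hx
  refine Fintype.sum_bijective (fun j : ZMod p => (c : ZMod p) * j)
    (mulLeft_bijective₀ _ hcp) _ _ fun j => congrArg f ?_
  rw [← conj_pow, hc, ← pow_mul, ZMod.val_mul, ZMod.val_natCast, Nat.mul_mod, Nat.mod_mod,
    ← Nat.mul_mod]
  conv_lhs => rw [← pow_mod_orderOf, hx]

theorem normOp_eq_sum {x : G} :
    normOp p (ρ x) = ∑ j : ZMod p, ρ (x ^ j.val) := by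
  have hp : p.Prime := Fact.out
  rw [normOp]
  refine (Finset.sum_bij (fun (j : ZMod p) _ => j.val) ?_ ?_ ?_ ?_).symm
  · exact fun j _ => Finset.mem_range.mpr (ZMod.val_lt j)
  · exact fun a _ b _ h => ZMod.val_injective p h
  · exact fun n hn => ⟨n, Finset.mem_univ _, ZMod.val_cast_of_lt (Finset.mem_range.mp hn)⟩
  · exact fun j _ => map_pow ρ x _

variable {ρ} {x : G} (hx : orderOf x = p) (H : Subgroup G)
  (hHx : ∀ h ∈ H, ∃ c : ℕ, h * x * h⁻¹ = x ^ c)

include hx in
theorem rho_pow_prime : (ρ x) ^ p = 1 := by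
  rw [← map_pow, show x ^ p = 1 from hx ▸ pow_orderOf_eq_one x, map_one]

include hx hHx in
theorem normOp_comm {h : G} (hh : h ∈ H) :
    ρ h * normOp p (ρ x) = normOp p (ρ x) * ρ h := by
  obtain ⟨c, hc⟩ := hHx h hh
  rw [normOp_eq_sum]
  have := sum_pow_conj hx hc (fun g => ρ g * ρ h)
  simp only [← map_mul, inv_mul_cancel_right] at this
  simp only [Finset.mul_sum, Finset.sum_mul, ← map_mul]
  exact this

include hx hHx in
theorem ker_sub_stable {h : G} (hh : h ∈ H) {m : M} (hm : m ∈ LinearMap.ker (ρ x - 1)) :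
    ρ h m ∈ LinearMap.ker (ρ x - 1) := by
  obtain ⟨c, hc⟩ := hHx h⁻¹ (inv_mem hh)
  rw [inv_inv] at hc
  show (ρ x - 1) (ρ h m) = 0
  have e : ρ x (ρ h m) = ρ h (((ρ x) ^ c) m) := by
    rw [← map_pow, ← Module.End.mul_apply, ← Module.End.mul_apply, ← map_mul, ← map_mul, ← hc]
    congr 2
    group
  rw [LinearMap.sub_apply, e, pow_apply_of_mem_ker_sub hm, Module.End.one_apply, sub_self]

include hx hHx in
theorem ker_normOp_stable {h : G} (hh : h ∈ H) {m : M} (hm : m ∈ LinearMap.ker (normOp p (ρ x))) :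
    ρ h m ∈ LinearMap.ker (normOp p (ρ x)) := by
  rw [LinearMap.mem_ker, ← Module.End.mul_apply, ← normOp_comm hx H hHx hh, Module.End.mul_apply,
    LinearMap.mem_ker.mp hm, map_zero]

include hx hHx in
theorem range_normOp_stable {h : G} (hh : h ∈ H) {m : M}
    (hm : m ∈ LinearMap.range (normOp p (ρ x))) : ρ h m ∈ LinearMap.range (normOp p (ρ x)) := by
  obtain ⟨a, rfl⟩ := hm
  exact ⟨ρ h a, by rw [← Module.End.mul_apply, ← normOp_comm hx H hHx hh]; rfl⟩

include hHx in
theorem range_sub_stable {h : G} (hh : h ∈ H) {m : M}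
    (hm : m ∈ LinearMap.range (ρ x - 1)) : ρ h m ∈ LinearMap.range (ρ x - 1) := by
  obtain ⟨a, rfl⟩ := hm
  obtain ⟨c, hc⟩ := hHx h hh
  refine ⟨∑ i ∈ Finset.range c, ((ρ x) ^ i) (ρ h a), ?_⟩
  rw [← LinearMap.sum_apply, ← Module.End.mul_apply, mul_geom_sum, ← map_pow, ← hc,
    LinearMap.sub_apply, ← Module.End.mul_apply, ← map_mul, inv_mul_cancel_right, map_mul,
    Module.End.one_apply, LinearMap.sub_apply, map_sub, Module.End.mul_apply, Module.End.one_apply]

/-- A pair of maps of the sections is equivariant for `H`. -/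
def Equivariant (πA : SecA (ρ x) →+ SecA (ρ x)) (πB : SecB (ρ x) →+ SecB (ρ x)) : Prop :=
  ∀ h ∈ H,
    (∀ k k' : LinearMap.ker (ρ x - 1), πA (Submodule.Quotient.mk k) = Submodule.Quotient.mk k' →
      ∀ l l' : LinearMap.ker (ρ x - 1), (l : M) = ρ h k → (l' : M) = ρ h k' →
        πA (Submodule.Quotient.mk l) = Submodule.Quotient.mk l') ∧
    (∀ k k' : LinearMap.ker (normOp p (ρ x)),
      πB (Submodule.Quotient.mk k) = Submodule.Quotient.mk k' →
      ∀ l l' : LinearMap.ker (normOp p (ρ x)), (l : M) = ρ h k → (l' : M) = ρ h k' →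
        πB (Submodule.Quotient.mk l) = Submodule.Quotient.mk l')

/-- An endomorphism induces a pair of maps of the sections. -/
def Induces (X φ : Module.End ℤ_[p] M) (πA : SecA X →+ SecA X) (πB : SecB X →+ SecB X) : Prop :=
  (∀ k : LinearMap.ker (X - 1), ∃ k' : LinearMap.ker (X - 1),
    φ k = k' ∧ πA (Submodule.Quotient.mk k) = Submodule.Quotient.mk k') ∧
  (∀ k : LinearMap.ker (normOp p X), ∃ k' : LinearMap.ker (normOp p X),
    φ k = k' ∧ πB (Submodule.Quotient.mk k) = Submodule.Quotient.mk k')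

omit [Module.Free ℤ_[p] M] [Module.Finite ℤ_[p] M] in
theorem sub_pow_mem (X : Module.End ℤ_[p] M) (n : ℕ) (m : M) :
    m - (X ^ n) m ∈ LinearMap.range (X - 1) := by
  refine ⟨-(∑ i ∈ Finset.range n, (X ^ i) m), ?_⟩
  rw [map_neg, ← LinearMap.sum_apply, ← Module.End.mul_apply, mul_geom_sum,
    LinearMap.sub_apply, Module.End.one_apply, neg_sub]

include hx hHx in
/-- Equivariant pairs are induced by endomorphisms commuting with the normalizer. -/
theorem exists_induces [Finite H] (hH : ¬ p ∣ Nat.card H)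
    (πA : SecA (ρ x) →+ SecA (ρ x)) (πB : SecB (ρ x) →+ SecB (ρ x))
    (hπ : Equivariant H πA πB) :
    ∃ φ : Module.End ℤ_[p] M, Commute (ρ x) φ ∧ (∀ h ∈ H, Commute (ρ h) φ) ∧
      Induces (ρ x) φ πA πB := by
  classical
  have hp : p.Prime := Fact.out
  have hX : (ρ x) ^ p = 1 := rho_pow_prime hx
  obtain ⟨gA, hgAh, hgA⟩ := exists_equivariant ρ H hH (LinearMap.range (normOp p (ρ x)))
    (LinearMap.ker ((ρ x) - 1)) (fun k hk => smul_mem_range_normOp hk)
    (fun h hh r hr => range_normOp_stable hx H hHx hh hr)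
    (fun h hh k hk => ker_sub_stable hx H hHx hh hk) πA
    (fun h hh k k' e => (hπ h hh).1 k k' e _ _ rfl rfl)
  obtain ⟨gB, hgBh, hgB⟩ := exists_equivariant ρ H hH (LinearMap.range ((ρ x) - 1))
    (LinearMap.ker (normOp p (ρ x))) (fun k hk => smul_mem_range_sub hk)
    (fun h hh r hr => range_sub_stable H hHx hh hr)
    (fun h hh k hk => ker_normOp_stable hx H hHx hh hk) πB
    (fun h hh k k' e => (hπ h hh).2 k k' e _ _ rfl rfl)
  let T' : M →ₗ[ℤ_[p]] LinearMap.range (normOp p (ρ x)) := (normOp p (ρ x)).rangeRestrict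
  let φA : Module.End ℤ_[p] M := (LinearMap.ker ((ρ x) - 1)).subtype ∘ₗ gA ∘ₗ T'
  let f : G → Module.End ℤ_[p] M := fun y =>
    if hy : ∀ m, (1 - ρ y⁻¹) m ∈ LinearMap.range ((ρ x) - 1) then
      ρ y ∘ₗ (LinearMap.ker (normOp p (ρ x))).subtype ∘ₗ gB ∘ₗ
        (1 - ρ y⁻¹).codRestrict (LinearMap.range ((ρ x) - 1)) hy
    else 0
  let φB : Module.End ℤ_[p] M := ∑ j : ZMod p, f (x ^ j.val)
  have hinv : ∀ j : ZMod p, (x ^ j.val)⁻¹ = x ^ (-j).val := by
    intro j
    rw [inv_eq_iff_mul_eq_one, ← pow_add, ← orderOf_dvd_iff_pow_eq_one, hx,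
      ← ZMod.natCast_eq_zero_iff, Nat.cast_add, ZMod.natCast_zmod_val, ZMod.natCast_zmod_val,
      add_neg_cancel]
  have hmem : ∀ (j : ZMod p) (m : M), (1 - ρ (x ^ j.val)⁻¹) m ∈ LinearMap.range ((ρ x) - 1) := by
    intro j m
    rw [hinv, map_pow, LinearMap.sub_apply, Module.End.one_apply]
    exact sub_pow_mem _ _ _
  have hf : ∀ (j : ZMod p) (m : M), f (x ^ j.val) m =
      ρ (x ^ j.val) (gB ⟨(1 - ρ (x ^ j.val)⁻¹) m, hmem j m⟩ : M) := by
    intro j m
    simp only [f, dif_pos (hmem j)]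
    rfl
  have hφB : ∀ m, φB m = ∑ j : ZMod p,
      ρ (x ^ j.val) (gB ⟨(1 - ρ (x ^ j.val)⁻¹) m, hmem j m⟩ : M) := fun m => by
    simp only [φB, LinearMap.sum_apply, hf]
  have hxA : Commute (ρ x) φA := by
    refine LinearMap.ext fun m => ?_
    show (ρ x) (gA (T' m) : M) = (gA (T' ((ρ x) m)) : M)
    rw [apply_of_mem_ker_sub (gA (T' m)).2]
    have : T' ((ρ x) m) = T' m := by
      refine Subtype.ext ?_
      show normOp p (ρ x) ((ρ x) m) = normOp p (ρ x) m
      rw [← sub_eq_zero, ← map_sub]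
      have h0 := congrArg (fun F : Module.End ℤ_[p] M => F m) (normOp_mul_sub hX)
      simpa using h0
    rw [this]
  have hxB : Commute (ρ x) φB := by
    refine LinearMap.ext fun m => ?_
    show (ρ x) (φB m) = φB ((ρ x) m)
    rw [hφB, hφB]
    symm
    rw [← Equiv.sum_comp (Equiv.addRight (1 : ZMod p))]
    have hstep : ∀ i : ZMod p, x ^ (i + 1).val = x * x ^ i.val := by
      intro i
      rw [← pow_succ', pow_eq_pow_iff_modEq, hx, ← ZMod.natCast_eq_natCast_iff]
      simp
    have hterm : ∀ i : ZMod p,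
        ρ (x ^ (i + 1).val) (gB ⟨(1 - ρ (x ^ (i + 1).val)⁻¹) ((ρ x) m), hmem _ _⟩ : M) =
          (ρ x) (ρ (x ^ i.val) (gB ⟨(1 - ρ (x ^ i.val)⁻¹) m, hmem _ _⟩ : M)) +
          (ρ x) (ρ (x ^ i.val) (gB ⟨((ρ x) - 1) m, ⟨m, rfl⟩⟩ : M)) := by
      intro i
      have e1 : ∀ a : M, ρ (x ^ (i + 1).val) a = ρ x (ρ (x ^ i.val) a) := fun a => by
        rw [hstep, map_mul, Module.End.mul_apply]
      rw [← map_add, ← map_add, e1]
      congr 2
      rw [← Submodule.coe_add, ← map_add]
      congr 2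
      refine Subtype.ext ?_
      show (1 - ρ (x ^ (i + 1).val)⁻¹) ((ρ x) m) = (1 - ρ (x ^ i.val)⁻¹) m + ((ρ x) - 1) m
      rw [hstep]
      simp only [LinearMap.sub_apply, Module.End.one_apply, mul_inv_rev, map_mul,
        Module.End.mul_apply]
      rw [← Module.End.mul_apply (ρ x⁻¹) (ρ x), show ρ x⁻¹ * (ρ x) = 1 by
        rw [← map_mul, inv_mul_cancel, map_one], Module.End.one_apply]
      abel
    simp only [Equiv.coe_addRight, hterm]
    rw [Finset.sum_add_distrib, ← map_sum, ← map_sum, ← LinearMap.sum_apply, ← normOp_eq_sum]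
    rw [show normOp p (ρ x) (gB ⟨((ρ x) - 1) m, ⟨m, rfl⟩⟩ : M) = 0 from
      (gB ⟨((ρ x) - 1) m, ⟨m, rfl⟩⟩).2, map_zero, add_zero]
  have hhA : ∀ h ∈ H, Commute (ρ h) φA := by
    intro h hh
    refine LinearMap.ext fun m => ?_
    show ρ h (gA (T' m) : M) = (gA (T' (ρ h m)) : M)
    rw [← hgAh h hh]
    congr 2
    refine Subtype.ext ?_
    show ρ h (normOp p (ρ x) m) = normOp p (ρ x) (ρ h m)
    rw [← Module.End.mul_apply, normOp_comm hx H hHx hh]
    rfl
  have hhB : ∀ h ∈ H, Commute (ρ h) φB := by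
    intro h hh
    obtain ⟨c, hc⟩ := hHx h hh
    have key : ∀ j : ZMod p, f (h * x ^ j.val * h⁻¹) * ρ h = ρ h * f (x ^ j.val) := by
      intro j
      refine LinearMap.ext fun m => ?_
      rw [Module.End.mul_apply, Module.End.mul_apply, hf]
      have hm' : ∀ a, (1 - ρ (h * x ^ j.val * h⁻¹)⁻¹) a ∈ LinearMap.range ((ρ x) - 1) := by
        intro a
        have := range_sub_stable (ρ := ρ) H hHx hh (hmem j (ρ h⁻¹ a))
        convert this using 1
        simp only [LinearMap.sub_apply, Module.End.one_apply, map_sub]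
        rw [← Module.End.mul_apply, ← map_mul, mul_inv_cancel, map_one, Module.End.one_apply,
          ← Module.End.mul_apply, ← Module.End.mul_apply, ← map_mul, ← map_mul]
        congr 3
        group
      simp only [f, dif_pos hm']
      show ρ (h * x ^ j.val * h⁻¹) (gB ⟨_, _⟩ : M) = _
      rw [show ρ h (ρ (x ^ j.val) (gB ⟨(1 - ρ (x ^ j.val)⁻¹) m, hmem j m⟩ : M)) =
        ρ (h * x ^ j.val * h⁻¹) (ρ h (gB ⟨(1 - ρ (x ^ j.val)⁻¹) m, hmem j m⟩ : M)) by
          rw [← Module.End.mul_apply, ← Module.End.mul_apply, ← map_mul, ← map_mul,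
            inv_mul_cancel_right]]
      rw [← hgBh h hh]
      congr 3
      refine Subtype.ext ?_
      show (1 - ρ (h * x ^ j.val * h⁻¹)⁻¹) (ρ h m) = ρ h ((1 - ρ (x ^ j.val)⁻¹) m)
      simp only [LinearMap.sub_apply, Module.End.one_apply, map_sub]
      rw [← Module.End.mul_apply, ← Module.End.mul_apply, ← map_mul, ← map_mul]
      congr 3
      group
    show ρ h * φB = φB * ρ h
    have h1 : ∑ j : ZMod p, f (h * x ^ j.val * h⁻¹) * ρ h = ∑ j : ZMod p, f (x ^ j.val) * ρ h :=
      sum_pow_conj hx hc (fun y => f y * ρ h)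
    simp only [key] at h1
    rw [Finset.mul_sum, Finset.sum_mul]
    exact h1
  refine ⟨φA + φB, hxA.add_right hxB, fun h hh => (hhA h hh).add_right (hhB h hh), ?_, ?_⟩
  · intro k
    have hB0 : φB k = 0 := by
      rw [hφB]
      refine Finset.sum_eq_zero fun j _ => ?_
      have : (⟨(1 - ρ (x ^ j.val)⁻¹) (k : M), hmem j k⟩ : LinearMap.range ((ρ x) - 1)) = 0 := by
        refine Subtype.ext ?_
        show (1 - ρ (x ^ j.val)⁻¹) (k : M) = 0
        rw [hinv, map_pow, LinearMap.sub_apply, Module.End.one_apply,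
          pow_apply_of_mem_ker_sub k.2, sub_self]
      rw [this, map_zero, ZeroMemClass.coe_zero, map_zero]
    refine ⟨gA ⟨(p : ℤ_[p]) • (k : M), smul_mem_range_normOp k.2⟩, ?_, (hgA k).symm⟩
    rw [LinearMap.add_apply, hB0, add_zero]
    show (gA (T' k) : M) = _
    congr 2
    exact Subtype.ext (normOp_apply_fixed k.2)
  · intro k
    have hA0 : φA k = 0 := by
      show (gA (T' k) : M) = 0
      rw [show T' k = 0 from Subtype.ext (LinearMap.mem_ker.mp k.2), map_zero]
      rfl
    have hBk : ∀ j : ZMod p, ρ (x ^ j.val) (gB ⟨(1 - ρ (x ^ j.val)⁻¹) k, hmem j k⟩ : M) ∈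
        LinearMap.ker (normOp p (ρ x)) := by
      intro j
      have hstab : ∀ (n : ℕ) (a : M), a ∈ LinearMap.ker (normOp p (ρ x)) →
          ((ρ x) ^ n) a ∈ LinearMap.ker (normOp p (ρ x)) := by
        intro n a ha
        induction n with
        | zero => exact ha
        | succ n ih =>
          rw [pow_succ', Module.End.mul_apply]
          have e : ∀ a, (ρ x) a = ((ρ x) - 1) a + a := by simp
          rw [e]
          exact add_mem (range_sub_le hX ⟨_, rfl⟩) ih
      rw [show ρ (x ^ j.val) = (ρ x) ^ j.val from map_pow ρ x _]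
      exact hstab _ _ (gB _).2
    have hsum : φB k ∈ LinearMap.ker (normOp p (ρ x)) := by
      rw [hφB]; exact sum_mem fun j _ => hBk j
    refine ⟨⟨φB k, hsum⟩, by rw [LinearMap.add_apply, hA0, zero_add], ?_⟩
    rw [← hgB k]
    refine (Submodule.Quotient.eq _).mpr ?_
    show (gB ⟨(p : ℤ_[p]) • (k : M), _⟩ : M) - φB k ∈ LinearMap.range ((ρ x) - 1)
    have hsplit : (gB ⟨(p : ℤ_[p]) • (k : M), smul_mem_range_sub k.2⟩ : M) =
        ∑ j : ZMod p, (gB ⟨(1 - ρ (x ^ j.val)⁻¹) k, hmem j k⟩ : M) := by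
      rw [← Submodule.coe_sum, ← map_sum]
      congr 2
      refine Subtype.ext ?_
      rw [Submodule.coe_sum]
      simp only [LinearMap.sub_apply, Module.End.one_apply]
      rw [Finset.sum_sub_distrib, Finset.sum_const, Finset.card_univ, ZMod.card,
        Nat.cast_smul_eq_nsmul, ← LinearMap.sum_apply,
        show ∑ j : ZMod p, ρ (x ^ j.val)⁻¹ = normOp p (ρ x) from by
          rw [normOp_eq_sum]
          exact Fintype.sum_equiv (Equiv.neg _) _ _ fun j => by rw [hinv]; rfl,
        LinearMap.mem_ker.mp k.2, sub_zero]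
    rw [hsplit, hφB, ← Finset.sum_sub_distrib]
    refine sum_mem fun j _ => ?_
    rw [map_pow]
    exact sub_pow_mem _ _ _

include hx in
omit [Module.Free ℤ_[p] M] [Module.Finite ℤ_[p] M] in
/-- A sum over free orbits of `x` of a conjugation-compatible family is a relative trace. -/
theorem exists_trace_of_free {Ω : Type*} [MulAction G Ω] [DecidableEq Ω]
    (F : Ω → Module.End ℤ_[p] M) (hF : ∀ (g : G) (q : Ω), F (g • q) = ρ g * F q * ρ g⁻¹) :
    ∀ s : Finset Ω, (∀ q ∈ s, x • q ∈ s) → (∀ q ∈ s, x • q ≠ q) →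
      ∃ D : Module.End ℤ_[p] M, ∑ q ∈ s, F q = ∑ j : ZMod p, ρ (x ^ j.val) * D * ρ (x ^ j.val)⁻¹ := by
  intro s
  induction s using Finset.strongInduction with
  | _ s ih =>
    intro hinv hfree
    rcases s.eq_empty_or_nonempty with rfl | ⟨q, hq⟩
    · exact ⟨0, by simp⟩
    · have hpow : ∀ (n : ℕ) (r : Ω), r ∈ s → x ^ n • r ∈ s := by
        intro n r hr
        induction n with
        | zero => simpa using hr
        | succ n ihn => rw [pow_succ', mul_smul]; exact hinv _ ihn
      have hxp : x ^ p = 1 := hx ▸ pow_orderOf_eq_one x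
      let o : ZMod p → Ω := fun j => x ^ j.val • q
      have ho : Function.Injective o := by
        intro a b hab
        by_contra hne
        obtain ⟨d, hd⟩ : ∃ d : ℕ, (x ^ (a - b).val) ^ d = x := by
          refine exists_pow_eq_self_of_coprime (x := x) (n := (a - b).val) ?_
          rw [hx]
          refine ((Fact.out : p.Prime).coprime_iff_not_dvd.mpr fun h => hne ?_).symm
          rw [← sub_eq_zero, ← ZMod.natCast_zmod_val (a - b), (ZMod.natCast_eq_zero_iff _ _).mpr h]
        have hfix : x ^ (a - b).val ∈ MulAction.stabilizer G q := by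
          rw [MulAction.mem_stabilizer_iff]
          have : x ^ a.val = x ^ b.val * x ^ (a - b).val := by
            rw [← pow_add, pow_eq_pow_iff_modEq, hx, ← ZMod.natCast_eq_natCast_iff]
            simp
          exact smul_left_cancel (x ^ b.val) (by rw [← mul_smul, ← this]; exact hab)
        have := pow_mem hfix d
        rw [hd, MulAction.mem_stabilizer_iff] at this
        exact hfree q hq this
      let O : Finset Ω := Finset.univ.image o
      have hO : O ⊆ s := by
        intro r hr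
        obtain ⟨j, -, rfl⟩ := Finset.mem_image.mp hr
        exact hpow _ _ hq
      obtain ⟨D, hD⟩ := ih (s \ O) (Finset.sdiff_ssubset hO ⟨o 0, Finset.mem_image_of_mem _ (Finset.mem_univ _)⟩)
        (by
          intro r hr
          rw [Finset.mem_sdiff] at hr ⊢
          refine ⟨hinv r hr.1, fun h => hr.2 ?_⟩
          obtain ⟨j, -, hj⟩ := Finset.mem_image.mp h
          refine Finset.mem_image.mpr ⟨j - 1, Finset.mem_univ _, ?_⟩
          apply smul_left_cancel x
          rw [← hj]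
          show x • x ^ (j - 1).val • q = x ^ j.val • q
          rw [← mul_smul, ← pow_succ']
          congr 1
          rw [pow_eq_pow_iff_modEq, hx, ← ZMod.natCast_eq_natCast_iff]
          simp)
        (fun r hr => hfree r (Finset.mem_sdiff.mp hr).1)
      refine ⟨D + F q, ?_⟩
      rw [← Finset.sum_sdiff hO, hD, Finset.sum_image ho.injOn]
      simp only [o, hF, mul_add, add_mul, Finset.sum_add_distrib]

include hx hHx in
/-- Endomorphisms commuting with the normalizer extend, without changing the sections, to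
endomorphisms commuting with `G`. -/
theorem exists_transfer [Finite G]
    (hN : ∀ g ∈ Subgroup.normalizer (Subgroup.zpowers x : Set G), ∃ h ∈ H, ∃ i : ℕ, g = h * x ^ i)
    (hP : ∀ g : G, g⁻¹ * x * g ∈ Subgroup.normalizer (Subgroup.zpowers x : Set G) →
      g ∈ Subgroup.normalizer (Subgroup.zpowers x : Set G))
    {πA : SecA (ρ x) →+ SecA (ρ x)} {πB : SecB (ρ x) →+ SecB (ρ x)}
    (φ : Module.End ℤ_[p] M) (hφx : Commute (ρ x) φ) (hφH : ∀ h ∈ H, Commute (ρ h) φ)
    (hφ : Induces (ρ x) φ πA πB) :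
    ∃ Φ : Module.End ℤ_[p] M, (∀ g, Commute (ρ g) Φ) ∧ Induces (ρ x) Φ πA πB := by
  classical
  set N := Subgroup.normalizer (Subgroup.zpowers x : Set G)
  have := Fintype.ofFinite (G ⧸ N)
  have hX : (ρ x) ^ p = 1 := rho_pow_prime hx
  have hφN : ∀ n ∈ N, Commute (ρ n) φ := by
    intro n hn
    obtain ⟨h, hh, i, rfl⟩ := hN n hn
    rw [map_mul, map_pow]
    exact (hφH h hh).mul_left (hφx.pow_left i)
  let F : G ⧸ N → Module.End ℤ_[p] M := fun q => ρ q.out * φ * ρ (q.out)⁻¹
  have hFmk : ∀ g : G, F (QuotientGroup.mk g) = ρ g * φ * ρ g⁻¹ := by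
    intro g
    obtain ⟨n, hn⟩ := QuotientGroup.mk_out_eq_mul N g
    show ρ _ * φ * ρ _ = _
    rw [hn, mul_inv_rev, map_mul, map_mul]
    calc ρ g * ρ (n : G) * φ * (ρ (n : G)⁻¹ * ρ g⁻¹)
        = ρ g * (ρ (n : G) * φ) * (ρ (n : G)⁻¹ * ρ g⁻¹) := by rw [mul_assoc (ρ g)]
      _ = ρ g * φ * (ρ (n : G) * ρ (n : G)⁻¹) * ρ g⁻¹ := by
          rw [(hφN n n.2).eq]; noncomm_ring
      _ = _ := by rw [← map_mul, mul_inv_cancel, map_one, mul_one]
  have hF : ∀ (g : G) (q : G ⧸ N), F (g • q) = ρ g * F q * ρ g⁻¹ := by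
    intro g q
    induction q using QuotientGroup.induction_on with
    | _ a =>
      rw [MulAction.Quotient.smul_mk, hFmk, hFmk, smul_eq_mul, map_mul, mul_inv_rev, map_mul]
      noncomm_ring
  let Φ : Module.End ℤ_[p] M := ∑ q, F q
  refine ⟨Φ, fun g => ?_, ?_⟩
  · show ρ g * Φ = Φ * ρ g
    rw [Finset.mul_sum, Finset.sum_mul]
    refine Fintype.sum_equiv (MulAction.toPerm g) _ _ fun q => ?_
    rw [MulAction.toPerm_apply, hF, mul_assoc (ρ g * F q), ← map_mul, inv_mul_cancel, map_one,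
      mul_one]
  · set q0 : G ⧸ N := QuotientGroup.mk (1 : G)
    have h0 : F q0 = φ := by rw [hFmk, inv_one, map_one, one_mul, mul_one]
    have hx0 : x • q0 = q0 := by
      rw [MulAction.Quotient.smul_mk, smul_eq_mul, mul_one, QuotientGroup.eq, mul_one]
      exact inv_mem (Subgroup.le_normalizer (Subgroup.mem_zpowers x))
    obtain ⟨D, hD⟩ := exists_trace_of_free hx F hF (Finset.univ.erase q0)
      (fun q hq => Finset.mem_erase.mpr ⟨fun h => (Finset.mem_erase.mp hq).1
        (smul_left_cancel x (h.trans hx0.symm)), Finset.mem_univ _⟩)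
      (fun q hq h => by
        induction q using QuotientGroup.induction_on with
        | _ a =>
          refine (Finset.mem_erase.mp hq).1 ?_
          rw [MulAction.Quotient.smul_mk, smul_eq_mul, eq_comm, QuotientGroup.eq, ← mul_assoc] at h
          rw [QuotientGroup.eq, mul_one]
          exact inv_mem (hP a h))
    have hΦ : Φ = φ + ∑ j : ZMod p, ρ (x ^ j.val) * D * ρ (x ^ j.val)⁻¹ := by
      rw [← hD, ← h0, Finset.add_sum_erase _ F (Finset.mem_univ q0)]
    constructor
    · intro k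
      obtain ⟨k', hk', hπ⟩ := hφ.1 k
      have hfix : ∀ j : ZMod p, ρ (x ^ j.val)⁻¹ (k : M) = k := by
        intro j
        conv_lhs => rw [← pow_apply_of_mem_ker_sub k.2 j.val, ← map_pow, ← Module.End.mul_apply,
          ← map_mul, inv_mul_cancel, map_one]
        rfl
      let t : LinearMap.ker (ρ x - 1) := ⟨normOp p (ρ x) (D k), range_normOp_le hX ⟨_, rfl⟩⟩
      refine ⟨k' + t, ?_, ?_⟩
      · rw [hΦ, LinearMap.add_apply, hk', Submodule.coe_add, LinearMap.sum_apply]
        congr 1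
        show _ = normOp p (ρ x) (D k)
        rw [normOp_eq_sum, LinearMap.sum_apply]
        exact Finset.sum_congr rfl fun j _ => by
          rw [Module.End.mul_apply, Module.End.mul_apply, hfix]
      · rw [hπ]
        refine (Submodule.Quotient.eq _).mpr ?_
        show (k' : M) - ((k' + t : LinearMap.ker (ρ x - 1)) : M) ∈ LinearMap.range (normOp p (ρ x))
        rw [Submodule.coe_add, sub_add_cancel_left]
        exact neg_mem ⟨_, rfl⟩
    · intro k
      obtain ⟨k', hk', hπ⟩ := hφ.2 k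
      set S := ∑ j : ZMod p, ρ (x ^ j.val) * D * ρ (x ^ j.val)⁻¹
      have hSk : S k ∈ LinearMap.range (ρ x - 1) := by
        have e1 : ∑ j : ZMod p, D (ρ (x ^ j.val)⁻¹ (k : M)) = 0 := by
          rw [← map_sum, ← LinearMap.sum_apply,
            show ∑ j : ZMod p, ρ (x ^ j.val)⁻¹ = normOp p (ρ x) from by
              rw [normOp_eq_sum]
              refine Fintype.sum_equiv (Equiv.neg _) _ _ fun j => congrArg ρ ?_
              rw [inv_eq_iff_mul_eq_one, ← pow_add, ← orderOf_dvd_iff_pow_eq_one, hx,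
                ← ZMod.natCast_eq_zero_iff, Nat.cast_add, ZMod.natCast_zmod_val,
                ZMod.natCast_zmod_val, Equiv.neg_apply, add_neg_cancel],
            LinearMap.mem_ker.mp k.2, map_zero]
        have e2 : S k = ∑ j : ZMod p, (ρ (x ^ j.val) (D (ρ (x ^ j.val)⁻¹ (k : M))) -
            D (ρ (x ^ j.val)⁻¹ (k : M))) := by
          rw [Finset.sum_sub_distrib, e1, sub_zero, LinearMap.sum_apply]
          rfl
        rw [e2]
        refine Submodule.sum_mem _ fun j _ => ?_
        rw [map_pow, ← neg_sub (D (ρ (x ^ j.val)⁻¹ (k : M)))]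
        exact Submodule.neg_mem _ (sub_pow_mem (ρ x) _ _)
      let t : LinearMap.ker (normOp p (ρ x)) := ⟨S k, range_sub_le hX hSk⟩
      refine ⟨k' + t, ?_, ?_⟩
      · rw [hΦ, LinearMap.add_apply, hk']
        rfl
      · rw [hπ]
        refine (Submodule.Quotient.eq _).mpr ?_
        show (k' : M) - ((k' + t : LinearMap.ker (normOp p (ρ x))) : M) ∈ LinearMap.range (ρ x - 1)
        rw [Submodule.coe_add, sub_add_cancel_left]
        exact neg_mem hSk

theorem exists_idem_pow {α : Type*} [Monoid α] [Finite α] (a : α) :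
    ∃ n : ℕ, 0 < n ∧ a ^ n * a ^ n = a ^ n := by
  obtain ⟨i, j, hij, he⟩ := Finite.exists_ne_map_eq_of_infinite (fun n : ℕ => a ^ n)
  wlog hlt : i < j generalizing i j
  · exact this j i hij.symm he.symm (by omega)
  obtain ⟨d, hd, rfl⟩ : ∃ d, 0 < d ∧ j = i + d := ⟨j - i, by omega, by omega⟩
  have hper : ∀ k m, i ≤ m → a ^ (m + k * d) = a ^ m := by
    intro k
    induction k with
    | zero => simp
    | succ k ih =>
      intro m hm
      obtain ⟨r, rfl⟩ : ∃ r, m = i + r := ⟨m - i, by omega⟩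
      rw [show i + r + (k + 1) * d = (i + r + k * d) + d by ring, pow_add, ih _ hm, ← pow_add,
        show i + r + d = (i + d) + r by ring, pow_add a (i + d) r, pow_add a i r]
      exact congrArg (· * a ^ r) he.symm
  refine ⟨d * (i + 1), by positivity, ?_⟩
  rw [← pow_add]
  have := hper (i + 1) (d * (i + 1)) (by nlinarith)
  rwa [mul_comm (i + 1) d] at this

include hx hHx in
/-- Idempotent equivariant pairs on the sections of an indecomposable lattice are trivial. -/
theorem equivariant_idem_trivial [Finite G] (hH : ¬ p ∣ Nat.card H)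
    (hN : ∀ g ∈ Subgroup.normalizer (Subgroup.zpowers x : Set G), ∃ h ∈ H, ∃ i : ℕ, g = h * x ^ i)
    (hP : ∀ g : G, g⁻¹ * x * g ∈ Subgroup.normalizer (Subgroup.zpowers x : Set G) →
      g ∈ Subgroup.normalizer (Subgroup.zpowers x : Set G))
    (hidem : ∀ e : Module.End ℤ_[p] M, (∀ g, Commute (ρ g) e) → e * e = e → e = 0 ∨ e = 1)
    (πA : SecA (ρ x) →+ SecA (ρ x)) (πB : SecB (ρ x) →+ SecB (ρ x)) (hπ : Equivariant H πA πB)
    (hA : ∀ a, πA (πA a) = πA a) (hB : ∀ b, πB (πB b) = πB b) :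
    ((∀ a, πA a = 0) ∧ ∀ b, πB b = 0) ∨ ((∀ a, πA a = a) ∧ ∀ b, πB b = b) := by
  classical
  obtain ⟨φ, hφx, hφH, hφ⟩ := exists_induces hx H hHx hH πA πB hπ
  obtain ⟨Φ, hΦ, hind⟩ := exists_transfer hx H hHx hN hP φ hφx hφH hφ
  let b := Module.Free.chooseBasis ℤ_[p] M
  let L := LinearMap.toMatrixAlgEquiv b
  let r : Module.End ℤ_[p] M →+* Matrix _ _ (ZMod p) :=
    (PadicInt.toZMod (p := p)).mapMatrix.comp L.toRingEquiv.toRingHom
  obtain ⟨n, hn, hnr⟩ := exists_idem_pow (r Φ)
  have hpn : ∀ k, 0 < k → Induces (ρ x) (Φ ^ k) πA πB := by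
    intro k hk
    induction k with
    | zero => omega
    | succ k ih =>
      rcases Nat.eq_zero_or_pos k with rfl | hk'
      · simpa using hind
      · obtain ⟨iA, iB⟩ := ih hk'
        constructor
        · intro a
          obtain ⟨a', h1, h2⟩ := iA a
          obtain ⟨a'', h3, h4⟩ := hind.1 a'
          refine ⟨a'', ?_, ?_⟩
          · rw [pow_succ', Module.End.mul_apply, h1, h3]
          · rw [← h4, ← h2, hA]
        · intro a
          obtain ⟨a', h1, h2⟩ := iB a
          obtain ⟨a'', h3, h4⟩ := hind.2 a'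
          refine ⟨a'', ?_, ?_⟩
          · rw [pow_succ', Module.End.mul_apply, h1, h3]
          · rw [← h4, ← h2, hB]
  obtain ⟨iA, iB⟩ := hpn n hn
  obtain ⟨e, he, hcomm, d, hd⟩ := Idem.exists_lift_end (Set.range ρ) (Φ ^ n)
    (by rintro _ ⟨g, rfl⟩; exact (hΦ g).pow_right n) (by
      have h0 : r (Φ ^ n * Φ ^ n - Φ ^ n) = 0 := by
        rw [map_sub, map_mul, map_pow, hnr, sub_self]
      have hdvd : ∀ i j, ∃ c, L (Φ ^ n * Φ ^ n - Φ ^ n) i j = (p : ℤ_[p]) * c := by
        intro i j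
        have h1 : L (Φ ^ n * Φ ^ n - Φ ^ n) i j ∈ RingHom.ker (PadicInt.toZMod (p := p)) :=
          congrFun (congrFun h0 i) j
        rw [PadicInt.ker_toZMod, PadicInt.maximalIdeal_eq_span_p, Ideal.mem_span_singleton] at h1
        exact h1
      choose c hc using hdvd
      refine ⟨L.symm (Matrix.of c), L.injective ?_⟩
      rw [map_smul, L.apply_symm_apply]
      exact Matrix.ext fun i j => hc i j)
  have hsame : ∀ (S R : Submodule ℤ_[p] M) (_ : ∀ s ∈ S, (p : ℤ_[p]) • s ∈ R)
      (_ : ∀ s ∈ S, d s ∈ S) (k k' : S), (Φ ^ n) k = k' → (e k - k' : M) ∈ R := by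
    intro S R h1 h2 k k' h3
    have : e k - (k' : M) = (p : ℤ_[p]) • d k := by
      rw [← h3, ← LinearMap.sub_apply, hd]; rfl
    rw [this]
    exact h1 _ (h2 k k.2)
  have hdx : ∀ m : M, d (ρ x m) = ρ x (d m) := by
    intro m
    apply smul_cancel (p := p)
    rw [← LinearMap.smul_apply, ← hd, ← map_smul, ← LinearMap.smul_apply, ← hd, LinearMap.sub_apply,
      LinearMap.sub_apply, map_sub, ← Module.End.mul_apply, ← Module.End.mul_apply,
      ← Module.End.mul_apply, ← Module.End.mul_apply, (hcomm _ ⟨x, rfl⟩).eq,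
      ((hΦ x).pow_right n).eq]
  have hd0 : ∀ s ∈ LinearMap.ker (ρ x - 1), d s ∈ LinearMap.ker (ρ x - 1) := by
    intro s hs
    show (ρ x - 1) (d s) = 0
    rw [LinearMap.sub_apply, ← hdx, apply_of_mem_ker_sub hs, Module.End.one_apply, sub_self]
  have hd1 : ∀ s ∈ LinearMap.ker (normOp p (ρ x)), d s ∈ LinearMap.ker (normOp p (ρ x)) := by
    intro s hs
    have hc : Commute (ρ x) d := LinearMap.ext fun m => (hdx m).symm
    have hcT : Commute (normOp p (ρ x)) d :=
      Commute.sum_left _ _ _ fun j _ => hc.pow_left j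
    rw [LinearMap.mem_ker, ← Module.End.mul_apply, hcT.eq, Module.End.mul_apply,
      LinearMap.mem_ker.mp hs, map_zero]
  rcases hidem e (fun g => hcomm _ ⟨g, rfl⟩) he with h0 | h1
  · subst h0
    refine Or.inl ⟨fun a => ?_, fun a => ?_⟩
    · obtain ⟨k, rfl⟩ := Submodule.Quotient.mk_surjective _ a
      obtain ⟨k', h1, h2⟩ := iA k
      rw [h2, Submodule.Quotient.mk_eq_zero]
      have := hsame _ (LinearMap.range (normOp p (ρ x))) (fun s => smul_mem_range_normOp) hd0 k k' h1
      simpa using this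
    · obtain ⟨k, rfl⟩ := Submodule.Quotient.mk_surjective _ a
      obtain ⟨k', h1, h2⟩ := iB k
      rw [h2, Submodule.Quotient.mk_eq_zero]
      have := hsame _ (LinearMap.range (ρ x - 1)) (fun s => smul_mem_range_sub) hd1 k k' h1
      simpa using this
  · subst h1
    refine Or.inr ⟨fun a => ?_, fun a => ?_⟩
    · obtain ⟨k, rfl⟩ := Submodule.Quotient.mk_surjective _ a
      obtain ⟨k', h1, h2⟩ := iA k
      rw [h2]
      refine ((Submodule.Quotient.eq _).mpr ?_).symm
      exact hsame _ (LinearMap.range (normOp p (ρ x))) (fun s => smul_mem_range_normOp) hd0 k k' h1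
    · obtain ⟨k, rfl⟩ := Submodule.Quotient.mk_surjective _ a
      obtain ⟨k', h1, h2⟩ := iB k
      rw [h2]
      refine ((Submodule.Quotient.eq _).mpr ?_).symm
      exact hsame _ (LinearMap.range (ρ x - 1)) (fun s => smul_mem_range_sub) hd1 k k' h1

end Cfsg.Agent.Lib.FirstPower.Green
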