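import Cfsg.Agent.Lib.FirstPower.Consequences
import Cfsg.Agent.Lib.SmallGroups.Sylow

/-!
# A simple group with a prime `p` such that `|G| < p ^ 3`

The centralizer of an element of order `p` is generated by it.
-/

namespace Cfsg.Agent.Lib.FirstPower.Large

open Periods Average Consequences Cfsg.Agent.Lib.Characters.Basic
open CharOrbit (IsVPart)
open Family (pow_eq_one_of_order)

universe u

variable {p : ℕ} [Fact p.Prime] {G : Type u} [Group G] [Finite G] {x : G}

theorem not_comm [IsSimpleGroup G] (hG : ¬ IsCyclic G) : ¬ IsMulCommutative G :=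
  SmallGroups.Sylow.not_comm_of_card fun h => by
    haveI := Fact.mk h
    exact hG (isCyclic_of_prime_card rfl)

theorem not_pgroup [IsSimpleGroup G] (hG : ¬ IsMulCommutative G) {n : ℕ} :
    Nat.card G ≠ p ^ n := by
  intro h
  have hP : IsPGroup p G := IsPGroup.of_card h
  have hc := SmallGroups.Sylow.center_eq_bot hG
  have := hP.center_nontrivial
  rw [hc] at this
  exact (not_nontrivial (⊥ : Subgroup G)) this

theorem succ_le_card_sylow [IsSimpleGroup G] (hG : ¬ IsMulCommutative G)
    (hdvd : p ∣ Nat.card G) : p + 1 ≤ Nat.card (Sylow p G) := by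
  obtain ⟨a, m, hm, h⟩ := Nat.exists_eq_pow_mul_and_not_dvd (Nat.card_pos (α := G)).ne' p
    (Fact.out : p.Prime).ne_one
  have ha : a ≠ 0 := by
    rintro rfl
    rw [h, pow_zero, one_mul] at hdvd
    exact hm hdvd
  have hm1 : m ≠ 1 := by
    rintro rfl
    exact not_pgroup hG (by rw [h, mul_one])
  have h1 := SmallGroups.Sylow.card_sylow_ne_one (p := p) (G := G) h hm ha hm1
  have h2 := SmallGroups.Sylow.card_sylow_mod (p := p) (G := G)
  have hpos : 0 < Nat.card (Sylow p G) := Nat.card_pos
  rw [← Nat.mod_add_div (Nat.card (Sylow p G)) p, h2] at h1 hpos ⊢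
  have : 1 ≤ Nat.card (Sylow p G) / p := by
    by_contra h0
    simp only [not_le, Nat.lt_one_iff] at h0
    simp [h0] at h1
  calc p + 1 = 1 + p * 1 := by ring
    _ ≤ _ := by gcongr

theorem not_sq_dvd [IsSimpleGroup G] (hG : ¬ IsMulCommutative G) (hbig : Nat.card G < p ^ 3) :
    ¬ p ^ 2 ∣ Nat.card G := by
  intro hdvd
  obtain ⟨a, m, hm, h⟩ := Nat.exists_eq_pow_mul_and_not_dvd (Nat.card_pos (α := G)).ne' p
    (Fact.out : p.Prime).ne_one
  have ha : 2 ≤ a := by
    rw [h] at hdvd
    exact (Nat.pow_dvd_pow_iff_le_right (Fact.out : p.Prime).one_lt).mp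
      (((Fact.out : p.Prime).coprime_pow_of_not_dvd hm).symm.dvd_of_dvd_mul_right hdvd)
  have h1 : p + 1 ≤ m :=
    (succ_le_card_sylow hG ((dvd_pow_self p two_ne_zero).trans hdvd)).trans
      (Nat.le_of_dvd (Nat.pos_of_ne_zero fun h0 => hm (h0 ▸ dvd_zero p))
        (SmallGroups.Sylow.card_sylow_dvd (G := G) h hm))
  have h2 : p ^ 2 * (p + 1) ≤ p ^ a * m :=
    Nat.mul_le_mul (Nat.pow_le_pow_right (Fact.out : p.Prime).pos ha) h1
  rw [← h] at h2
  nlinarith

theorem two_le_autE [IsSimpleGroup G] (hG : ¬ IsMulCommutative G) (hx : orderOf x = p)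
    (h2 : ¬ p ^ 2 ∣ Nat.card G) :
    2 ≤ Nat.card (autE (pow_eq_one_of_order hx)) := by
  by_contra h
  have h1 : Nat.card (autE (pow_eq_one_of_order hx)) = 1 := by
    have : 0 < Nat.card (autE (pow_eq_one_of_order hx)) := Nat.card_pos
    omega
  obtain ⟨P, hP⟩ := exists_sylow hx h2
  refine SmallGroups.Sylow.not_normalizer_le_centralizer hG P ?_ ?_
  · rw [hP, Ne, Subgroup.zpowers_eq_bot]
    rintro rfl
    exact (Fact.out : p.Prime).ne_one (by rw [← hx, orderOf_one])
  · rw [hP]
    refine (Subgroup.eq_of_le_of_card_ge (SmallGroups.Sylow.centralizer_le_normalizer _) ?_).ge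
    rw [card_normalizer hx, h1, one_mul, Subgroup.zpowers_eq_closure,
      Subgroup.centralizer_closure]

/-- Elements centralizing `x` in a group with `p + 1` Sylow subgroups. -/
theorem vpart_eq_bot_of_card_sylow [IsSimpleGroup G] (hx : orderOf x = p)
    (h2 : ¬ p ^ 2 ∣ Nat.card G) {V : Subgroup G} (hV : IsVPart p x V)
    (hn : Nat.card (Sylow p G) = p + 1) : V = ⊥ := by
  classical
  have := Fintype.ofFinite (Sylow p G)
  obtain ⟨P, hP⟩ := exists_sylow hx h2
  have hxp := pow_eq_one_of_order hx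
  have hfix : ∀ Q : Sylow p G, x • Q = Q → Q = P := by
    intro Q hQ
    have hmem : Subgroup.zpowers x ≤ Subgroup.normalizer (Q : Set G) :=
      Subgroup.zpowers_le.mpr (Sylow.smul_eq_iff_mem_normalizer.mp hQ)
    have hle : (P : Subgroup G) ≤ (Q : Subgroup G) := by
      rw [hP]
      have h := (IsPGroup.of_card (n := 1) (G := Subgroup.zpowers x)
        (by rw [Nat.card_zpowers, hx, pow_one] : Nat.card (Subgroup.zpowers x) = p ^ 1)
          ).inf_normalizer_sylow Q
      rw [inf_of_le_left hmem] at h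
      exact inf_eq_left.mp h.symm
    exact Sylow.ext (P.is_maximal' Q.isPGroup' hle)
  obtain ⟨Q, hQ⟩ := Fintype.exists_ne_of_one_lt_card (α := Sylow p G) (by
    rw [← Nat.card_eq_fintype_card, hn]
    have := (Fact.out : p.Prime).pos
    omega) P
  have hxP : x • P = P := Sylow.smul_eq_iff_mem_normalizer.mpr (Subgroup.le_normalizer (by
    rw [hP]; exact Subgroup.mem_zpowers x))
  have hxPow : ∀ n : ℕ, x ^ n • P = P := by
    intro n
    induction n with
    | zero => rw [pow_zero, one_smul]
    | succ n ih => rw [pow_succ, mul_smul, hxP, ih]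
  let f : Option (ZMod p) → Sylow p G := fun o => o.elim P fun z => x ^ z.val • Q
  have hne : ∀ z : ZMod p, x ^ z.val • Q ≠ P := fun z h =>
    hQ (by rw [← hxPow z.val] at h; exact smul_left_cancel _ h)
  have hinj : ∀ a b : ZMod p, x ^ a.val • Q = x ^ b.val • Q → a = b := by
    intro a b h
    by_contra hab
    have h1 : x ^ (a - b).val • Q = Q := by
      have e : x ^ b.val * x ^ (a - b).val = x ^ a.val := by
        rw [← pow_val_add hxp, add_sub_cancel]
      rw [← e, mul_smul] at h
      exact smul_left_cancel _ h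
    have h3 : ∀ n : ℕ, (x ^ (a - b).val) ^ n • Q = Q := by
      intro n
      induction n with
      | zero => rw [pow_zero, one_smul]
      | succ n ih => rw [pow_succ, mul_smul, h1, ih]
    have h4 := h3 ((a - b)⁻¹).val
    rw [← pow_val_mul hxp, mul_inv_cancel₀ (sub_ne_zero.mpr hab), pow_val_one hxp] at h4
    exact hQ (hfix Q h4)
  have hbij : Function.Bijective f := by
    rw [Fintype.bijective_iff_injective_and_card]
    refine ⟨?_, by rw [Fintype.card_option, ZMod.card, ← Nat.card_eq_fintype_card, hn]⟩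
    rintro (_ | a) (_ | b) h
    · rfl
    · exact absurd h.symm (hne b)
    · exact absurd h (hne a)
    · rw [hinj a b h]
  rw [eq_bot_iff]
  intro v hv
  rw [Subgroup.mem_bot]
  have hc : Commute x v := vpart_le hV v hv
  have hvP : v • P = P := Sylow.smul_eq_iff_mem_normalizer.mpr (by
    rw [show (↑P : Set G) = (Subgroup.zpowers x : Set G) from congrArg SetLike.coe hP]
    refine SmallGroups.Sylow.centralizer_le_normalizer _ ?_
    rw [Subgroup.zpowers_eq_closure, Subgroup.centralizer_closure]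
    exact ((hV v).mp hv).1)
  obtain ⟨o, ho⟩ := hbij.2 (v • Q)
  rcases o with _ | j
  · refine absurd ?_ hQ
    have : v • Q = v • P := by rw [hvP]; exact ho.symm
    exact smul_left_cancel _ this
  have hw : (x ^ j.val)⁻¹ * v ∈ (MulAction.toPermHom G (Sylow p G)).ker := by
    rw [MonoidHom.mem_ker]
    refine Equiv.ext fun R => ?_
    obtain ⟨o, rfl⟩ := hbij.2 R
    show ((x ^ j.val)⁻¹ * v) • f o = f o
    rcases o with _ | z
    · show ((x ^ j.val)⁻¹ * v) • P = P
      rw [mul_smul, hvP, inv_smul_eq_iff, hxPow]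
    · show ((x ^ j.val)⁻¹ * v) • (x ^ z.val • Q) = x ^ z.val • Q
      have e : (x ^ j.val)⁻¹ * v * x ^ z.val = x ^ z.val * ((x ^ j.val)⁻¹ * v) := by
        have h1 : Commute (x ^ z.val) ((x ^ j.val)⁻¹ * v) :=
          (((Commute.refl x).pow_pow _ _).inv_right).mul_right (hc.pow_left _)
        exact h1.eq.symm
      rw [← mul_smul, e, mul_smul, mul_smul, ← ho]
      show x ^ z.val • (x ^ j.val)⁻¹ • (x ^ j.val • Q) = _
      rw [inv_smul_smul]
  rcases IsSimpleGroup.eq_bot_or_eq_top_of_normal (MulAction.toPermHom G (Sylow p G)).ker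
    inferInstance with hk | hk
  · rw [hk, Subgroup.mem_bot, inv_mul_eq_one] at hw
    by_contra hv1
    have := ((hV v).mp hv).2
    rw [← hw] at this
    apply this
    have : orderOf (x ^ j.val) = p := orderOf_eq_prime
      (by rw [← pow_mul, mul_comm, pow_mul, hxp, one_pow]) (fun h => hv1 (hw.symm.trans h))
    rw [this]
  · have h1 : x ∈ (MulAction.toPermHom G (Sylow p G)).ker := hk ▸ Subgroup.mem_top x
    rw [MonoidHom.mem_ker] at h1
    exact absurd (hfix Q (by
      have := Equiv.congr_fun h1 Q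
      simpa using this)) hQ

/-- A character `-1` off `V` on `⟨x⟩ V` of degree `p - 1` is trivial on `V`. -/
theorem apply_eq_degree {V : Subgroup G} (hx : orderOf x = p) (hV : IsVPart p x V)
    (χ : Cfsg.IrrCharacter G) (hd : Cfsg.charDegree (χ : G → ℂ) = p - 1)
    (hval : ∀ u : (ZMod p)ˣ, ∀ v ∈ V, (χ : G → ℂ) (x ^ (u : ZMod p).val * v) = -1) {v : G}
    (hv : v ∈ V) : (χ : G → ℂ) v = (χ : G → ℂ) 1 := by
  have := Fintype.ofFinite V
  have hxp := pow_eq_one_of_order hx
  obtain ⟨c, hc⟩ := exists_mult hxp (vpart_le hV) (isCharacter_irr χ)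
  have h1 : ∑ z : ZMod p, aval x V (χ : G → ℂ) z = (p : ℂ) * c 0 := by
    simp only [hc]
    rw [Finset.sum_comm]
    simp only [← Finset.mul_sum, sum_chr, mul_ite, mul_zero, Finset.sum_ite_eq', Finset.mem_univ,
      if_true]
    ring
  have hcV : (Nat.card V : ℂ) ≠ 0 := Nat.cast_ne_zero.mpr Nat.card_pos.ne'
  have h0 : aval x V (χ : G → ℂ) (0 : ZMod p) =
      (Nat.card V : ℂ)⁻¹ * ∑ w : V, (χ : G → ℂ) w := by
    simp [aval, finsum_eq_sum_of_fintype]
  have hu : ∀ u : (ZMod p)ˣ, aval x V (χ : G → ℂ) (u : ZMod p) = -1 := fun u => by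
    rw [aval, finsum_eq_sum_of_fintype, Finset.sum_congr rfl fun (w : V) _ => hval u (w : G) w.2]
    simp [Nat.card_eq_fintype_card]
  rw [sum_zmod_split, h0, Finset.sum_congr rfl fun u _ => hu u, Finset.sum_const,
    Finset.card_univ, ZMod.card_units, nsmul_eq_mul] at h1
  have h3 : ∑ w : V, (χ : G → ℂ) w = (Nat.card V : ℂ) * ((p - 1 : ℕ) + (p : ℂ) * c 0) := by
    rw [← h1, mul_add, mul_add, ← mul_assoc, mul_inv_cancel₀ hcV, one_mul]
    ring
  have hn : (χ : G → ℂ) 1 = ((p - 1 : ℕ) : ℂ) := by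
    rw [DegreeBounds.Basic.charDegree_irr, hd]
  have hle : ∀ w : V, ((χ : G → ℂ) w).re ≤ ((p - 1 : ℕ) : ℝ) := fun w => by
    refine (Complex.re_le_norm _).trans ((norm_apply_le (isCharacter_irr χ) _).trans ?_)
    rw [hn, Complex.norm_natCast]
  have h4 : ∑ w : V, (((p - 1 : ℕ) : ℝ) - ((χ : G → ℂ) w).re) =
      -((Nat.card V : ℝ) * ((p : ℝ) * c 0)) := by
    have := congrArg Complex.re h3
    rw [Complex.re_sum] at this
    simp only [Finset.sum_sub_distrib, this, Finset.sum_const, Finset.card_univ, nsmul_eq_mul,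
      Nat.card_eq_fintype_card]
    simp [Complex.mul_re, Complex.add_re]
    ring
  have h5 : ∀ w ∈ (Finset.univ : Finset V), ((p - 1 : ℕ) : ℝ) - ((χ : G → ℂ) w).re = 0 := by
    refine (Finset.sum_eq_zero_iff_of_nonneg fun w _ => sub_nonneg.mpr (hle w)).mp
      (le_antisymm ?_ (Finset.sum_nonneg fun w _ => sub_nonneg.mpr (hle w)))
    rw [h4]
    have : (0 : ℝ) ≤ (Nat.card V : ℝ) * ((p : ℝ) * c 0) := by positivity
    linarith
  have hre := sub_eq_zero.mp (h5 ⟨v, hv⟩ (Finset.mem_univ _))
  have hnorm := norm_apply_le (isCharacter_irr χ) v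
  rw [hn, Complex.norm_natCast, hre] at hnorm
  have hz : ((χ : G → ℂ) v).im = 0 := Complex.abs_re_eq_norm.mp
    (le_antisymm (Complex.abs_re_le_norm _) (hnorm.trans (le_abs_self _)))
  rw [hn]
  exact Complex.ext (by simpa using hre.symm) (by simpa using hz)

set_option maxHeartbeats 1000000 in
/-- Brauer–Reynolds, the reduction to a self-centralizing subgroup. -/
theorem self_centralizing [IsSimpleGroup G] (hG : ¬ IsCyclic G) (hx : orderOf x = p)
    (hbig : Nat.card G < p ^ 3) :
    Subgroup.centralizer ({x} : Set G) = Subgroup.zpowers x ∧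
      2 * Nat.card (Sylow p G) < (p + 1) * (p + 2) := by
  classical
  have hp : p.Prime := Fact.out
  have hnc := not_comm hG
  have hxp := pow_eq_one_of_order hx
  have h2 := not_sq_dvd hnc hbig
  obtain ⟨V, hV⟩ := Family.exists_vpart hx h2
  have hcard := card_eq hx h2 hV
  have hn1 := succ_le_card_sylow (p := p) hnc (hx ▸ orderOf_dvd_natCard x)
  have he2 := two_le_autE hnc hx h2
  set e := Nat.card (autE (pow_eq_one_of_order hx)) with he
  set N := Nat.card (Sylow p G) with hN
  set cV := Nat.card V with hcV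
  have hcV1 : 1 ≤ cV := Nat.card_pos
  have hbound : N * (e * cV) < p ^ 2 := by
    have : p * (N * (e * cV)) < p * p ^ 2 := by
      calc p * (N * (e * cV)) = Nat.card G := by rw [hcard]; ring
        _ < p ^ 3 := hbig
        _ = p * p ^ 2 := by ring
    exact Nat.lt_of_mul_lt_mul_left this
  refine ⟨?_, ?_⟩
  swap
  · have h2e : 2 ≤ e * cV := he2.trans (Nat.le_mul_of_pos_right e hcV1)
    have := Nat.mul_le_mul_left N h2e
    nlinarith only [this, hbound]
  suffices hbot : V = ⊥ by
    refine le_antisymm (fun y hy => ?_) (Subgroup.zpowers_le.mpr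
      (Subgroup.mem_centralizer_singleton_iff.mpr rfl))
    obtain ⟨a, ⟨w, hw⟩, rfl⟩ := exists_decomp hx h2 hV hy
    subst hbot
    rw [Subgroup.mem_bot] at hw
    subst hw
    simp [pow_mem (Subgroup.mem_zpowers x)]
  have hmod : N % p = 1 := SmallGroups.Sylow.card_sylow_mod
  obtain ⟨k, hk⟩ : ∃ k, N = 1 + k * p := ⟨N / p, by
    conv_lhs => rw [← Nat.mod_add_div N p, hmod, mul_comm]⟩
  rcases eq_or_ne k 1 with rfl | hk1
  · exact vpart_eq_bot_of_card_sylow hx h2 hV (by omega)
  have hk2 : 2 ≤ k := by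
    rcases Nat.eq_zero_or_pos k with rfl | h
    · have := hp.two_le; omega
    · omega
  by_contra hVne
  have hN2 : 2 * p + 1 ≤ N := by rw [hk]; nlinarith
  have hecV2 : 2 ≤ e * cV := he2.trans (Nat.le_mul_of_pos_right e hcV1)
  have hecV : 2 * (e * cV) + 1 ≤ p := by
    by_contra h
    push Not at h
    nlinarith
  have := Fintype.ofFinite (Cfsg.IrrCharacter G)
  obtain ⟨R, Y, a, δ, hYinj, -, hδ, h1R, ha1, hRcard, hR, hY, -, hYreg, hrel⟩ :=
    Family.exists_family hx h2 hV
  have hperf : commutator G = ⊤ := SmallGroups.Sylow.commutator_eq_top hnc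
  have hdeg : ∀ χ ∈ R, χ ≠ oneChar G → a χ = 1 ∧ Cfsg.charDegree (χ : G → ℂ) = N := by
    intro χ hχ hne
    set n := Cfsg.charDegree (χ : G → ℂ) with hn
    have hn0 : 0 < n := DegreeBounds.Basic.charDegree_pos χ
    have hn1 : n ≠ 1 := fun h => hne (charDegree_eq_one_of_perfect hperf χ h)
    have hmodn := degree_of_const hxp χ (a := a χ) (fun u => by
      simpa using (hR χ hχ).2 u 1 (one_mem V))
    have hdvd : n ∣ N * (e * cV) := by
      have hcop : n.Coprime p := by
        rw [Nat.coprime_comm, hp.coprime_iff_not_dvd, ← ZMod.natCast_eq_zero_iff, hmodn]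
        rcases (hR χ hχ).1 with h | h <;> rw [h] <;> simp
      refine hcop.dvd_of_dvd_mul_left (m := p) ?_
      rw [show p * (N * (e * cV)) = Nat.card G by rw [hcard]; ring]
      exact DegreeBounds.Basic.charDegree_dvd χ
    obtain ⟨s, hs⟩ := hdvd
    have hns : n * s < p ^ 2 := hs ▸ hbound
    have hsmod : ((e * cV : ℕ) : ZMod p) = (a χ : ZMod p) * s := by
      have := congrArg (Nat.cast : ℕ → ZMod p) hs
      rw [Nat.cast_mul, Nat.cast_mul n, hmodn, hk] at this
      simpa [ZMod.natCast_self] using this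
    rcases (hR χ hχ).1 with haχ | haχ
    · refine ⟨haχ, ?_⟩
      rw [haχ, Int.cast_one] at hmodn hsmod
      rw [one_mul] at hsmod
      have hge : p + 1 ≤ n := by
        have h : p ∣ n - 1 := by
          rw [← ZMod.natCast_eq_zero_iff, Nat.cast_sub hn0, hmodn, Nat.cast_one, sub_self]
        have := Nat.le_of_dvd (by omega) h
        omega
      have hsp : s < p := by nlinarith
      have hse : e * cV = s := by
        have := congrArg ZMod.val hsmod
        rwa [ZMod.val_natCast, ZMod.val_natCast, Nat.mod_eq_of_lt (by omega),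
          Nat.mod_eq_of_lt hsp] at this
      rw [← hse] at hs
      exact (Nat.eq_of_mul_eq_mul_right (by nlinarith) hs).symm
    · exfalso
      rw [haχ] at hmodn hsmod
      push_cast at hmodn hsmod
      obtain ⟨u, hu⟩ : p ∣ n + 1 := by
        rw [← ZMod.natCast_eq_zero_iff]; push_cast; rw [hmodn]; ring
      obtain ⟨w, hw⟩ : p ∣ e * cV + s := by
        rw [← ZMod.natCast_eq_zero_iff]; push_cast at hsmod ⊢; rw [hsmod]; ring
      have hu1 : 1 ≤ u := by
        rcases Nat.eq_zero_or_pos u with rfl | h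
        · simp at hu
        · exact h
      have hw1 : w = 1 := by
        rcases Nat.lt_trichotomy w 1 with h | h | h
        · obtain rfl : w = 0 := by omega
          have : 0 < e * cV := by positivity
          omega
        · exact h
        · exfalso
          have hw2 : 2 * p ≤ p * w := by nlinarith
          have : p - 1 ≤ n := by
            have : p ≤ p * u := by nlinarith
            omega
          have hs2 : p + 2 ≤ s := by omega
          have h3 := Nat.mul_le_mul this hs2
          obtain ⟨q, hq⟩ : ∃ q, p = q + 1 := ⟨p - 1, by omega⟩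
          have hq' : p - 1 = q := by omega
          have hq2 : 2 ≤ q := by omega
          rw [hq'] at h3
          have h4 : q * (q + 3) < (q + 1) ^ 2 := by
            rw [← hq, show q + 3 = p + 2 by omega]
            exact lt_of_le_of_lt h3 hns
          nlinarith only [h4, hq2]
      rw [hw1, mul_one] at hw
      have hu2 : u = 1 := by
        by_contra h
        have : p * 2 ≤ p * u := Nat.mul_le_mul_left p (by omega)
        have h3 : 2 * p ≤ n + 1 := by omega
        nlinarith
      rw [hu2, mul_one] at hu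
      refine hVne ((Subgroup.eq_bot_iff_forall _).mpr fun v hv => ?_)
      have hval : ∀ u : (ZMod p)ˣ, ∀ v ∈ V, (χ : G → ℂ) (x ^ (u : ZMod p).val * v) = -1 :=
        fun u v hv => by rw [(hR χ hχ).2 u v hv, haχ]; simp
      have hker := Characters.Kernel.charKer_eq_bot_of_simple (isCharacter_irr χ) (g := x) (by
        have := hval 1 1 (one_mem V)
        rw [mul_one, Units.val_one, pow_val_one hxp] at this
        rw [this, DegreeBounds.Basic.charDegree_irr, ← hn]
        intro h
        have : ((-1 : ℤ) : ℂ) = ((n : ℤ) : ℂ) := by push_cast; exact h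
        have : (-1 : ℤ) = n := by exact_mod_cast this
        omega)
      have hmem := (Characters.Kernel.mem_charKer (isCharacter_irr χ) v).mpr
        (apply_eq_degree hx hV χ (by omega) hval hv)
      rwa [hker, Subgroup.mem_bot] at hmem
  set d := Cfsg.charDegree (Y 1 : G → ℂ) with hd
  have h1reg : ¬ p ∣ orderOf (1 : G) := by
    rw [orderOf_one, Nat.dvd_one]; exact hp.ne_one
  have hrel1 : (1 : ℤ) + ((e : ℤ) - 1) * N = δ * d := by
    have h := hrel 1 h1reg
    simp only [DegreeBounds.Basic.charDegree_irr] at h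
    have hr : (e : ℤ) = R.card := by rw [hRcard]
    rw [← Finset.add_sum_erase _ _ h1R, ha1,
      Finset.sum_congr rfl (fun χ hχ => by
        obtain ⟨hne, hmem⟩ := Finset.mem_erase.mp hχ
        rw [(hdeg χ hmem hne).1, (hdeg χ hmem hne).2]),
      Finset.sum_const, Finset.card_erase_of_mem h1R] at h
    have h11 : Cfsg.charDegree ((oneChar G : Cfsg.IrrCharacter G) : G → ℂ) = 1 := by
      have := DegreeBounds.Basic.charDegree_irr (oneChar G)
      rw [oneChar_apply] at this
      exact_mod_cast this.symm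
    rw [h11, hRcard, nsmul_eq_mul, Nat.cast_sub (by omega)] at h
    have h' : ((((1 : ℤ) + ((e : ℤ) - 1) * N : ℤ)) : ℂ) = ((δ * d : ℤ) : ℂ) := by
      push_cast at h ⊢
      linear_combination h
    exact_mod_cast h'
  have hd1 : (e - 1) * N + 1 = d := by
    zify [show 1 ≤ e by omega]
    rcases hδ with rfl | rfl
    · linarith
    · have : (0 : ℤ) ≤ ((e : ℤ) - 1) * N := mul_nonneg (by omega) (by omega)
      omega
  have hdY : ∀ q, Cfsg.charDegree (Y q : G → ℂ) = d := fun q => by
    have h := hYreg q 1 h1reg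
    rw [DegreeBounds.Basic.charDegree_irr, DegreeBounds.Basic.charDegree_irr] at h
    exact_mod_cast h
  have := Fintype.ofFinite ((ZMod p)ˣ ⧸ autE (pow_eq_one_of_order hx))
  have hsq : Fintype.card ((ZMod p)ˣ ⧸ autE (pow_eq_one_of_order hx)) * d ^ 2 ≤ Nat.card G := by
    rw [← DegreeBounds.Basic.sum_charDegree_sq]
    calc _ = ∑ χ ∈ Finset.univ.image Y, Cfsg.charDegree (χ : G → ℂ) ^ 2 := by
          rw [Finset.sum_image hYinj.injOn]
          simp [hdY]
      _ ≤ _ := Finset.sum_le_sum_of_subset (Finset.subset_univ _)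
  have hte : Fintype.card ((ZMod p)ˣ ⧸ autE (pow_eq_one_of_order hx)) * e = p - 1 := by
    have := Fintype.ofFinite (autE (pow_eq_one_of_order hx))
    rw [he, Nat.card_eq_fintype_card]
    exact card_mul_card _
  set t := Fintype.card ((ZMod p)ˣ ⧸ autE (pow_eq_one_of_order hx))
  have hdbig : 2 * (e - 1) * p ≤ d := by
    rw [← hd1]
    have := Nat.mul_le_mul_left (e - 1) (show 2 * p ≤ N by omega)
    nlinarith
  have h1 : t * (2 * (e - 1) * p) ^ 2 < p ^ 3 :=
    lt_of_le_of_lt (le_trans (Nat.mul_le_mul_left t (Nat.pow_le_pow_left hdbig 2)) hsq) hbig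
  have h3 : 4 * t * (e - 1) ^ 2 < p :=
    Nat.lt_of_mul_lt_mul_right (a := p ^ 2) (by nlinarith)
  obtain ⟨e', he'⟩ : ∃ e', e = e' + 2 := ⟨e - 2, by omega⟩
  rw [he'] at h3 hte
  simp only [show e' + 2 - 1 = e' + 1 by omega] at h3
  have ht1 : 1 ≤ t := Fintype.card_pos
  have : p = t * (e' + 2) + 1 := by have := hp.one_lt; omega
  nlinarith only [this, h3, ht1, Nat.zero_le (t * e'), Nat.zero_le (t * e' ^ 2)]

end Cfsg.Agent.Lib.FirstPower.Large
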