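import Mathlib.NumberTheory.Padics.RingHoms
import Mathlib.LinearAlgebra.Trace
import Mathlib.LinearAlgebra.Dimension.OrzechProperty
import Mathlib.RingTheory.Nakayama
import Mathlib.RingTheory.Polynomial.Cyclotomic.Roots
import Mathlib.RingTheory.Polynomial.Cyclotomic.Expand
import Mathlib.Analysis.Complex.Polynomial.Basic
import Mathlib.RingTheory.RootsOfUnity.Complex
import Mathlib.FieldTheory.Finiteness
import Mathlib.Algebra.Module.ZMod
import Mathlib.GroupTheory.Index
import Mathlib.FieldTheory.KummerExtension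

/-!
# Lattices over `ℤ_[p]` with an automorphism of order `p`

For a lattice `M` and `X` with `X ^ p = 1` write `T = 1 + X + ... + X^(p-1)` and `U = X - 1`.
The two sections `A = ker U / im T` and `B = ker T / im U` determine the trace of `X`.
-/

namespace Cfsg.Agent.Lib.FirstPower.Lattice

open Module

variable {p : ℕ} [Fact p.Prime] {M : Type*} [AddCommGroup M] [Module ℤ_[p] M]

/-- The sum of the powers of `X`. -/
noncomputable def normOp (p : ℕ) [Fact p.Prime] {M : Type*} [AddCommGroup M] [Module ℤ_[p] M]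
    (X : Module.End ℤ_[p] M) : Module.End ℤ_[p] M :=
  ∑ j ∈ Finset.range p, X ^ j

variable {X : Module.End ℤ_[p] M}

theorem normOp_mul_sub (hX : X ^ p = 1) : normOp p X * (X - 1) = 0 := by
  rw [normOp, geom_sum_mul, hX, sub_self]

theorem sub_mul_normOp (hX : X ^ p = 1) : (X - 1) * normOp p X = 0 := by
  rw [normOp, mul_geom_sum, hX, sub_self]

theorem range_normOp_le (hX : X ^ p = 1) :
    LinearMap.range (normOp p X) ≤ LinearMap.ker (X - 1) := by
  rw [LinearMap.range_le_ker_iff]
  exact sub_mul_normOp hX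

theorem range_sub_le (hX : X ^ p = 1) :
    LinearMap.range (X - 1) ≤ LinearMap.ker (normOp p X) := by
  rw [LinearMap.range_le_ker_iff]
  exact normOp_mul_sub hX

theorem apply_of_mem_ker_sub {m : M} (hm : m ∈ LinearMap.ker (X - 1)) : X m = m := by
  simpa [sub_eq_zero] using hm

theorem pow_apply_of_mem_ker_sub {m : M} (hm : m ∈ LinearMap.ker (X - 1)) (j : ℕ) :
    (X ^ j) m = m := by
  induction j with
  | zero => rfl
  | succ j ih => rw [pow_succ', Module.End.mul_apply, ih, apply_of_mem_ker_sub hm]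

theorem normOp_apply_fixed {m : M} (hm : m ∈ LinearMap.ker (X - 1)) :
    normOp p X m = (p : ℤ_[p]) • m := by
  simp [normOp, LinearMap.sum_apply, pow_apply_of_mem_ker_sub hm, Nat.cast_smul_eq_nsmul]

theorem smul_mem_range_normOp {m : M} (hm : m ∈ LinearMap.ker (X - 1)) :
    (p : ℤ_[p]) • m ∈ LinearMap.range (normOp p X) :=
  ⟨m, normOp_apply_fixed hm⟩

/-- `p - T` factors through `X - 1`. -/
theorem exists_factor : ∃ Y : Module.End ℤ_[p] M,
    (p : ℤ_[p]) • (1 : Module.End ℤ_[p] M) - normOp p X = (X - 1) * Y ∧ Commute X Y := by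
  refine ⟨-∑ j ∈ Finset.range p, ∑ i ∈ Finset.range j, X ^ i, ?_, ?_⟩
  · rw [mul_neg, Finset.mul_sum]
    simp only [mul_geom_sum, Finset.sum_sub_distrib, Finset.sum_const, Finset.card_range, neg_sub,
      normOp, Nat.cast_smul_eq_nsmul]
  · exact (Commute.sum_right _ _ _ fun j _ => Commute.sum_right _ _ _ fun i _ =>
      Commute.self_pow X i).neg_right

theorem smul_mem_range_sub {m : M} (hm : m ∈ LinearMap.ker (normOp p X)) :
    (p : ℤ_[p]) • m ∈ LinearMap.range (X - 1) := by
  obtain ⟨Y, hY, -⟩ := exists_factor (p := p) (X := X)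
  have h := congrArg (fun f : Module.End ℤ_[p] M => f m) hY
  simp only [LinearMap.sub_apply, LinearMap.smul_apply, Module.End.one_apply, LinearMap.mem_ker.mp hm,
    sub_zero, Module.End.mul_apply] at h
  exact ⟨Y m, h.symm⟩

theorem smul_cancel [IsDomain ℤ_[p]] [IsTorsionFree ℤ_[p] M] {a b : M}
    (h : (p : ℤ_[p]) • a = (p : ℤ_[p]) • b) : a = b :=
  smul_right_injective M (Nat.cast_ne_zero.mpr (Fact.out : p.Prime).ne_zero) h

theorem disjoint_ker [IsTorsionFree ℤ_[p] M] {m : M} (h1 : m ∈ LinearMap.ker (X - 1))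
    (h2 : m ∈ LinearMap.ker (normOp p X)) : m = 0 := by
  apply smul_cancel (p := p)
  rw [← normOp_apply_fixed h1, LinearMap.mem_ker.mp h2, smul_zero]

/-- The index of `p K` in a free lattice `K`. -/
theorem card_quot_smul (K : Type*) [AddCommGroup K] [Module ℤ_[p] K] [Module.Free ℤ_[p] K]
    [Module.Finite ℤ_[p] K] :
    (LinearMap.range ((p : ℤ_[p]) • (LinearMap.id : K →ₗ[ℤ_[p]] K))).toAddSubgroup.index
      = p ^ finrank ℤ_[p] K := by
  classical
  let b := Module.Free.chooseBasis ℤ_[p] K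
  let f : K →+ (Module.Free.ChooseBasisIndex ℤ_[p] K → ZMod p) :=
    { toFun := fun k i => PadicInt.toZMod (b.repr k i)
      map_zero' := by ext; simp
      map_add' := fun a c => by ext; simp }
  have hsurj : Function.Surjective f := fun v => by
    refine ⟨b.equivFun.symm fun i => ((v i).val : ℤ_[p]), funext fun i => ?_⟩
    show PadicInt.toZMod (b.repr _ i) = v i
    rw [← Module.Basis.equivFun_apply, LinearEquiv.apply_symm_apply, map_natCast, ZMod.natCast_zmod_val]
  have hker : f.ker = (LinearMap.range ((p : ℤ_[p]) • (LinearMap.id : K →ₗ[ℤ_[p]] K))).toAddSubgroup := by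
    ext k
    simp only [AddMonoidHom.mem_ker, Submodule.mem_toAddSubgroup, LinearMap.mem_range,
      LinearMap.smul_apply, LinearMap.id_apply]
    constructor
    · intro h
      have h' : ∀ i, ∃ c, b.repr k i = (p : ℤ_[p]) * c := fun i => by
        have : b.repr k i ∈ RingHom.ker (PadicInt.toZMod (p := p)) := congrFun h i
        rw [PadicInt.ker_toZMod, PadicInt.maximalIdeal_eq_span_p, Ideal.mem_span_singleton] at this
        exact this
      choose c hc using h'
      refine ⟨b.equivFun.symm c, b.equivFun.injective (funext fun i => ?_)⟩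
      rw [map_smul, LinearEquiv.apply_symm_apply, Pi.smul_apply, smul_eq_mul,
        Module.Basis.equivFun_apply, hc i]
    · rintro ⟨a, rfl⟩
      ext i
      show PadicInt.toZMod (b.repr ((p : ℤ_[p]) • a) i) = 0
      simp
  rw [← hker, AddSubgroup.index_ker, AddMonoidHom.range_eq_top.mpr hsurj]
  rw [AddSubgroup.card_top, Nat.card_fun, Nat.card_zmod,
    Module.finrank_eq_card_chooseBasisIndex, Nat.card_eq_fintype_card]

/-- The relative index of `p K` in a submodule `K` of a lattice. -/
theorem relIndex_smul [Module.Free ℤ_[p] M] [Module.Finite ℤ_[p] M] (K : Submodule ℤ_[p] M) :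
    (K.map ((p : ℤ_[p]) • (LinearMap.id : M →ₗ[ℤ_[p]] M))).toAddSubgroup.relIndex K.toAddSubgroup
      = p ^ finrank ℤ_[p] K := by
  rw [← card_quot_smul (p := p) K, AddSubgroup.relIndex]
  congr 1
  ext k
  simp only [AddSubgroup.mem_addSubgroupOf, Submodule.mem_toAddSubgroup, Submodule.mem_map,
    LinearMap.mem_range, LinearMap.smul_apply, LinearMap.id_apply]
  constructor
  · rintro ⟨a, ha, h⟩
    exact ⟨⟨a, ha⟩, Subtype.ext h⟩
  · rintro ⟨a, h⟩
    exact ⟨a, a.2, congrArg Subtype.val h⟩

/-- `p = (X - 1) ^ (p - 1) * unit` on the kernel of `T`. -/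
theorem exists_unit_factor : ∃ u : Polynomial ℤ, ∃ w : Polynomial ℤ,
    (p : Polynomial ℤ) = (Polynomial.X - 1) ^ (p - 1) * u + w * Polynomial.cyclotomic p ℤ := by
  have hp : p.Prime := Fact.out
  obtain ⟨ζ, hζ⟩ : ∃ ζ : ℂ, IsPrimitiveRoot ζ p :=
    ⟨_, Complex.isPrimitiveRoot_exp p hp.ne_zero⟩
  let u : Polynomial ℤ := Polynomial.C ((-1) ^ (p - 1)) *
    ∏ j ∈ Finset.range (p - 1), ∑ i ∈ Finset.range (j + 1), Polynomial.X ^ i
  refine ⟨u, ?_⟩
  suffices Polynomial.cyclotomic p ℤ ∣ (p : Polynomial ℤ) - (Polynomial.X - 1) ^ (p - 1) * u by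
    obtain ⟨w, hw⟩ := this
    exact ⟨w, by rw [mul_comm w, ← hw]; ring⟩
  rw [Polynomial.cyclotomic_eq_minpoly hζ hp.pos]
  apply minpoly.isIntegrallyClosed_dvd (hζ.isIntegral hp.pos)
  have hprod : ∏ k ∈ Finset.range (p - 1), (1 - ζ ^ (k + 1)) = (p : ℂ) := by
    obtain ⟨n, hn⟩ : ∃ n, p = n + 1 := ⟨p - 1, (Nat.succ_pred_eq_of_pos hp.pos).symm⟩
    rw [hn, Nat.add_sub_cancel]
    have hid : (Polynomial.X : Polynomial ℂ) ^ (n + 1) - Polynomial.C (1 ^ (n + 1)) =
        ∏ i ∈ Finset.range (n + 1), (Polynomial.X - Polynomial.C (ζ ^ i * 1)) :=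
      X_pow_sub_C_eq_prod (hn ▸ hζ) (Nat.succ_pos n) rfl
    rw [one_pow, Polynomial.C_1, Finset.prod_range_succ', ← geom_sum_mul] at hid
    simp only [pow_zero, mul_one, Polynomial.C_1] at hid
    have h' := congrArg (Polynomial.eval (1 : ℂ))
      (mul_right_cancel₀ (Polynomial.X_sub_C_ne_zero (1 : ℂ) |> fun h => by simpa using h) hid)
    simpa [Polynomial.eval_prod, Polynomial.eval_geom_sum] using h'.symm
  simp only [u, map_sub, map_natCast, map_mul, map_pow, Polynomial.aeval_X, map_one,
    map_prod, map_sum, map_neg]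
  rw [sub_eq_zero, ← hprod, ← mul_assoc, ← mul_pow]
  rw [show ((ζ - 1) * -1) ^ (p - 1) = ∏ _k ∈ Finset.range (p - 1), ((ζ - 1) * -1) by simp,
    ← Finset.prod_mul_distrib]
  refine Finset.prod_congr rfl fun j _ => ?_
  rw [← neg_sub (ζ ^ (j + 1)) 1, ← geom_sum_mul]
  ring

/-- On `ker T`, multiplication by `p` and `(X-1)^(p-1)` have the same image. -/
theorem map_sub_pow_eq :
    (LinearMap.ker (normOp p X)).map ((X - 1) ^ (p - 1)) =
      (LinearMap.ker (normOp p X)).map ((p : ℤ_[p]) • LinearMap.id) := by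
  have hp : p.Prime := Fact.out
  obtain ⟨u, w, huw⟩ := exists_unit_factor (p := p)
  let F : Polynomial ℤ →+* Module.End ℤ_[p] M := (Polynomial.aeval X).toRingHom
  have hFX : F Polynomial.X = X := by simp [F]
  have hFc : F (Polynomial.cyclotomic p ℤ) = normOp p X := by
    rw [Polynomial.cyclotomic_prime, map_sum]
    simp [normOp, hFX]
  have key : ∀ m ∈ LinearMap.ker (normOp p X),
      (p : ℤ_[p]) • m = ((X - 1) ^ (p - 1)) (F u m) := by
    intro m hm
    have h := congrArg (fun f : Module.End ℤ_[p] M => f m) (congrArg F huw)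
    simp only [map_natCast, map_add, map_mul, map_pow, map_sub, map_one, hFX, hFc,
      LinearMap.add_apply, Module.End.mul_apply, LinearMap.mem_ker.mp hm, map_zero, add_zero] at h
    rw [Nat.cast_smul_eq_nsmul]
    rwa [Module.End.natCast_apply] at h
  have hcomm : ∀ q : Polynomial ℤ, ∀ m ∈ LinearMap.ker (normOp p X),
      F q m ∈ LinearMap.ker (normOp p X) := by
    intro q m hm
    rw [LinearMap.mem_ker, ← hFc, ← Module.End.mul_apply, ← map_mul, mul_comm, map_mul,
      Module.End.mul_apply, hFc, LinearMap.mem_ker.mp hm, map_zero]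
  apply le_antisymm
  · rintro _ ⟨m, hm, rfl⟩
    -- `(X-1)^(p-1) ≡ cyclotomic` modulo `p`
    obtain ⟨v, hv⟩ : Polynomial.C (p : ℤ) ∣
        Polynomial.cyclotomic p ℤ - (Polynomial.X - 1) ^ (p - 1) := by
      rw [Polynomial.C_dvd_iff_dvd_coeff]
      intro i
      rw [← ZMod.intCast_zmod_eq_zero_iff_dvd]
      show (Int.castRingHom (ZMod p)) _ = 0
      rw [← Polynomial.coeff_map]
      have hc := Polynomial.cyclotomic_mul_prime_eq_pow_of_not_dvd (ZMod p) (n := 1)
        (Nat.Prime.not_dvd_one hp)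
      rw [one_mul, Polynomial.cyclotomic_one] at hc
      simp [Polynomial.map_sub, Polynomial.map_pow, Polynomial.map_cyclotomic, hc]
    have h := congrArg (fun f : Module.End ℤ_[p] M => f m) (congrArg F hv)
    simp only [map_sub, map_pow, map_mul, hFX, hFc, map_one, LinearMap.sub_apply,
      LinearMap.mem_ker.mp hm, zero_sub, Module.End.mul_apply,
      map_natCast, Module.End.natCast_apply] at h
    refine ⟨-(F v m), neg_mem (hcomm v m hm), ?_⟩
    rw [LinearMap.smul_apply, LinearMap.id_apply, smul_neg, Nat.cast_smul_eq_nsmul, ← h, neg_neg]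
  · rintro _ ⟨m, hm, rfl⟩
    exact ⟨F u m, hcomm u m hm, (key m hm).symm⟩

variable [Module.Free ℤ_[p] M] [Module.Finite ℤ_[p] M]

theorem exists_generators_zmod {Q : Type*} [AddCommGroup Q] [Module (ZMod p) Q] {r : ℕ}
    (hQc : Nat.card Q = p ^ r) :
    ∃ s : Fin r → Q, ∀ x, ∃ c : Fin r → ℕ, x = ∑ l, c l • s l := by
  have hp : p.Prime := Fact.out
  have : Finite Q := Nat.finite_of_card_ne_zero (by rw [hQc]; exact pow_ne_zero _ hp.ne_zero)
  have hf : Module.Finite (ZMod p) Q := Module.Finite.of_finite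
  have hQr : finrank (ZMod p) Q = r := by
    have h := Module.natCard_eq_pow_finrank (K := ZMod p) (V := Q)
    rw [hQc, Nat.card_zmod] at h
    exact (Nat.pow_right_injective hp.two_le h).symm
  let bQ := Module.finBasisOfFinrankEq (ZMod p) Q hQr
  refine ⟨bQ, fun x => ⟨fun l => (bQ.repr x l).val, ?_⟩⟩
  conv_lhs => rw [← bQ.sum_repr x]
  refine Finset.sum_congr rfl fun l _ => ?_
  rw [← Nat.cast_smul_eq_nsmul (ZMod p), ZMod.natCast_zmod_val]

/-- A group of exponent `p` and order `p ^ r` has `r` generators. -/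
theorem exists_generators {Q : Type*} [AddCommGroup Q] (hQp : ∀ x : Q, p • x = 0) {r : ℕ}
    (hQc : Nat.card Q = p ^ r) :
    ∃ s : Fin r → Q, ∀ x, ∃ c : Fin r → ℕ, x = ∑ l, c l • s l :=
  @exists_generators_zmod p _ Q _ (AddCommGroup.zmodModule hQp) r hQc

omit [Module.Free ℤ_[p] M] in
/-- A submodule that generates modulo `p` is everything. -/
theorem eq_top_of_sup_smul {N : Submodule ℤ_[p] M}
    (h : ∀ m : M, ∃ n ∈ N, ∃ a : M, m = n + (p : ℤ_[p]) • a) : N = ⊤ := by
  refine top_unique (Submodule.le_of_le_smul_of_le_jacobson_bot (I := Ideal.span {(p : ℤ_[p])})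
    Module.Finite.fg_top ?_ ?_)
  · rw [IsLocalRing.jacobson_eq_maximalIdeal ⊥ bot_ne_top, PadicInt.maximalIdeal_eq_span_p]
  · intro m _
    obtain ⟨n, hn, a, rfl⟩ := h m
    exact Submodule.add_mem_sup hn (Submodule.smul_mem_smul (Ideal.mem_span_singleton_self _)
      Submodule.mem_top)

/-- The trace of an operator commuting with `X` splits over the two kernels. -/
theorem trace_split (hX : X ^ p = 1) (f : Module.End ℤ_[p] M)
    (h0 : ∀ m ∈ LinearMap.ker (X - 1), f m ∈ LinearMap.ker (X - 1))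
    (h1 : ∀ m ∈ LinearMap.ker (normOp p X), f m ∈ LinearMap.ker (normOp p X)) :
    LinearMap.trace ℤ_[p] M f = LinearMap.trace ℤ_[p] _ (f.restrict h0) +
      LinearMap.trace ℤ_[p] _ (f.restrict h1) := by
  set T := normOp p X with hT
  let T0 : M →ₗ[ℤ_[p]] LinearMap.ker (X - 1) :=
    T.codRestrict _ fun m => range_normOp_le hX ⟨m, rfl⟩
  have hmem : ∀ m : M, ((p : ℤ_[p]) • (1 : Module.End ℤ_[p] M) - T) m ∈ LinearMap.ker T := by
    intro m
    obtain ⟨Y, hY, -⟩ := exists_factor (p := p) (X := X)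
    rw [hT, hY]
    exact range_sub_le hX ⟨Y m, rfl⟩
  let T1 : M →ₗ[ℤ_[p]] LinearMap.ker T :=
    ((p : ℤ_[p]) • (1 : Module.End ℤ_[p] M) - T).codRestrict _ hmem
  have e0 : LinearMap.trace ℤ_[p] M (f ∘ₗ T) =
      (p : ℤ_[p]) * LinearMap.trace ℤ_[p] _ (f.restrict h0) := by
    rw [show f ∘ₗ T = (f ∘ₗ (LinearMap.ker (X - 1)).subtype) ∘ₗ T0 from rfl,
      LinearMap.trace_comp_comm', ← smul_eq_mul, ← map_smul]
    congr 1
    refine LinearMap.ext fun k => Subtype.ext ?_
    exact normOp_apply_fixed (h0 k k.2)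
  have e1 : LinearMap.trace ℤ_[p] M (f ∘ₗ ((p : ℤ_[p]) • (1 : Module.End ℤ_[p] M) - T)) =
      (p : ℤ_[p]) * LinearMap.trace ℤ_[p] _ (f.restrict h1) := by
    rw [show f ∘ₗ ((p : ℤ_[p]) • (1 : Module.End ℤ_[p] M) - T) =
        (f ∘ₗ (LinearMap.ker T).subtype) ∘ₗ T1 from rfl,
      LinearMap.trace_comp_comm', ← smul_eq_mul, ← map_smul]
    congr 1
    refine LinearMap.ext fun k => Subtype.ext ?_
    show (p : ℤ_[p]) • f k - T (f k) = (p : ℤ_[p]) • f k
    rw [show T (f k) = 0 from LinearMap.mem_ker.mp (h1 k k.2), sub_zero]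
  apply mul_left_cancel₀ (show (p : ℤ_[p]) ≠ 0 from
    Nat.cast_ne_zero.mpr (Fact.out : p.Prime).ne_zero)
  rw [mul_add, ← e0, ← e1, ← map_add, ← LinearMap.comp_add, add_sub_cancel,
    LinearMap.comp_smul, map_smul, smul_eq_mul]
  rfl

theorem finrank_split (hX : X ^ p = 1) :
    finrank ℤ_[p] M = finrank ℤ_[p] (LinearMap.ker (X - 1)) +
      finrank ℤ_[p] (LinearMap.ker (normOp p X)) := by
  have h := trace_split hX (1 : Module.End ℤ_[p] M) (fun m hm => hm) (fun m hm => hm)
  rw [show (1 : Module.End ℤ_[p] M).restrict (p := LinearMap.ker (X - 1)) (fun m hm => hm) = 1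
    from LinearMap.ext fun _ => rfl, show (1 : Module.End ℤ_[p] M).restrict
      (p := LinearMap.ker (normOp p X)) (fun m hm => hm) = 1 from LinearMap.ext fun _ => rfl,
    LinearMap.trace_one, LinearMap.trace_one, LinearMap.trace_one] at h
  exact_mod_cast h

/-- The order of the first section. -/
noncomputable def cardA (X : Module.End ℤ_[p] M) : ℕ :=
  (LinearMap.range (normOp p X)).toAddSubgroup.relIndex (LinearMap.ker (X - 1)).toAddSubgroup

/-- The order of the second section. -/
noncomputable def cardB (X : Module.End ℤ_[p] M) : ℕ :=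
  (LinearMap.range (X - 1)).toAddSubgroup.relIndex (LinearMap.ker (normOp p X)).toAddSubgroup

/-- The index of the sum of the two kernels. -/
noncomputable def cardI (X : Module.End ℤ_[p] M) : ℕ :=
  (LinearMap.ker (X - 1) ⊔ LinearMap.ker (normOp p X)).toAddSubgroup.index

omit [Module.Free ℤ_[p] M] [Module.Finite ℤ_[p] M] in
theorem relIndex_map_range (f : Module.End ℤ_[p] M) (K : Submodule ℤ_[p] M) :
    (K.map f).toAddSubgroup.relIndex (LinearMap.range f).toAddSubgroup =
      (K ⊔ LinearMap.ker f).toAddSubgroup.index := by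
  rw [LinearMap.range_eq_map, Submodule.map_toAddSubgroup, Submodule.map_toAddSubgroup,
    AddSubgroup.relIndex_map_map, Submodule.top_toAddSubgroup, top_sup_eq,
    AddSubgroup.relIndex_top_right, Submodule.sup_toAddSubgroup]
  rfl

theorem cardI_mul_cardA (hX : X ^ p = 1) :
    cardI X * cardA X = p ^ finrank ℤ_[p] (LinearMap.ker (X - 1)) := by
  have hmap : (LinearMap.ker (X - 1)).map (normOp p X) =
      (LinearMap.ker (X - 1)).map ((p : ℤ_[p]) • LinearMap.id) := by
    ext m
    simp only [Submodule.mem_map, LinearMap.smul_apply, LinearMap.id_apply]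
    constructor <;> rintro ⟨a, ha, rfl⟩ <;> exact ⟨a, ha, by rw [normOp_apply_fixed ha]⟩
  rw [← relIndex_smul, ← hmap, cardI, cardA, ← relIndex_map_range (normOp p X)]
  exact AddSubgroup.relIndex_mul_relIndex _ _ _
    (Submodule.toAddSubgroup_mono (LinearMap.map_le_range)) (Submodule.toAddSubgroup_mono (range_normOp_le hX))

/-- `X - 1` on the kernel of `T`. -/
noncomputable def subK (hX : X ^ p = 1) : Module.End ℤ_[p] (LinearMap.ker (normOp p X)) :=
  (X - 1).restrict fun m _ => range_sub_le hX ⟨m, rfl⟩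

theorem subK_injective (hX : X ^ p = 1) : Function.Injective (subK hX) := by
  rw [injective_iff_map_eq_zero]
  exact fun k hk => Subtype.ext (disjoint_ker (congrArg Subtype.val hk) k.2)

omit [Module.Free ℤ_[p] M] [Module.Finite ℤ_[p] M] in
theorem subK_pow_apply (hX : X ^ p = 1) (n : ℕ) (k : LinearMap.ker (normOp p X)) :
    (((subK hX) ^ n) k : M) = ((X - 1) ^ n) k := by
  induction n with
  | zero => rfl
  | succ n ih => rw [pow_succ', pow_succ', Module.End.mul_apply, Module.End.mul_apply, ← ih]; rfl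

theorem range_subK_pow (hX : X ^ p = 1) :
    LinearMap.range ((subK hX) ^ (p - 1)) =
      LinearMap.range ((p : ℤ_[p]) • (LinearMap.id : LinearMap.ker (normOp p X) →ₗ[ℤ_[p]] _)) := by
  apply Submodule.map_injective_of_injective (LinearMap.ker (normOp p X)).injective_subtype
  rw [← LinearMap.range_comp, ← LinearMap.range_comp]
  have h := map_sub_pow_eq (p := p) (X := X)
  rw [← LinearMap.range_domRestrict, ← LinearMap.range_domRestrict] at h
  convert h using 2
  · exact LinearMap.ext fun k => subK_pow_apply hX _ k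
  · exact LinearMap.ext fun k => rfl

theorem index_range_subK (hX : X ^ p = 1) :
    (LinearMap.range (subK hX)).toAddSubgroup.index ^ (p - 1) =
      p ^ finrank ℤ_[p] (LinearMap.ker (normOp p X)) := by
  rw [← card_quot_smul, ← range_subK_pow hX]
  induction (p - 1) with
  | zero => simp [Module.End.one_eq_id]
  | succ n ih =>
    rw [pow_succ, ih, pow_succ' (subK hX) n, Module.End.mul_eq_comp, LinearMap.range_comp,
      Submodule.map_toAddSubgroup, AddSubgroup.index_map_of_injective _ (subK_injective hX)]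
    rfl

theorem cardI_mul_cardB (hX : X ^ p = 1) :
    cardI X * cardB X = (LinearMap.range (subK hX)).toAddSubgroup.index := by
  have hle : (LinearMap.ker (normOp p X)).map (X - 1) ≤ LinearMap.range (X - 1) :=
    LinearMap.map_le_range
  rw [cardI, cardB, sup_comm, ← relIndex_map_range (X - 1),
    AddSubgroup.relIndex_mul_relIndex _ _ _ (Submodule.toAddSubgroup_mono hle)
      (Submodule.toAddSubgroup_mono (range_sub_le hX))]
  rw [AddSubgroup.relIndex]
  congr 1
  ext k
  simp only [AddSubgroup.mem_addSubgroupOf, Submodule.mem_toAddSubgroup, Submodule.mem_map,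
    LinearMap.mem_range]
  constructor
  · rintro ⟨a, ha, h⟩
    exact ⟨⟨a, ha⟩, Subtype.ext h⟩
  · rintro ⟨a, h⟩
    exact ⟨a, a.2, congrArg Subtype.val h⟩

theorem trace_ker_normOp (hX : X ^ p = 1) {r : ℕ}
    (hr : (LinearMap.range (subK hX)).toAddSubgroup.index = p ^ r)
    (h1 : ∀ m ∈ LinearMap.ker (normOp p X), X m ∈ LinearMap.ker (normOp p X)) :
    LinearMap.trace ℤ_[p] _ (X.restrict h1) = -(r : ℤ_[p]) := by
  classical
  have hp : p.Prime := Fact.out
  obtain ⟨q, hq⟩ : ∃ q, p - 1 = q + 1 := ⟨p - 2, by have := hp.two_le; omega⟩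
  have hrank : finrank ℤ_[p] (LinearMap.ker (normOp p X)) = (q + 1) * r := by
    have := index_range_subK hX
    rw [hr, ← pow_mul, hq, mul_comm] at this
    exact (Nat.pow_right_injective hp.two_le this).symm
  set K := LinearMap.ker (normOp p X)
  set Y : Module.End ℤ_[p] K := X.restrict h1
  set U := subK hX
  have hUY : U = Y - 1 := LinearMap.ext fun k => Subtype.ext rfl
  -- generators modulo the image of `U`
  have hQp : ∀ x : (↥K ⧸ LinearMap.range U), p • x = 0 := by
    intro x
    obtain ⟨k, rfl⟩ := Submodule.Quotient.mk_surjective _ x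
    rw [← Submodule.Quotient.mk_smul, Submodule.Quotient.mk_eq_zero]
    obtain ⟨a, ha⟩ : p • k ∈ LinearMap.range (U ^ (p - 1)) := by
      rw [range_subK_pow hX]
      exact ⟨k, by simp [Nat.cast_smul_eq_nsmul]⟩
    rw [hq, pow_succ', Module.End.mul_apply] at ha
    exact ⟨_, ha⟩
  obtain ⟨bQ, hbQ⟩ := exists_generators hQp hr
  choose s hs using fun l => Submodule.Quotient.mk_surjective (LinearMap.range U) (bQ l)
  let b : Fin (q + 1) × Fin r → K := fun x => (Y ^ x.1.val) (s x.2)
  let S := Submodule.span ℤ_[p] (Set.range b)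
  have hYp : ∑ j ∈ Finset.range (q + 1 + 1), Y ^ j = 0 := by
    rw [show q + 1 + 1 = p by have := hp.two_le; omega]
    refine LinearMap.ext fun k => Subtype.ext ?_
    have hpow : ∀ j, (((Y ^ j) k : K) : M) = (X ^ j) k := by
      intro j
      induction j with
      | zero => rfl
      | succ j ih => rw [pow_succ', pow_succ', Module.End.mul_apply, Module.End.mul_apply, ← ih]; rfl
    rw [LinearMap.sum_apply, AddSubmonoidClass.coe_finsetSum]
    simp only [hpow]
    rw [← LinearMap.sum_apply]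
    exact k.2
  have hlast : ∀ l, (Y ^ (q + 1)) (s l) = -∑ j : Fin (q + 1), b (j, l) := by
    intro l
    rw [eq_neg_iff_add_eq_zero]
    have := congrArg (fun f : Module.End ℤ_[p] K => f (s l)) hYp
    simp only [LinearMap.zero_apply, Finset.sum_range_succ _ (q + 1), LinearMap.add_apply,
      LinearMap.sum_apply, Finset.sum_range] at this
    rw [add_comm]
    exact this
  have hb : ∀ j l, Y (b (j, l)) ∈ S := by
    intro j l
    show Y ((Y ^ j.val) (s l)) ∈ S
    rw [← Module.End.mul_apply, ← pow_succ']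
    by_cases hj : j.val + 1 < q + 1
    · exact Submodule.subset_span ⟨(⟨j.val + 1, hj⟩, l), rfl⟩
    · rw [show j.val + 1 = q + 1 by omega, hlast]
      exact neg_mem (sum_mem fun i _ => Submodule.subset_span ⟨(i, l), rfl⟩)
  have hYS : ∀ k ∈ S, Y k ∈ S := by
    intro k hk
    have : S ≤ S.comap Y := Submodule.span_le.mpr fun x ⟨⟨j, l⟩, hx⟩ => hx ▸ hb j l
    exact this hk
  have hUS : ∀ k ∈ S, U k ∈ S := fun k hk => by
    rw [hUY, LinearMap.sub_apply, Module.End.one_apply]
    exact sub_mem (hYS k hk) hk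
  have hgen : ∀ k : K, ∃ n ∈ S, ∃ a, k = n + U a := by
    intro k
    obtain ⟨c, hc⟩ := hbQ (Submodule.Quotient.mk k)
    refine ⟨∑ l, (c l : ℤ_[p]) • s l, sum_mem fun l _ => S.smul_mem _
      (Submodule.subset_span ⟨(⟨0, by omega⟩, l), by simp [b]⟩), ?_⟩
    have : k - ∑ l, (c l : ℤ_[p]) • s l ∈ LinearMap.range U := by
      rw [← Submodule.Quotient.mk_eq_zero, Submodule.Quotient.mk_sub, sub_eq_zero, hc,
        ← Submodule.mkQ_apply, map_sum]
      refine Finset.sum_congr rfl fun l _ => ?_
      rw [map_smul, Submodule.mkQ_apply, hs, Nat.cast_smul_eq_nsmul]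
    obtain ⟨a, ha⟩ := this
    exact ⟨a, by rw [ha]; abel⟩
  have hpowS : ∀ (n : ℕ) (k : K), ∃ m ∈ S, ∃ a, k = m + (U ^ n) a := by
    intro n
    induction n with
    | zero => exact fun k => ⟨0, S.zero_mem, k, by simp⟩
    | succ n ih =>
      intro k
      obtain ⟨m, hm, a, rfl⟩ := ih k
      obtain ⟨m', hm', a', rfl⟩ := hgen a
      refine ⟨m + (U ^ n) m', add_mem hm ?_, a', ?_⟩
      · clear ih
        induction n with
        | zero => simpa using hm'
        | succ n ih' => rw [pow_succ', Module.End.mul_apply]; exact hUS _ ih'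
      · rw [map_add, pow_succ, Module.End.mul_apply]; abel
  have htop : S = ⊤ := by
    apply eq_top_of_sup_smul
    intro k
    obtain ⟨m, hm, a, rfl⟩ := hpowS (p - 1) k
    obtain ⟨c, hc⟩ : (U ^ (p - 1)) a ∈
        LinearMap.range ((p : ℤ_[p]) • (LinearMap.id : K →ₗ[ℤ_[p]] _)) := by
      rw [← range_subK_pow hX]; exact ⟨a, rfl⟩
    exact ⟨m, hm, c, by rw [← hc]; rfl⟩
  let B := basisOfTopLeSpanOfCardEqFinrank b htop.ge
    (by rw [Fintype.card_prod, Fintype.card_fin, Fintype.card_fin, hrank])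
  have hB : ∀ x, B x = b x := fun x => by
    simp [B]
  rw [LinearMap.trace_eq_matrix_trace ℤ_[p] B, Matrix.trace]
  simp only [Matrix.diag_apply, LinearMap.toMatrix_apply]
  rw [Fintype.sum_prod_type, Fin.sum_univ_castSucc]
  have hdiag : ∀ (j : Fin q) (l : Fin r), B.repr (Y (B (j.castSucc, l))) (j.castSucc, l) = 0 := by
    intro j l
    have : Y (B (j.castSucc, l)) = B (j.succ, l) := by
      rw [hB, hB]
      show Y ((Y ^ j.val) (s l)) = (Y ^ (j.val + 1)) (s l)
      rw [pow_succ', Module.End.mul_apply]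
    rw [this, Module.Basis.repr_self, Finsupp.single_eq_of_ne]
    intro h
    have := congrArg (fun x => (x.1 : ℕ)) h
    simp at this
  have hend : ∀ l : Fin r, B.repr (Y (B (Fin.last q, l))) (Fin.last q, l) = -1 := by
    intro l
    have : Y (B (Fin.last q, l)) = -∑ j : Fin (q + 1), B (j, l) := by
      simp only [hB]
      rw [← hlast l]
      show Y ((Y ^ q) (s l)) = _
      rw [pow_succ', Module.End.mul_apply]
    rw [this, map_neg, map_sum, Finsupp.neg_apply, Finsupp.finsetSum_apply,
      Finset.sum_eq_single (Fin.last q)]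
    · simp
    · intro i _ hi
      rw [Module.Basis.repr_self, Finsupp.single_eq_of_ne]
      simpa using Ne.symm hi
    · simp
  simp [hdiag, hend]

/-- The trace formula: `cardA = p^a`, `cardB = p^b` give trace `a - b`. -/
theorem trace_eq_sub (hX : X ^ p = 1) {a b : ℕ} (ha : cardA X = p ^ a) (hb : cardB X = p ^ b) :
    LinearMap.trace ℤ_[p] M X = (a : ℤ_[p]) - b := by
  have hp : p.Prime := Fact.out
  have hA := cardI_mul_cardA (M := M) hX
  have hB := cardI_mul_cardB (M := M) hX
  obtain ⟨i, -, hi⟩ : ∃ i ≤ finrank ℤ_[p] (LinearMap.ker (X - 1)), cardI X = p ^ i :=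
    (Nat.dvd_prime_pow hp).mp ⟨_, hA.symm⟩
  rw [hi, ha, ← pow_add] at hA
  rw [hi, hb, ← pow_add] at hB
  have h0 : ∀ m ∈ LinearMap.ker (X - 1), X m ∈ LinearMap.ker (X - 1) := fun m hm => by
    rw [apply_of_mem_ker_sub hm]; exact hm
  have h1 : ∀ m ∈ LinearMap.ker (normOp p X), X m ∈ LinearMap.ker (normOp p X) := fun m hm => by
    have : X m = (X - 1) m + m := by simp
    rw [this]
    exact add_mem (range_sub_le hX ⟨m, rfl⟩) hm
  rw [trace_split hX X h0 h1, trace_ker_normOp hX hB.symm h1,
    show X.restrict h0 = 1 from LinearMap.ext fun k => Subtype.ext (apply_of_mem_ker_sub k.2),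
    LinearMap.trace_one, ← Nat.pow_right_injective hp.two_le hA]
  push_cast
  ring

/-- With both sections trivial, an operator of order prime to `p` times `X` has trace zero. -/
theorem trace_eq_zero_of_trivial (hX : X ^ p = 1) (ha : cardA X = 1) (hb : cardB X = 1)
    (v : Module.End ℤ_[p] M) {m : ℕ} (hvm : v ^ m = 1) (hm : ¬ p ∣ m) (hvX : Commute v X) :
    LinearMap.trace ℤ_[p] M (X * v) = 0 := by
  classical
  have hp : p.Prime := Fact.out
  set T := normOp p X with hT
  set K := LinearMap.ker (X - 1)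
  have hrT : LinearMap.range T = K := Submodule.toAddSubgroup_injective <|
    le_antisymm (Submodule.toAddSubgroup_mono (range_normOp_le hX))
      (AddSubgroup.relIndex_eq_one.mp ha)
  have hrU : LinearMap.range (X - 1) = LinearMap.ker T := Submodule.toAddSubgroup_injective <|
    le_antisymm (Submodule.toAddSubgroup_mono (range_sub_le hX))
      (AddSubgroup.relIndex_eq_one.mp hb)
  have hA := cardI_mul_cardA (M := M) hX
  have hB := cardI_mul_cardB (M := M) hX
  rw [ha] at hA; rw [hb] at hB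
  set r := finrank ℤ_[p] K with hr
  have hK1 : finrank ℤ_[p] (LinearMap.ker T) = (p - 1) * r := by
    have := index_range_subK hX
    rw [← hB, hA, ← pow_mul, mul_comm] at this
    exact (Nat.pow_right_injective hp.two_le this).symm
  have hrank : finrank ℤ_[p] M = p * r := by
    rw [finrank_split hX, hK1]
    show r + (p - 1) * r = p * r
    conv_rhs => rw [show p = 1 + (p - 1) by have := hp.two_le; omega, Nat.add_mul, one_mul]
  -- a `v`-equivariant section of `T`
  let T' : M →ₗ[ℤ_[p]] K := T.codRestrict K fun a => range_normOp_le hX ⟨a, rfl⟩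
  have hT' : Function.Surjective T' := fun k => by
    obtain ⟨a, ha'⟩ := hrT.ge k.2
    exact ⟨a, Subtype.ext ha'⟩
  obtain ⟨g, hg⟩ := Module.projective_lifting_property T' LinearMap.id hT'
  have hvT : Commute v T := by
    rw [hT, normOp]; exact Commute.sum_right _ _ _ fun j _ => hvX.pow_right j
  have hvK : ∀ (n : ℕ), ∀ k ∈ K, (v ^ n) k ∈ K := fun n k hk => by
    show (X - 1) ((v ^ n) k) = 0
    rw [← Module.End.mul_apply, ← ((hvX.sub_right (Commute.one_right v)).pow_left n).eq,
      Module.End.mul_apply, LinearMap.mem_ker.mp hk, map_zero]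
  obtain ⟨c, hc⟩ : IsUnit (m : ℤ_[p]) := by
    rw [PadicInt.isUnit_iff]
    refine le_antisymm (PadicInt.norm_le_one _) (not_lt.mp fun h => hm ?_)
    exact Int.natCast_dvd_natCast.mp ((PadicInt.norm_int_lt_one_iff_dvd (m : ℤ)).mp (by simpa using h))
  have hm0 : m ≠ 0 := fun h => hm (h ▸ dvd_zero p)
  let term : ℕ → (K →ₗ[ℤ_[p]] M) := fun n =>
    (v ^ n) ∘ₗ g ∘ₗ ((v ^ (n * (m - 1))).restrict (hvK _))
  have hvmul : ∀ a, v ^ (m * a) = 1 := fun a => by rw [pow_mul, hvm, one_pow]
  let σ : K →ₗ[ℤ_[p]] M := (↑c⁻¹ : ℤ_[p]) • ∑ n ∈ Finset.range m, term n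
  have hTσ : ∀ k : K, T (σ k) = k := by
    intro k
    have : ∀ n, T (term n k) = k := by
      intro n
      show T ((v ^ n) (g _)) = k
      rw [← Module.End.mul_apply, ← (hvT.pow_left n).eq, Module.End.mul_apply]
      have := congrArg Subtype.val (LinearMap.congr_fun hg ((v ^ (n * (m - 1))).restrict (hvK _) k))
      simp only [LinearMap.comp_apply, LinearMap.id_apply] at this
      rw [show T (g ((v ^ (n * (m - 1))).restrict (hvK _) k)) = _ from this]
      show (v ^ n) ((v ^ (n * (m - 1))) k) = k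
      rw [← Module.End.mul_apply, ← pow_add, show n + n * (m - 1) = m * n by
        conv_lhs => rw [show n = n * 1 from (mul_one n).symm]
        rw [mul_assoc, one_mul, ← Nat.mul_add, mul_comm n, show 1 + (m - 1) = m by omega],
        hvmul]
      rfl
    simp only [σ, LinearMap.smul_apply, LinearMap.sum_apply, map_smul, map_sum, this,
      Finset.sum_const, Finset.card_range]
    rw [← Nat.cast_smul_eq_nsmul ℤ_[p], smul_smul, ← hc, Units.inv_mul, one_smul]
  have hper : ∀ k, term m k = term 0 k := fun k => by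
    show (v ^ m) (g _) = (v ^ 0) (g _)
    rw [hvm, pow_zero]
    congr 2
    refine Subtype.ext ?_
    show (v ^ (m * (m - 1))) (k : M) = (v ^ (0 * (m - 1))) (k : M)
    rw [hvmul, zero_mul, pow_zero]
  have hvσ : ∀ k : K, v (σ k) = σ (v.restrict (fun a ha' => by simpa using hvK 1 a ha') k) := by
    intro k
    simp only [σ, LinearMap.smul_apply, LinearMap.sum_apply, map_smul, map_sum]
    congr 1
    have : ∀ n, v (term n k) = term (n + 1) (v.restrict (fun a ha' => by simpa using hvK 1 a ha') k) := by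
      intro n
      show v ((v ^ n) (g _)) = (v ^ (n + 1)) (g _)
      rw [pow_succ', Module.End.mul_apply]
      congr 2
      congr 1
      refine Subtype.ext ?_
      show (v ^ (n * (m - 1))) (k : M) = (v ^ ((n + 1) * (m - 1))) (v k)
      rw [← Module.End.mul_apply, ← pow_succ, show (n + 1) * (m - 1) + 1 = n * (m - 1) + m * 1 by
        rw [Nat.add_mul]; omega, pow_add, hvmul, mul_one]
    simp only [this]
    set k' := v.restrict (fun a ha' => by simpa using hvK 1 a ha') k
    have h1 := Finset.sum_range_succ (fun n => term n k') m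
    have h2 := Finset.sum_range_succ' (fun n => term n k') m
    rw [hper] at h1
    exact add_right_cancel (h2.symm.trans h1)
  -- the basis
  let e := Module.finBasisOfFinrankEq ℤ_[p] K hr.symm
  let b : Fin p × Fin r → M := fun x => (X ^ x.1.val) (σ (e x.2))
  set S := Submodule.span ℤ_[p] (Set.range b) with hS
  have hnext : ∀ (j : Fin p) (k : K), X ((X ^ j.val) (σ k)) = (X ^ (j + 1 : Fin p).val) (σ k) := by
    intro j k
    rw [← Module.End.mul_apply, ← pow_succ', Fin.val_add_eq_ite]
    have h1 : ((1 : Fin p) : ℕ) = 1 := by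
      rw [Fin.val_one', Nat.mod_eq_of_lt hp.one_lt]
    rw [h1]
    split_ifs with h
    · have : j.val + 1 = p := le_antisymm j.isLt h
      rw [this, hX, Nat.sub_self, pow_zero]
    · rfl
  have hXS : ∀ a ∈ S, X a ∈ S := by
    intro a ha'
    have : S ≤ S.comap X := Submodule.span_le.mpr fun x ⟨⟨j, l⟩, hx⟩ =>
      Submodule.mem_comap.mpr (hx ▸ Submodule.subset_span ⟨(j + 1, l), (hnext j (e l)).symm⟩)
    exact this ha'
  have hgen : ∀ a : M, ∃ n ∈ S, ∃ a', a = n + (X - 1) a' := by
    intro a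
    refine ⟨σ (T' a), ?_, ?_⟩
    · rw [← e.sum_repr (T' a), map_sum]
      refine sum_mem fun l _ => ?_
      rw [map_smul]
      exact S.smul_mem _ (Submodule.subset_span ⟨(⟨0, hp.pos⟩, l), by simp [b]⟩)
    · have : a - σ (T' a) ∈ LinearMap.range (X - 1) := by
        rw [hrU, LinearMap.mem_ker, map_sub, hTσ]
        exact sub_self _
      obtain ⟨a', ha'⟩ := this
      exact ⟨a', by rw [ha']; abel⟩
  have htop : S = ⊤ := by
    apply eq_top_of_sup_smul
    have hpow : ∀ (n : ℕ) (a : M), ∃ s ∈ S, ∃ a', a = s + ((X - 1) ^ n) a' := by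
      intro n
      induction n with
      | zero => exact fun a => ⟨0, S.zero_mem, a, by simp⟩
      | succ n ih =>
        intro a
        obtain ⟨s, hs, a', rfl⟩ := ih a
        obtain ⟨s', hs', a'', rfl⟩ := hgen a'
        refine ⟨s + ((X - 1) ^ n) s', add_mem hs ?_, a'', ?_⟩
        · clear ih
          induction n with
          | zero => simpa using hs'
          | succ n ih' =>
            rw [pow_succ', Module.End.mul_apply, LinearMap.sub_apply, Module.End.one_apply]
            exact sub_mem (hXS _ ih') ih'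
        · rw [map_add, pow_succ, Module.End.mul_apply]; abel
    intro a
    obtain ⟨s, hs, a', rfl⟩ := hpow p a
    obtain ⟨c', -, hc'⟩ : ((X - 1) ^ p) a' ∈
        (LinearMap.ker T).map ((p : ℤ_[p]) • LinearMap.id) := by
      rw [← map_sub_pow_eq]
      refine ⟨(X - 1) a', range_sub_le hX ⟨a', rfl⟩, ?_⟩
      rw [← Module.End.mul_apply, ← pow_succ, Nat.sub_add_cancel hp.one_le]
    exact ⟨s, hs, c', by rw [← hc']; rfl⟩
  let B := basisOfTopLeSpanOfCardEqFinrank b htop.ge
    (by rw [Fintype.card_prod, Fintype.card_fin, Fintype.card_fin, hrank])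
  have hB' : ∀ x, B x = b x := fun x => by simp [B]
  rw [LinearMap.trace_eq_matrix_trace ℤ_[p] B, Matrix.trace]
  refine Finset.sum_eq_zero fun x _ => ?_
  obtain ⟨j, l⟩ := x
  rw [Matrix.diag_apply, LinearMap.toMatrix_apply, hB']
  show B.repr ((X * v) ((X ^ j.val) (σ (e l)))) (j, l) = 0
  rw [Module.End.mul_apply, ← Module.End.mul_apply v, (hvX.pow_right _).eq, Module.End.mul_apply,
    hvσ, hnext, ← e.sum_repr (v.restrict _ (e l)), map_sum, map_sum, map_sum,
    Finsupp.finsetSum_apply]
  refine Finset.sum_eq_zero fun i _ => ?_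
  rw [map_smul, map_smul, map_smul, Finsupp.smul_apply]
  have : (X ^ (j + 1 : Fin p).val) (σ (e i)) = B (j + 1, i) := (hB' (j + 1, i)).symm
  rw [this, Module.Basis.repr_self, Finsupp.single_eq_of_ne, smul_zero]
  intro h
  have h1 : (j + 1 : Fin p) = j := (congrArg Prod.fst h).symm
  have h2 : (1 : Fin p) = 0 := by simpa using h1
  have := congrArg Fin.val h2
  simp [Nat.mod_eq_of_lt hp.one_lt] at this

end Cfsg.Agent.Lib.FirstPower.Lattice
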